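import Cfsg.Agent.Lib.LocalEven.PushMin.AltCore

/-!
A symmetrical class: a block of alternating type, in which the maximal subgroup cuts out a point stabiliser.
-/

set_option autoImplicit false
set_option linter.unusedSectionVars false

namespace CfsgLib.LocalEven.PushMin

open Cfsg Subgroup
open CfsgLib.Fusion (conjSub conj_mem_conjSub)
open CfsgLib.LocalEven.MinOffender (fx)
open CfsgLib.LocalEven.PMinFF (InT Link blk cls)
open Equiv (swap)
open scoped commutatorElement

/-- The one point outside the pairs. -/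
theorem exists_lone {K : Type*} [Finite K] {m : ℕ} (pa pb : K → Fin (m + 2)) (hk : 2 * Nat.card K = m + 1)
    (hne : ∀ B, pa B ≠ pb B)
    (hd : ∀ B B', B ≠ B' → pa B ≠ pa B' ∧ pa B ≠ pb B' ∧ pb B ≠ pa B' ∧ pb B ≠ pb B') :
    ∃ ω, (∀ B, ω ≠ pa B ∧ ω ≠ pb B) ∧ ∀ i, i ≠ ω → ∃ B, i = pa B ∨ i = pb B := by
  classical
  haveI : Fintype K := Fintype.ofFinite K
  let f : K × Bool → Fin (m + 2) := fun z => if z.2 then pa z.1 else pb z.1
  have hinj : Function.Injective f := by
    rintro ⟨B, c⟩ ⟨B', c'⟩ e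
    by_cases hBB : B = B'
    · subst hBB
      cases c <;> cases c' <;> simp only [f, Bool.false_eq_true, if_false, if_true] at e ⊢
      · exact absurd e.symm (hne B)
      · exact absurd e (hne B)
    · obtain ⟨h1, h2, h3, h4⟩ := hd B B' hBB
      cases c <;> cases c' <;> simp only [f, Bool.false_eq_true, if_false, if_true] at e
      · exact absurd e h4
      · exact absurd e h3
      · exact absurd e h2
      · exact absurd e h1
  set S := Finset.univ.image f with hS
  have hcS : S.card = m + 1 := by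
    rw [hS, Finset.card_image_of_injective _ hinj, Finset.card_univ, Fintype.card_prod, Fintype.card_bool,
      ← Nat.card_eq_fintype_card, mul_comm, hk]
  obtain ⟨ω, hω⟩ := exists_notMem_finset S (by omega)
  have hωf : ∀ z, f z ≠ ω := fun z e => hω (Finset.mem_image.2 ⟨z, Finset.mem_univ _, e⟩)
  refine ⟨ω, fun B => ⟨fun e => hωf (B, true) (by simp [f, e]), fun e => hωf (B, false) (by simp [f, e])⟩,
    fun i hi => ?_⟩
  have hmem : i ∈ S := by
    by_contra hiS
    have h1 := Finset.card_le_univ (insert ω (insert i S))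
    rw [Finset.card_insert_of_notMem (by simp [Ne.symm hi, hω]), Finset.card_insert_of_notMem hiS, hcS,
      Fintype.card_fin] at h1
    omega
  obtain ⟨⟨B, c⟩, -, e⟩ := Finset.mem_image.1 hmem
  cases c
  · exact ⟨B, Or.inr (by simpa [f] using e.symm)⟩
  · exact ⟨B, Or.inl (by simpa [f] using e.symm)⟩

variable {G : Type*} [Group G] [Finite G]

theorem Hyps.memberBlock_alt {T : Sylow 2 G} {M : Subgroup G} (h : Hyps 2 T M) {D : Subgroup (G ⧸ kerV 2 G)}
    (hD : InT 2 (bT T) (Additive ↥(modV 2 G)) D) (h2 : Nat.card ↥D = 2)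
    (hex : ∃ D₂, InT 2 (bT T) (Additive ↥(modV 2 G)) D₂ ∧ Link 2 (bT T) (Additive ↥(modV 2 G)) D D₂ ∧ D₂ ≠ D) :
    MemberBlock T M D := by
  classical
  set V := Additive ↥(modV 2 G)
  set C := cls 2 (bT T) (Additive ↥(modV 2 G)) D with hC
  obtain ⟨n, m, ρ, ψ, pa, pb, W, c⟩ := exists_altCore h hD h2 hex
  have r := c.rep
  have hs := h.setting
  set E := clsRes T D with hE
  set Mx := M.map (pr 2 G) with hMx
  obtain ⟨ω, hω, hpairs⟩ := exists_lone pa pb c.pairs r.ne r.disj
  let B₀ : ClsMem T D := ⟨D, hD, Or.inl rfl⟩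
  have hcard : ∀ B : ClsMem T D, Nat.card ↥B.1 = 2 := fun B => (InT.card_eq hs hD B.2.1).trans h2
  choose a ha ha1 using fun B : ClsMem T D => InT.exists_ne_one hs B.2.1
  have hBC : ∀ B : ClsMem T D, B.1 ≤ C := fun B => (InT.blk_min hs B.2.1).aLe.trans (blk_le_cls B)
  have hρa : ∀ B, ρ ⟨a B, hBC B (ha B)⟩ = swap (pa B) (pb B) := fun B => r.swaps B _ (ha B) (ha1 B)
  have huniq : ∀ (B : ClsMem T D) (g : G ⧸ kerV 2 G), g ∈ B.1 → g ≠ 1 → g = a B := fun B g hg hg1 => by
    obtain ⟨y, -, hy⟩ := (Nat.card_eq_two_iff' (1 : ↥B.1)).1 (hcard B)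
    exact congrArg Subtype.val ((hy ⟨g, hg⟩ fun e => hg1 (congrArg Subtype.val e)).trans
      (hy ⟨a B, ha B⟩ fun e => ha1 B (congrArg Subtype.val e)).symm)
  -- elements of the residual fixing a vector
  have hfixE : ∀ (v : V) (g : ↥C), (g : G ⧸ kerV 2 G) ∈ E.map (pr 2 G) → (∀ i, ψ v ((ρ g)⁻¹ i) = ψ v i) →
      (g : G ⧸ kerV 2 G) • v = v := by
    rintro v g ⟨e, he, hge⟩ hσ
    refine sub_eq_zero.1 ?_
    have hd : val ((g : G ⧸ kerV 2 G) • v - v) = ⁅e, val v⁆ := by
      rw [← hge, sub_eq_add_neg, val_add, val_smul, commutatorElement_def]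
      rfl
    have hdW : val ((g : G ⧸ kerV 2 G) • v - v) ∈ W := by
      rw [hd]; exact c.core e he _ (Hyps.modV_le (val_mem v))
    have h0 : ψ ((g : G ⧸ kerV 2 G) • v - v) = 0 := by
      funext i
      rw [map_sub, Pi.sub_apply, r.act, hσ i, sub_self]
      rfl
    exact val_ext (c.inj _ (val_mem _) hdW h0)
  -- a vector fixed by the Sylow subgroup is constant outside the lone point
  have hconst : ∀ v ∈ fx V ((bT T : Sylow 2 (G ⧸ kerV 2 G)) : Subgroup (G ⧸ kerV 2 G)), ∀ i j, i ≠ ω → j ≠ ω →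
      ψ v i = ψ v j := by
    intro v hv
    have hpair : ∀ B, ψ v (pb B) = ψ v (pa B) := fun B => by
      have h1 := r.act ⟨a B, hBC B (ha B)⟩ v (pa B)
      rw [hρa B, Equiv.swap_inv, Equiv.swap_apply_left, show (a B) • v = v from hv _ (B.2.1.2 (ha B))] at h1
      exact h1.symm
    -- the overgroup of a member moves only its pair and the lone point
    have htriple : ∀ (B : ClsMem T D) (g : ↥C), (g : G ⧸ kerV 2 G) ∈ blk 2 (bT T) V B.1 → ∀ B', B' ≠ B →
        (ρ g (pa B') = pa B' ∧ ρ g (pb B') = pb B') ∨ (ρ g (pa B') = pb B' ∧ ρ g (pb B') = pa B') := by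
      intro B g hg B' hne
      have hc : Commute (⟨a B', hBC B' (ha B')⟩ : ↥C) g := Subtype.ext
        (InT.blk_comm hs B.2.1 B'.2.1 (fun e => hne (Subtype.ext e)) (a B') (ha B') g hg)
      have h1 : ρ g * swap (pa B') (pb B') * (ρ g)⁻¹ = swap (pa B') (pb B') := by
        rw [← hρa B', ← (hc.map ρ).eq, mul_inv_cancel_right]
      rw [← Equiv.swap_apply_apply] at h1
      have h2' := congrArg (fun σ : Equiv.Perm (Fin (m + 2)) => σ (ρ g (pa B'))) h1
      simp only [Equiv.swap_apply_left] at h2'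
      by_cases e1 : ρ g (pa B') = pa B'
      · rw [e1, Equiv.swap_apply_left] at h2'
        exact Or.inl ⟨e1, h2'⟩
      by_cases e2 : ρ g (pa B') = pb B'
      · rw [e2, Equiv.swap_apply_right] at h2'
        exact Or.inr ⟨e2, h2'⟩
      rw [Equiv.swap_apply_of_ne_of_ne e1 e2] at h2'
      exact absurd ((ρ g).injective h2') (Ne.symm (r.ne B'))
    have hin3 : ∀ (B : ClsMem T D) (g : ↥C), (g : G ⧸ kerV 2 G) ∈ blk 2 (bT T) V B.1 → ∀ i,
        (i = ω ∨ i = pa B ∨ i = pb B) → ρ g i = ω ∨ ρ g i = pa B ∨ ρ g i = pb B := by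
      intro B g hg i hi
      by_contra hcon
      push Not at hcon
      obtain ⟨B', hB'⟩ := hpairs _ hcon.1
      have hne : B' ≠ B := by
        rintro rfl
        rcases hB' with e | e
        · exact hcon.2.1 e
        · exact hcon.2.2 e
      have hi' : i = pa B' ∨ i = pb B' := by
        rcases htriple B g hg B' hne with ⟨e1, e2⟩ | ⟨e1, e2⟩ <;> rcases hB' with e | e
        · exact Or.inl ((ρ g).injective (e.trans e1.symm))
        · exact Or.inr ((ρ g).injective (e.trans e2.symm))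
        · exact Or.inr ((ρ g).injective (e.trans e2.symm))
        · exact Or.inl ((ρ g).injective (e.trans e1.symm))
      obtain ⟨d1, d2, d3, d4⟩ := r.disj B B' (Ne.symm hne)
      rcases hi with e | e | e <;> rcases hi' with e' | e'
      · exact (hω B').1 (e.symm.trans e')
      · exact (hω B').2 (e.symm.trans e')
      · exact d1 (e.symm.trans e')
      · exact d2 (e.symm.trans e')
      · exact d3 (e.symm.trans e')
      · exact d4 (e.symm.trans e')
    have hiff : ∀ B : ClsMem T D, v ∈ fx V (blk 2 (bT T) V B.1) ↔ ψ v (pa B) = ψ v ω := by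
      intro B
      constructor
      · intro hvB
        obtain ⟨x, hxL, -, hgen⟩ := PMinFF.Top.exists_out hs (InT.piece hs B.2.1) (InT.top hs B.2.1)
          (InT.blk_min hs B.2.1) (InT.blk_le hs B.2.1)
        have hxC : x ∈ C := blk_le_cls B hxL
        by_cases hxω : ρ ⟨x, hxC⟩ ω = ω
        · -- then the member is central in its overgroup
          exfalso
          have hxa : x * a B * x⁻¹ = a B := by
            have key : ρ (⟨x, hxC⟩ * ⟨a B, hBC B (ha B)⟩ * ⟨x, hxC⟩⁻¹) = ρ ⟨a B, hBC B (ha B)⟩ := by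
              rw [map_mul, map_mul, map_inv, hρa B, ← Equiv.swap_apply_apply]
              have h1 := hin3 B ⟨x, hxC⟩ hxL (pa B) (Or.inr (Or.inl rfl))
              have h2' := hin3 B ⟨x, hxC⟩ hxL (pb B) (Or.inr (Or.inr rfl))
              have hne' : ρ ⟨x, hxC⟩ (pa B) ≠ ρ ⟨x, hxC⟩ (pb B) := fun e => r.ne B ((ρ _).injective e)
              have hnω : ∀ i, i ≠ ω → ρ ⟨x, hxC⟩ i ≠ ω := fun i hi e => hi ((ρ _).injective (e.trans hxω.symm))
              rcases h1.resolve_left (hnω _ (Ne.symm (hω B).1)) with e | e <;>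
                rcases h2'.resolve_left (hnω _ (Ne.symm (hω B).2)) with e' | e'
              · exact absurd (e.trans e'.symm) hne'
              · rw [e, e']
              · rw [e, e', Equiv.swap_comm]
              · exact absurd (e.trans e'.symm) hne'
            exact congrArg Subtype.val (r.bij.1 key)
          have hle : blk 2 (bT T) V B.1 ≤ Mx := by
            refine hgen.ge.trans (sup_le (B.2.1.2.trans hs.sylLe) ?_)
            rintro _ ⟨g, hg, rfl⟩
            show x * g * x⁻¹ ∈ Mx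
            by_cases hg1 : g = 1
            · rw [hg1, mul_one, mul_inv_cancel]; exact one_mem _
            · rw [huniq B g hg hg1, hxa]
              exact hs.sylLe (B.2.1.2 (ha B))
          exact (InT.blk_min hs B.2.1).notLe hle
        · have h1 := hin3 B ⟨x, hxC⟩ hxL ω (Or.inl rfl)
          have h2' := r.act ⟨x, hxC⟩ v (ρ ⟨x, hxC⟩ ω)
          rw [Equiv.Perm.inv_def, Equiv.symm_apply_apply, show x • v = v from hvB x hxL] at h2'
          rcases h1.resolve_left hxω with e | e
          · rw [e] at h2'; exact h2'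
          · rw [e, hpair B] at h2'; exact h2'
      · intro heq
        obtain ⟨-, W', x', s', hm⟩ := exists_altMem h B.2.1 (hcard B)
        have hmE : memRes T B.1 ≤ E := Baumann.pResidualOf_le_iff.2 fun g hg hgo =>
          Baumann.pResidualOf_le_iff.1 le_rfl g (blk_le_cls B hg) hgo
        have hle : blk 2 (bT T) V B.1 ≤ MulAction.stabilizer (G ⧸ kerV 2 G) v := by
          refine ((InT.blk_min hs B.2.1).least ((memRes T B.1).map (pr 2 G) ⊔ B.1) le_sup_right
            (sup_le hm.prE (InT.blk_min hs B.2.1).aLe) fun hle => hm.notLe fun e he =>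
              h.pr_mem_map.1 (hle (mem_sup_left (mem_map_of_mem _ he)))).trans
            (sup_le (fun g hg => ?_) fun g hg => hv g (B.2.1.2 hg))
          have hgL : g ∈ blk 2 (bT T) V B.1 := hm.prE hg
          refine hfixE v ⟨g, blk_le_cls B hgL⟩ (map_mono hmE hg) fun i => ?_
          obtain ⟨j, rfl⟩ := (ρ ⟨g, blk_le_cls B hgL⟩).surjective i
          rw [Equiv.Perm.inv_def, Equiv.symm_apply_apply]
          have h3 : ∀ i, (i = ω ∨ i = pa B ∨ i = pb B) → ψ v i = ψ v ω := by
            rintro i (rfl | rfl | rfl)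
            · rfl
            · exact heq
            · rw [hpair B, heq]
          by_cases hj : j = ω ∨ j = pa B ∨ j = pb B
          · rw [h3 j hj, h3 _ (hin3 B ⟨g, blk_le_cls B hgL⟩ hgL j hj)]
          · push Not at hj
            obtain ⟨B', hB'⟩ := hpairs j hj.1
            have hne : B' ≠ B := by
              rintro rfl
              rcases hB' with e | e
              · exact hj.2.1 e
              · exact hj.2.2 e
            rcases htriple B ⟨g, blk_le_cls B hgL⟩ hgL B' hne with ⟨e1, e2⟩ | ⟨e1, e2⟩ <;> rcases hB' with e | e <;>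
              subst e
            · rw [e1]
            · rw [e2]
            · rw [e1, hpair B']
            · rw [e2, hpair B']
        exact fun g hg => hle hg
    -- transport along the Sylow subgroup
    have htrans : ∀ B B' : ClsMem T D, ψ v (pa B) = ψ v ω → ψ v (pa B') = ψ v ω := by
      intro B B' hB
      refine (hiff B').1 ?_
      obtain ⟨t, ht, e⟩ := InT.exists_conj hs B.2.1 B'.2.1
      intro g hg
      rw [e, PMinFF.blk_conj hs ht] at hg
      obtain ⟨l, hl, rfl⟩ := hg
      show (t * l * t⁻¹) • v = v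
      rw [mul_smul, mul_smul, hv _ (inv_mem ht), (hiff B).2 hB l hl, hv _ ht]
    intro i j hi hj
    obtain ⟨B, hB⟩ := hpairs i hi
    obtain ⟨B', hB'⟩ := hpairs j hj
    have e1 : ψ v i = ψ v (pa B) := by rcases hB with rfl | rfl; exacts [rfl, hpair B]
    have e2 : ψ v j = ψ v (pa B') := by rcases hB' with rfl | rfl; exacts [rfl, hpair B']
    rw [e1, e2]
    by_cases hz : ψ v (pa B) = ψ v ω
    · rw [hz, htrans B B' hz]
    · have hz' : ψ v (pa B') ≠ ψ v ω := fun e => hz (htrans B' B e)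
      exact (show ∀ p q o : ZMod 2, p ≠ o → q ≠ o → p = q from by decide) _ _ _ hz hz'
  have hstabfix : ∀ g : ↥C, Equiv.Perm.sign (ρ g) = 1 → ρ g ω = ω →
      ∀ v ∈ fx V ((bT T : Sylow 2 (G ⧸ kerV 2 G)) : Subgroup (G ⧸ kerV 2 G)), (g : G ⧸ kerV 2 G) • v = v := by
    intro g hg hgω v hv
    refine hfixE v g ((c.even g).2 hg) fun i => ?_
    by_cases hi : i = ω
    · rw [hi, Equiv.Perm.inv_def, (Equiv.symm_apply_eq (ρ g)).2 hgω.symm]
    · refine hconst v hv _ _ (fun e => hi ?_) hi
      rw [Equiv.Perm.inv_def, Equiv.symm_apply_eq, hgω] at e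
      exact e
  -- the maximal subgroup is the stabiliser of the lone point
  set 𝔐 := (Mx.subgroupOf C).map ρ with h𝔐
  have hMstab : ∀ π : Equiv.Perm (Fin (m + 2)), π ω = ω → π ∈ 𝔐 := by
    have heven : ∀ π : Equiv.Perm (Fin (m + 2)), Equiv.Perm.sign π = 1 → π ω = ω → π ∈ 𝔐 := fun π h1 h2' => by
      obtain ⟨g, rfl⟩ := r.bij.2 π
      exact mem_map_of_mem ρ (show (g : G ⧸ kerV 2 G) ∈ Mx from hs.moved _ (hstabfix g h1 h2'))
    intro π hπ
    rcases Int.units_eq_one_or (Equiv.Perm.sign π) with e | e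
    · exact heven π e hπ
    · have h1 : π * swap (pa B₀) (pb B₀) ∈ 𝔐 := heven _ (by
        rw [map_mul, e, Equiv.Perm.sign_swap (r.ne B₀)]; rfl) (by
        rw [Equiv.Perm.mul_apply, Equiv.swap_apply_of_ne_of_ne (hω B₀).1 (hω B₀).2, hπ])
      have h2' : swap (pa B₀) (pb B₀) ∈ 𝔐 :=
        ⟨⟨a B₀, hBC B₀ (ha B₀)⟩, show a B₀ ∈ Mx from hs.sylLe (B₀.2.1.2 (ha B₀)), hρa B₀⟩
      have := 𝔐.mul_mem h1 h2'
      rwa [Equiv.mul_swap_mul_self] at this
  have hMfix : ∀ τ ∈ 𝔐, τ ω = ω := by
    intro τ hτ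
    by_contra hne
    refine c.notLe fun e he => h.pr_mem_map.1 ?_
    have htop := eq_top_of_stab 𝔐 hMstab hτ hne
    obtain ⟨g, hg, hge⟩ : ρ ⟨_, c.prC (mem_map_of_mem _ he)⟩ ∈ 𝔐 := htop ▸ mem_top _
    rw [r.bij.1 hge] at hg
    exact hg
  -- the map onto the alternating group
  let f : ↥E →* ↥(alternatingGroup (Fin (m + 2))) :=
    (ρ.comp (((pr 2 G).comp E.subtype).codRestrict C fun e => c.prC (mem_map_of_mem _ e.2))).codRestrict _ fun e =>
      Equiv.Perm.mem_alternatingGroup.2 ((c.even _).1 (mem_map_of_mem _ e.2))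
  have hfval : ∀ e : ↥E, (f e : Equiv.Perm (Fin (m + 2))) = ρ ⟨pr 2 G e, c.prC (mem_map_of_mem _ e.2)⟩ :=
    fun e => rfl
  have hfs : Function.Surjective f := by
    rintro ⟨σ, hσ⟩
    obtain ⟨g, rfl⟩ := r.bij.2 σ
    obtain ⟨e, he, hge⟩ := (c.even g).2 (Equiv.Perm.mem_alternatingGroup.1 hσ)
    exact ⟨⟨e, he⟩, Subtype.ext (congrArg ρ (Subtype.ext hge))⟩
  have hmemM : ∀ e : ↥E, (e : G) ∈ M ↔ (f e : Equiv.Perm (Fin (m + 2))) ω = ω := fun e => by
    rw [hfval, ← h.pr_mem_map]
    refine ⟨fun he => hMfix _ (mem_map_of_mem ρ (show (⟨_, c.prC (mem_map_of_mem _ e.2)⟩ : ↥C) ∈ Mx.subgroupOf C from he)),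
      fun he => ?_⟩
    obtain ⟨g, hg, hge⟩ := hMstab _ he
    rw [r.bij.1 hge] at hg
    exact hg
  -- the core
  haveI hWn : (W.subgroupOf E).Normal := normal_subgroupOf_of_le_normalizer c.conjW
  have hfker : f.ker = W.subgroupOf E := by
    ext e
    rw [MonoidHom.mem_ker, mem_subgroupOf]
    constructor
    · intro he
      refine c.infQ e e.2 (c.ker ▸ pr_eq_one.1 ?_)
      exact congrArg Subtype.val (r.bij.1 ((congrArg Subtype.val he).trans (map_one ρ).symm))
    · intro he
      refine Subtype.ext ?_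
      rw [hfval, OneMemClass.coe_one, show (⟨pr 2 G e, c.prC (mem_map_of_mem _ e.2)⟩ : ↥C) = 1 from Subtype.ext
        (pr_eq_one.2 (Hyps.core_le_ker (Hyps.modV_le (c.leV he)))), map_one]
  have h5 : 5 ≤ m + 2 := by
    have h1 := r.size
    have h4 := r.four
    rcases n with _ | n'
    · simp at h1; omega
    · rw [pow_succ] at h1; omega
  haveI : IsSimpleGroup ↥(alternatingGroup (Fin (m + 2))) := alternatingGroup.isSimpleGroup (by
    rw [Nat.card_eq_fintype_card, Fintype.card_fin]; exact h5)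
  have hcoreW : pCore 2 ↥E = W.subgroupOf E := by
    refine le_antisymm ?_ (CfsgLib.Cores.le_pCore (((CfsgLib.Cores.isPGroup_pCore 2).to_le
      (c.leV.trans Hyps.modV_le)).comap_subtype))
    rw [← hfker]
    haveI : (pCore 2 ↥E).Normal := inferInstance
    rcases ((inferInstance : (pCore 2 ↥E).Normal).map f hfs).eq_bot_or_eq_top with e | e
    · exact (Subgroup.map_eq_bot_iff _).1 e
    · exfalso
      obtain ⟨σ, hσ⟩ : ∃ σ : Equiv.Perm (Fin (m + 2)), σ.IsThreeCycle := by
        refine ⟨swap 0 ⟨1, by omega⟩ * swap 0 ⟨2, by omega⟩, Equiv.Perm.isThreeCycle_swap_mul_swap_same ?_ ?_ ?_⟩ <;>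
          simp [Fin.ext_iff]
      obtain ⟨i, hi⟩ := ((CfsgLib.Cores.isPGroup_pCore (p := 2) (G := ↥E)).map f)
        ⟨⟨σ, hσ.mem_alternatingGroup⟩, e.ge (mem_top _)⟩
      have h1 : orderOf σ ∣ 2 ^ i := orderOf_dvd_of_pow_eq_one (by
        simpa using congrArg (fun z => ((Subtype.val z : ↥(alternatingGroup (Fin (m + 2)))) :
          Equiv.Perm (Fin (m + 2)))) hi)
      rw [hσ.orderOf] at h1
      exact absurd ((Nat.prime_dvd_prime_iff_eq Nat.prime_three Nat.prime_two).1 (Nat.prime_three.dvd_of_dvd_pow h1))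
        (by norm_num)
  have hcoreOf : pCoreOf 2 E = W := by
    rw [pCoreOf, hcoreW, map_subgroupOf_eq_of_le c.leE]
  have hWom : omegaOneCenter 2 W = W := by
    refine le_antisymm (Oz.le_self W) fun w hw => Oz.mem_iff.2 ⟨hw, fun y hy => ?_, pow_eq_one_of_mem (c.leV hw)⟩
    exact (Oz.mem_iff.1 (c.leV hw)).2.1 y (Hyps.modV_le (c.leV hy))
  have hWcent : W ⊓ centralizer (E : Set G) = ⊥ := eq_bot_iff.2 fun u hu => mem_bot.2
    (c.noFix u hu.1 fun e he => mem_centralizer_iff.1 hu.2 e he)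
  -- alternating clauses
  have hquot : ∀ N, N = m + 2 → Nonempty (↥E ⧸ pCore 2 ↥E ≃* ↥(alternatingGroup (Fin N))) := by
    rintro N rfl
    exact ⟨(QuotientGroup.quotientMulEquivOfEq (hcoreW.trans hfker.symm)).trans
      (QuotientGroup.quotientKerEquivOfSurjective f hfs)⟩
  have hacts : ∀ N, N = m + 2 → ActsAsOddPermModuleOnSection N (alternatingGroup (Fin N)) E W ⊥ := by
    rintro N rfl
    refine ⟨c.conjW, bot_le, (alternatingGroup (Fin (m + 2))).subtype.comp f,
      MonoidHom.mk' (fun u => Multiplicative.ofAdd (ψ (toMod (u : G) (c.leV u.2)))) (fun u w => by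
        rw [← ofAdd_add]
        exact congrArg Multiplicative.ofAdd (map_add ψ (toMod (u : G) (c.leV u.2)) (toMod (w : G) (c.leV w.2)))),
      ?_, fun u => r.sum _, fun v hv => ?_, fun u => ?_, fun e u => ?_⟩
    · rw [MonoidHom.range_comp, MonoidHom.range_eq_top.2 hfs, ← MonoidHom.range_eq_map, range_subtype]
    · obtain ⟨u, hu, hu', hue⟩ := c.onto v hv
      exact ⟨⟨u, hu'⟩, hue⟩
    · rw [mem_bot]
      exact ⟨fun e => c.inj u _ u.2 (congrArg Multiplicative.toAdd e), fun e => by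
        show Multiplicative.ofAdd (ψ _) = 1
        rw [show toMod (u : G) (c.leV u.2) = 0 from val_ext e, map_zero]
        rfl⟩
    · refine ⟨⟨(e : G) * u * (e : G)⁻¹, (mem_normalizer_iff.1 (c.conjW e.2) _).1 u.2⟩, rfl, fun i => ?_⟩
      show ψ (toMod ((e : G) * u * (e : G)⁻¹) _) i = ψ (toMod (u : G) _) ((f e : Equiv.Perm (Fin (m + 2)))⁻¹ i)
      rw [hfval, ← r.act]
      exact congrArg (fun z => ψ z i) (val_ext (val_smul (e : G) (toMod (u : G) (c.leV u.2))).symm)
  set k := Nat.card (ClsMem T D) with hk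
  have hm : 2 * k + 1 = m + 2 := by
    have := c.pairs
    omega
  have hblock : IsBaumannBlock 2 (T : Subgroup G) E := by
    refine ⟨le_antisymm (map_subtype_le _) (Baumann.pResidualOf_le_iff.2 fun g hg hgo => ?_), c.commB, ?_, c.omega,
      Or.inr ⟨rfl, k, hquot _ hm, ?_, ?_⟩⟩
    · have hgE : g ∈ E := Baumann.pResidualOf_le_iff.1 le_rfl g hg hgo
      exact Baumann.pResidualOf_le_iff.1 le_rfl g hgE hgo
    · rw [hcoreOf]
      refine le_antisymm (commutator_le.2 fun w hw e he => ?_) c.perfW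
      rw [show ⁅w, e⁆ = w * (e * w⁻¹ * e⁻¹) by simp only [commutatorElement_def]; group]
      exact mul_mem hw ((mem_normalizer_iff.1 (c.conjW he) _).1 (inv_mem hw))
    · rw [hcoreOf, hWom, hWcent]
      exact hacts _ hm
    · rw [hcoreOf, hWom]
  refine ⟨hblock, c.notLe, fun e he hctrl => ?_, ?_, Or.inr (Or.inl ⟨rfl, k, hquot _ hm, ?_⟩), fun m' hm' => ?_⟩
  · -- control of fusion
    refine (hmemM ⟨e, he⟩).2 (by_contra fun hne => ?_)
    set g : ↥C := ⟨pr 2 G e, c.prC (mem_map_of_mem _ he)⟩ with hg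
    have hj : (ρ g).symm ω ≠ ω := fun e' => hne ((Equiv.symm_apply_eq (ρ g)).1 e').symm
    obtain ⟨B, hB⟩ := hpairs _ hj
    have h1 : (g * ⟨a B, hBC B (ha B)⟩ * g⁻¹ : ↥C) ∈ Mx.subgroupOf C :=
      hctrl B.1 B.2.1 B.2.2 (conj_mem_conjSub (g := pr 2 G e) (ha B))
    have h2' := hMfix _ (mem_map_of_mem ρ h1)
    rw [map_mul, map_mul, map_inv, hρa B, ← Equiv.swap_apply_apply] at h2'
    have hω' : ρ g ((ρ g).symm ω) = ω := Equiv.apply_symm_apply _ _
    have hne2 : ρ g (pa B) ≠ ρ g (pb B) := fun e' => r.ne B ((ρ g).injective e')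
    rcases hB with e' | e' <;> rw [e'] at hω' <;> rw [← hω'] at h2'
    · rw [Equiv.swap_apply_left] at h2'; exact hne2 h2'.symm
    · rw [Equiv.swap_apply_right] at h2'; exact hne2 h2'
  · rintro e ⟨heM, he⟩
    refine mem_sup_left (mem_centralizer_iff.2 fun z hz => ?_)
    have h1 := (hmemM ⟨e, he⟩).1 heM
    rw [hfval] at h1
    refine (pr_smul_eq.1 (hstabfix ⟨pr 2 G e, c.prC (mem_map_of_mem _ he)⟩ ((c.even _).1 (mem_map_of_mem _ he)) h1
      (toMod z (h.omega_le_modV hz)) ?_)).symm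
    rw [coe_bT, mem_fx_map]
    exact fun t ht => ((Oz.mem_iff.1 hz).2.1 t ht)
  · -- the stabiliser
    have key : ∀ R : ℕ, R = m + 1 →
        Nonempty (↥(((M ⊓ E).subgroupOf E).map (QuotientGroup.mk' (pCore 2 ↥E))) ≃* ↥(alternatingGroup (Fin R))) := by
      rintro R rfl
      obtain ⟨θ, hθi, hθ⟩ := exists_stab_equiv ω
      set q := ((QuotientGroup.quotientMulEquivOfEq (hcoreW.trans hfker.symm)).trans
        (QuotientGroup.quotientKerEquivOfSurjective f hfs))
      set g := (alternatingGroup (Fin (m + 2))).subtype.comp q.toMonoidHom with hg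
      have hgi : Function.Injective g := (Subgroup.subtype_injective _).comp q.injective
      have himg : (((M ⊓ E).subgroupOf E).map (QuotientGroup.mk' (pCore 2 ↥E))).map g =
          (alternatingGroup (Fin (m + 1))).map θ := by
        ext σ
        rw [hθ, Subgroup.map_map, mem_map]
        constructor
        · rintro ⟨e, he, rfl⟩
          exact ⟨Equiv.Perm.mem_alternatingGroup.1 (f e).2, (hmemM e).1 he.1⟩
        · rintro ⟨h1, h2'⟩
          obtain ⟨e, he⟩ := hfs ⟨σ, Equiv.Perm.mem_alternatingGroup.2 h1⟩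
          refine ⟨e, ⟨(hmemM e).2 ?_, e.2⟩, congrArg Subtype.val he⟩
          rw [he]
          exact h2'
      exact ⟨((equivMapOfInjective _ g hgi).trans (MulEquiv.subgroupCongr himg)).trans
        (equivMapOfInjective _ θ hθi).symm⟩
    exact key _ (by omega)
  · -- the degree
    refine ⟨n, (two_factorial_inj r.four ?_).trans r.size⟩
    obtain ⟨e⟩ := hm'
    obtain ⟨e'⟩ := hquot _ rfl
    haveI : Nontrivial (Fin (m + 2)) := Fin.nontrivial_iff_two_le.2 (by omega)
    rw [Nat.card_congr (e.symm.trans e').toEquiv, two_mul_nat_card_alternatingGroup, Nat.card_perm,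
      Nat.card_eq_fintype_card, Fintype.card_fin]

end CfsgLib.LocalEven.PushMin
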