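import Cfsg.Agent.Lib.LocalEven.PushMin.Linear

/-!
Either all classes have one member, or every member has two elements and a linked partner.
-/

set_option autoImplicit false

namespace CfsgLib.LocalEven.PushMin

open Cfsg Subgroup
open CfsgLib.Fusion (conjSub conjSub_conjSub conjSub_one)
open CfsgLib.LocalEven.PMinFF (InT Link)

variable {G : Type*} [Group G] [Finite G] {p : ℕ} [Fact p.Prime] {T : Sylow p G} {M : Subgroup G}

theorem Hyps.classes_cases (h : Hyps p T M) :
    OneClasses T ∨ ∀ D, InT p (bT T) (Additive ↥(modV p G)) D → Nat.card ↥D = 2 ∧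
      ∃ D', InT p (bT T) (Additive ↥(modV p G)) D' ∧ Link p (bT T) (Additive ↥(modV p G)) D D' ∧ D' ≠ D := by
  have hs := h.setting
  by_cases hone : OneClasses T
  · exact Or.inl hone
  right
  simp only [OneClasses] at hone
  push Not at hone
  obtain ⟨D₀, D₁, hD₀, hD₁, hl, hne⟩ := hone
  have h2 : Nat.card ↥D₀ = 2 := by_contra fun h2 => hne (PMinFF.Link.eq_of_card hs hD₀ hD₁ h2 hl)
  intro D hD
  refine ⟨(InT.card_eq hs hD₀ hD).trans h2, ?_⟩
  obtain ⟨t, ht, rfl⟩ := InT.exists_conj hs hD₀ hD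
  refine ⟨conjSub t D₁, InT.conj hs hD₁ ht, PMinFF.Link.conj hs ht hl, fun e => hne ?_⟩
  have := congrArg (conjSub t⁻¹) e
  rw [conjSub_conjSub, conjSub_conjSub, inv_mul_cancel, conjSub_one, conjSub_one] at this
  exact this.symm

/-- The block structure, given the symmetrical classes. -/
theorem Hyps.structure_of_alt (h : Hyps p T M)
    (halt : ∀ D, InT p (bT T) (Additive ↥(modV p G)) D → Nat.card ↥D = 2 →
      (∃ D', InT p (bT T) (Additive ↥(modV p G)) D' ∧ Link p (bT T) (Additive ↥(modV p G)) D D' ∧ D' ≠ D) →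
      MemberBlock T M D) :
    ∃ 𝓑 : Set (Subgroup G), HasBaumannBlockStructure p (T : Subgroup G) 𝓑 ∧
      (∀ E ∈ 𝓑, ∀ m : ℕ, Nonempty (↥E ⧸ pCore p ↥E ≃* ↥(alternatingGroup (Fin (2 * m + 1)))) →
        ∃ n : ℕ, 2 * m + 1 = 2 ^ n + 1) ∧
      cStarOf p (T : Subgroup G) = (cStarOf p (T : Subgroup G) ⊓ sSup 𝓑) ⊔ (T : Subgroup G) :=
  structure_of_members h fun D hD => h.classes_cases.elim (fun hone => memberBlock_single h hD hone)
    fun hall => halt D hD (hall D hD).1 (hall D hD).2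

end CfsgLib.LocalEven.PushMin
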