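import Cfsg.Agent.Lib.Techniques.CharTransfer.Fixed
import Cfsg.Agent.Lib.LocalEven.MinimalOver
import Cfsg.Agent.Lib.LocalEven.BlockBasic
import Cfsg.Agent.Lib.Solvable.LagrangeConverse
import Cfsg.Agent.Lib.OddLocal.ActionTools
import Cfsg.Prelude.Def_BaumannBlocks

/-!
Pushing up in a `p`-minimal group: the module, the image of the Baumann subgroup, and the centre of the
Thompson subgroup.
-/

set_option autoImplicit false

namespace CfsgLib.LocalEven.PushMin

open Cfsg Subgroup
open CfsgLib.LocalEven.MinOffender (fx)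
open CfsgLib.Techniques.CharTransfer (offJoin)
open scoped commutatorElement

section Defs

variable (p : ℕ) (G : Type*) [Group G]

/-- `Ω₁(Z(O_p(G)))`. -/
def modV : Subgroup G := omegaOneCenter p (pCore p G)

/-- The kernel of the action on `modV`. -/
def kerV : Subgroup G := centralizer (modV p G : Set G)

variable [Finite G]

instance modV_normal : (modV p G).Normal := by
  haveI := CfsgLib.Cores.pCore_characteristic (G := G) p
  refine Subgroup.normalizer_eq_top_iff.1 (top_le_iff.1 (le_trans ?_ (Oz.normalizer_le (pCore p G))))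
  rw [Subgroup.normalizer_eq_top]

instance kerV_normal : (kerV p G).Normal := by
  unfold kerV
  infer_instance

instance modV_commGroup : CommGroup ↥(modV p G) :=
  { (inferInstance : Group ↥(modV p G)) with
    mul_comm := fun a b => (Oz.elemAb (pCore p G)).1.1.comm a b }

/-- The quotient acts on the module. -/
def actHom : G ⧸ kerV p G →* MulAut ↥(modV p G) :=
  QuotientGroup.lift (kerV p G) (MulAut.conjNormal (H := modV p G)) fun c hc => by
    rw [MonoidHom.mem_ker]
    ext v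
    rw [MulAut.conjNormal_apply, MulAut.one_apply, ← Subgroup.mem_centralizer_iff.1 hc v v.2, mul_inv_cancel_right]

instance modAct : DistribMulAction (G ⧸ kerV p G) (Additive ↥(modV p G)) where
  smul x v := Additive.ofMul (actHom p G x (Additive.toMul v))
  one_smul v := by
    show Additive.ofMul (actHom p G 1 (Additive.toMul v)) = v
    rw [map_one, MulAut.one_apply, ofMul_toMul]
  mul_smul x y v := by
    show Additive.ofMul (actHom p G (x * y) (Additive.toMul v)) =
      Additive.ofMul (actHom p G x (actHom p G y (Additive.toMul v)))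
    rw [map_mul, MulAut.mul_apply]
  smul_zero x := congrArg Additive.ofMul (map_one (actHom p G x))
  smul_add x a b := congrArg Additive.ofMul (map_mul (actHom p G x) (Additive.toMul a) (Additive.toMul b))

/-- The quotient map. -/
def pr : G →* G ⧸ kerV p G := QuotientGroup.mk' (kerV p G)

end Defs

variable {G : Type*} [Group G] [Finite G] {p : ℕ}

/-- The element of `G` under a module element. -/
abbrev val (v : Additive ↥(modV p G)) : G := ((Additive.toMul v : ↥(modV p G)) : G)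

/-- An element of `modV` as a module element. -/
abbrev toMod (x : G) (hx : x ∈ modV p G) : Additive ↥(modV p G) := Additive.ofMul ⟨x, hx⟩

theorem val_ext {v w : Additive ↥(modV p G)} (e : val v = val w) : v = w := Additive.toMul.injective (Subtype.ext e)

theorem val_mem (v : Additive ↥(modV p G)) : val v ∈ modV p G := (Additive.toMul v).2

theorem pr_surjective : Function.Surjective (pr p G) := QuotientGroup.mk'_surjective _

theorem pr_eq_one {g : G} : pr p G g = 1 ↔ g ∈ kerV p G := QuotientGroup.eq_one_iff g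

theorem ker_pr : (pr p G).ker = kerV p G := QuotientGroup.ker_mk' _

theorem val_smul (g : G) (v : Additive ↥(modV p G)) : val (pr p G g • v) = g * val v * g⁻¹ :=
  MulAut.conjNormal_apply g _

theorem val_add (v w : Additive ↥(modV p G)) : val (v + w) = val v * val w := rfl

theorem pow_eq_one_of_mem {x : G} (hx : x ∈ modV p G) : x ^ p = 1 := (Oz.mem_iff.1 hx).2.2

theorem pr_smul_eq {g : G} {v : Additive ↥(modV p G)} : pr p G g • v = v ↔ g * val v = val v * g := by
  rw [← mul_inv_eq_iff_eq_mul, ← val_smul]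
  exact ⟨fun e => by rw [e], val_ext⟩

theorem mem_fx_map {K : Subgroup G} {v : Additive ↥(modV p G)} :
    v ∈ fx (Additive ↥(modV p G)) (K.map (pr p G)) ↔ ∀ k ∈ K, k * val v = val v * k :=
  ⟨fun hv k hk => pr_smul_eq.1 (hv _ ⟨k, hk, rfl⟩), fun hv => by
    rintro _ ⟨k, hk, rfl⟩
    exact pr_smul_eq.2 (hv k hk)⟩

theorem pr_map_inf_comap {K : Subgroup G} {D : Subgroup (G ⧸ kerV p G)} (h : D ≤ K.map (pr p G)) :
    (K ⊓ D.comap (pr p G)).map (pr p G) = D := by
  refine le_antisymm (map_le_iff_le_comap.2 inf_le_right) fun x hx => ?_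
  obtain ⟨k, hk, rfl⟩ := h hx
  exact ⟨k, ⟨hk, hx⟩, rfl⟩

variable [Fact p.Prime]

/-- The hypotheses. -/
structure Hyps (p : ℕ) (T : Sylow p G) (M : Subgroup G) : Prop where
  cE : centralizer (pCore p G : Set G) ≤ pCore p G
  coatom : IsCoatom M
  sylLe : (T : Subgroup G) ≤ M
  uniq : ∀ H : Subgroup G, (T : Subgroup G) ≤ H → H ≠ ⊤ → H ≤ M
  cs : cStarOf p (T : Subgroup G) ≤ M
  noChar : ∀ C : Subgroup G, C ≤ baumannSubgroupOf p (T : Subgroup G) → C ≠ ⊥ →
    (C.subgroupOf (baumannSubgroupOf p (T : Subgroup G))).Characteristic → ¬ C.Normal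
  zT_ne : omegaOneCenter p (T : Subgroup G) ≠ ⊥

theorem sylow_le_centralizer_omega (T : Sylow p G) :
    (T : Subgroup G) ≤ centralizer (omegaOneCenter p (T : Subgroup G) : Set G) := fun t ht =>
  mem_centralizer_iff.2 fun _ hz => ((Oz.mem_iff.1 hz).2.1 t ht).symm

omit [Fact p.Prime] in
/-- A subgroup normalising `S` normalises its characteristic subgroups. -/
theorem normalizer_le_of_char {S C : Subgroup G} (hC : C ≤ S) (hch : (C.subgroupOf S).Characteristic) :
    normalizer (S : Set G) ≤ normalizer (C : Set G) := by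
  haveI := hch
  have h1 := CfsgLib.OddLocal.normalizer_le_normalizer_map_characteristic (C.subgroupOf S)
    (G := G) (H := S)
  intro g hg
  have h2 := h1 hg
  rwa [map_subgroupOf_eq_of_le hC] at h2

theorem exists_hyps (hmin : IsPMinimal p G) (hG : centralizer (pCore p G : Set G) ≤ pCore p G) (T : Sylow p G)
    (hchar : ∀ C : Subgroup G, C ≤ baumannSubgroupOf p (T : Subgroup G) → C ≠ ⊥ →
      (C.subgroupOf (baumannSubgroupOf p (T : Subgroup G))).Characteristic → ¬ C.Normal)
    (hz : ¬ (omegaOneCenter p (T : Subgroup G)).Normal) : ∃ M, Hyps p T M := by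
  obtain ⟨M, ⟨hM, hTM⟩, huniq⟩ := (hmin T).2
  have huniq' : ∀ H : Subgroup G, (T : Subgroup G) ≤ H → H ≠ ⊤ → H ≤ M :=
    fun H h1 h2 => MinOver.le_of_ne_top huniq h1 h2
  refine ⟨M, hG, hM, hTM, huniq', sup_le (huniq' _ (sylow_le_centralizer_omega T) fun e => hz ?_)
    (iSup_le fun C => huniq' _ ((Baumann.baumann_normalized T).trans (normalizer_le_of_char C.2.1 C.2.2.2))
      fun e => hchar C C.2.1 C.2.2.1 C.2.2.2 (Subgroup.normalizer_eq_top_iff.1 e)), hchar,
    fun e => hz (e ▸ inferInstance)⟩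
  refine ⟨fun z hz' g => ?_⟩
  have h1 : g ∈ centralizer (omegaOneCenter p (T : Subgroup G) : Set G) := e ▸ mem_top g
  rw [← mem_centralizer_iff.1 h1 z hz', mul_inv_cancel_right]
  exact hz'

/-- The image of the Sylow subgroup. -/
noncomputable def bT (T : Sylow p G) : Sylow p (G ⧸ kerV p G) := T.mapSurjective pr_surjective

theorem coe_bT (T : Sylow p G) : ((bT T : Sylow p (G ⧸ kerV p G)) : Subgroup (G ⧸ kerV p G)) =
    (T : Subgroup G).map (pr p G) := rfl

/-- `Ω₁(Z(J(T)))`. -/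
def zJ (p : ℕ) (T : Subgroup G) : Subgroup G := omegaOne p (centerThompsonOf p T)

theorem baumann_eq (T : Subgroup G) : baumannSubgroupOf p T = T ⊓ centralizer (zJ p T : Set G) := rfl

namespace Hyps

variable {T : Sylow p G} {M : Subgroup G} (h : Hyps p T M)
include h

theorem baumann_char_ne {C : Subgroup G} (hC : C ≤ baumannSubgroupOf p (T : Subgroup G)) (hne : C ≠ ⊥)
    (hch : (C.subgroupOf (baumannSubgroupOf p (T : Subgroup G))).Characteristic) :
    normalizer (C : Set G) ≤ M :=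
  le_trans (le_trans (le_iSup (fun C : {C : Subgroup G // C ≤ baumannSubgroupOf p (T : Subgroup G) ∧ C ≠ ⊥ ∧
      (C.subgroupOf (baumannSubgroupOf p (T : Subgroup G))).Characteristic} =>
    normalizer ((C : Subgroup G) : Set G)) ⟨C, hC, hne, hch⟩) le_sup_right) h.cs

theorem cent_omega_le : centralizer (omegaOneCenter p (T : Subgroup G) : Set G) ≤ M := le_trans le_sup_left h.cs

theorem core_le : pCore p G ≤ (T : Subgroup G) := CfsgLib.Cores.pCore_le_sylow T

omit h in
theorem core_le_ker : pCore p G ≤ kerV p G :=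
  fun q hq => mem_centralizer_iff.2 fun _ hv => ((Oz.mem_iff.1 hv).2.1 q hq).symm

omit h in
theorem modV_le : modV p G ≤ pCore p G := Oz.le_self _

theorem omega_le_modV : omegaOneCenter p (T : Subgroup G) ≤ modV p G := fun z hz => by
  obtain ⟨-, hzc, hzp⟩ := Oz.mem_iff.1 hz
  exact Oz.mem_iff.2 ⟨h.cE (mem_centralizer_iff.2 fun q hq => hzc q (h.core_le hq)),
    fun q hq => hzc q (h.core_le hq), hzp⟩

theorem ker_le : kerV p G ≤ M := (centralizer_le h.omega_le_modV).trans h.cent_omega_le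

theorem inf_ker : (T : Subgroup G) ⊓ kerV p G = pCore p G :=
  le_antisymm (MinOver.inf_le_pCore T h.coatom
    (fun M' hM' => ((hM'.1.le_iff_eq h.coatom.1).1 (h.uniq M' hM'.2 hM'.1.1)).symm) _ h.ker_le)
    (le_inf h.core_le core_le_ker)

theorem pr_mem_map {g : G} : pr p G g ∈ M.map (pr p G) ↔ g ∈ M := by
  refine ⟨fun hg => ?_, mem_map_of_mem _⟩
  have h1 : g ∈ (M.map (pr p G)).comap (pr p G) := hg
  rwa [comap_map_eq_self (by rw [ker_pr]; exact h.ker_le)] at h1

theorem setting : PMinFF.Setting p (bT T) (M.map (pr p G)) (Additive ↥(modV p G)) := by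
  refine ⟨fun v => val_ext ?_, fun x hx => ?_, ?_, fun e => ?_, fun H hH hne => ?_, fun E hE hEp => ?_,
    fun x hx => ?_⟩
  · show val (p • v) = _
    rw [val, toMul_nsmul, Subgroup.coe_pow]
    exact pow_eq_one_of_mem (val_mem v)
  · obtain ⟨g, rfl⟩ := pr_surjective x
    exact pr_eq_one.2 (mem_centralizer_iff.2 fun v hv => (pr_smul_eq.1 (hx (toMod v hv))).symm)
  · exact map_mono h.sylLe
  · exact h.coatom.1 (top_le_iff.1 fun g _ => h.pr_mem_map.1 (e ▸ mem_top _))
  · rw [← map_comap_eq_self_of_surjective pr_surjective H]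
    refine map_mono (h.uniq _ (fun t ht => hH ⟨t, ht, rfl⟩) fun e => hne ?_)
    rw [← map_comap_eq_self_of_surjective pr_surjective H, e, map_top_of_surjective _ pr_surjective]
  · haveI := hE
    have hKM : E.comap (pr p G) ≤ M := fun g hg =>
      h.pr_mem_map.1 (map_mono h.sylLe (hEp.le_sylow_of_normal (bT T) hg))
    rw [eq_bot_iff_forall]
    intro x hx
    obtain ⟨t, ht, rfl⟩ := hEp.le_sylow_of_normal (bT T) hx
    refine pr_eq_one.2 (core_le_ker ?_)
    exact MinOver.inf_le_pCore T h.coatom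
      (fun M' hM' => ((hM'.1.le_iff_eq h.coatom.1).1 (h.uniq M' hM'.2 hM'.1.1)).symm) _ hKM ⟨ht, hx⟩
  · obtain ⟨g, rfl⟩ := pr_surjective x
    refine ⟨g, h.cent_omega_le (mem_centralizer_iff.2 fun z hz => ?_), rfl⟩
    refine (pr_smul_eq.1 (hx (toMod z (h.omega_le_modV hz)) ?_)).symm
    rw [coe_bT, mem_fx_map]
    exact fun t ht => ((Oz.mem_iff.1 hz).2.1 t ht)

theorem jT_not_le : ¬ thompsonSubgroupOf p (T : Subgroup G) ≤ kerV p G := by
  intro hle
  set B := baumannSubgroupOf p (T : Subgroup G) with hB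
  have hJQ : thompsonSubgroupOf p (T : Subgroup G) ≤ pCore p G :=
    h.inf_ker ▸ le_inf (CfsgLib.Transfer.thompsonSubgroupOf_le p _) hle
  have hJn : (thompsonSubgroupOf p (T : Subgroup G)).Normal := by
    have e : thompsonSubgroup p G = thompsonSubgroupOf p (T : Subgroup G) := by
      rw [CfsgLib.Transfer.thompsonSubgroup_eq_iSup]
      exact le_antisymm (iSup_le fun S => (Baumann.thompson_eq_of_le (T := T) (T' := S)
        (hJQ.trans (CfsgLib.Cores.pCore_le_sylow S))).le)
        (le_iSup (fun S : Sylow p G => thompsonSubgroupOf p (S : Subgroup G)) T)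
    exact e ▸ CfsgLib.Transfer.thompsonSubgroup_normal_inst' p
  refine h.noChar _ (Baumann.thompson_le_baumann _) (fun e => h.zT_ne ?_) ?_ hJn
  · exact le_bot_iff.1 (e ▸ Block.le_of_omegaCentre.trans (Baumann.omegaCentre_thompson_le _))
  · have e := Baumann.thompson_eq_of_pGroup (T := T) (R := B) (T.2.to_le (Baumann.baumann_le _))
      (Baumann.thompson_le_baumann _)
    rw [← e, thompsonSubgroupOf, Subgroup.subgroupOf,
      comap_map_eq_self_of_injective B.subtype_injective]
    exact CfsgLib.Transfer.thompsonSubgroup_characteristic p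

/-- A largest elementary abelian subgroup of `T` is no worse than an offender, exactly. -/
theorem offender {A : Subgroup G} (hA : A ∈ maxElementaryAbelianSubgroups p G) (hAT : A ≤ (T : Subgroup G)) :
    Nat.card (Additive ↥(modV p G)) ≤
        Nat.card ↥(A.map (pr p G)) * Nat.card ↥(fx (Additive ↥(modV p G)) (A.map (pr p G))) ∧
      (modV p G ⊔ (A ⊓ kerV p G)) ∈ maxElementaryAbelianSubgroups p G := by
  have hcom : ∀ a ∈ A, ∀ b ∈ A, a * b = b * a := fun a ha b hb => CfsgLib.PGroup.elemAb_comm hA.1 ha hb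
  have hA0 : IsElementaryAbelian p (modV p G ⊔ (A ⊓ kerV p G)) :=
    CfsgLib.PGroup.elemAb_sup (Oz.elemAb _) (CfsgLib.PGroup.isElementaryAbelian_mk
      (fun a ha b hb => hcom a ha.1 b hb.1) fun a ha => hA.1.2 a ha.1)
      fun v hv a ha => mem_centralizer_iff.1 ha.2 v hv
  have h1 := hA.2 _ hA0
  have h2 := CfsgLib.Solvable.card_sup_mul_card_inf (modV p G) (A ⊓ kerV p G)
  have h3 : Nat.card ↥A = Nat.card ↥(A.map (pr p G)) * Nat.card ↥(A ⊓ kerV p G : Subgroup G) := by
    let φ := (pr p G).subgroupMap A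
    have hk : φ.ker = (kerV p G).subgroupOf A := by
      ext a
      rw [MonoidHom.mem_ker, mem_subgroupOf, ← Subtype.val_inj]
      exact pr_eq_one
    have e1 := card_eq_card_quotient_mul_card_subgroup φ.ker
    rw [Nat.card_congr (QuotientGroup.quotientKerEquivOfSurjective φ ((pr p G).subgroupMap_surjective A)).toEquiv]
      at e1
    rw [e1, hk, Nat.card_congr (subgroupOfEquivOfLe (inf_le_left : A ⊓ kerV p G ≤ A)).symm.toEquiv,
      inf_subgroupOf_left]
  have h4 : Nat.card ↥(modV p G ⊓ (A ⊓ kerV p G) : Subgroup G) ≤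
      Nat.card ↥(fx (Additive ↥(modV p G)) (A.map (pr p G))) := by
    refine Nat.card_le_card_of_injective (fun w => (⟨toMod (w : G) w.2.1,
      mem_fx_map.2 fun a ha => hcom a ha _ w.2.2.1⟩ : ↥(fx (Additive ↥(modV p G)) (A.map (pr p G))))) ?_
    exact fun w w' e => Subtype.ext (congrArg (fun z : ↥(fx (Additive ↥(modV p G)) (A.map (pr p G))) => val z.1) e)
  have hV : Nat.card (Additive ↥(modV p G)) = Nat.card ↥(modV p G) := Nat.card_congr Additive.toMul
  have hoff : Nat.card (Additive ↥(modV p G)) ≤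
      Nat.card ↥(A.map (pr p G)) * Nat.card ↥(fx (Additive ↥(modV p G)) (A.map (pr p G))) := by
    rw [hV]
    refine Nat.le_of_mul_le_mul_right (c := Nat.card ↥(A ⊓ kerV p G : Subgroup G)) ?_ Nat.card_pos
    rw [← h2]
    calc Nat.card ↥(modV p G ⊔ A ⊓ kerV p G : Subgroup G) * Nat.card ↥(modV p G ⊓ (A ⊓ kerV p G) : Subgroup G)
        ≤ Nat.card ↥A * Nat.card ↥(fx (Additive ↥(modV p G)) (A.map (pr p G))) := Nat.mul_le_mul h1 h4
      _ = _ := by rw [h3]; ring
  refine ⟨hoff, hA0, fun B hB => (hA.2 B hB).trans ?_⟩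
  have hub := (h.setting.bound (Nat.card ↥(A.map (pr p G)) + 1) (A.map (pr p G)) (Nat.lt_succ_self _)
    (map_mono hAT) (by rintro _ ⟨a, ha, rfl⟩ _ ⟨b, hb, rfl⟩; rw [← map_mul, ← map_mul, hcom a ha b hb])).1
  refine Nat.le_of_mul_le_mul_right (c := Nat.card ↥(fx (Additive ↥(modV p G)) (A.map (pr p G)))) ?_ Nat.card_pos
  calc Nat.card ↥A * Nat.card ↥(fx (Additive ↥(modV p G)) (A.map (pr p G)))
      = Nat.card ↥(A ⊓ kerV p G : Subgroup G) *
          (Nat.card ↥(A.map (pr p G)) * Nat.card ↥(fx (Additive ↥(modV p G)) (A.map (pr p G)))) := by rw [h3]; ring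
    _ ≤ Nat.card ↥(A ⊓ kerV p G : Subgroup G) * Nat.card ↥(modV p G) := by
        rw [← hV]; exact Nat.mul_le_mul_left _ hub
    _ = Nat.card ↥(modV p G ⊔ A ⊓ kerV p G : Subgroup G) * Nat.card ↥(modV p G ⊓ (A ⊓ kerV p G) : Subgroup G) := by
        rw [h2]; ring
    _ ≤ _ := Nat.mul_le_mul_left _ h4

/-- Some minimal offender lies in the image of the Sylow subgroup. -/
theorem exists_inT : ∃ C, PMinFF.InT p (bT T) (Additive ↥(modV p G)) C ∧
    C ≤ (thompsonSubgroupOf p (T : Subgroup G)).map (pr p G) := by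
  obtain ⟨A, hA, hAT, hAC⟩ : ∃ A ∈ maxElementaryAbelianSubgroups p G, A ≤ (T : Subgroup G) ∧ ¬ A ≤ kerV p G := by
    by_contra hc
    push Not at hc
    obtain ⟨A₁, hA₁, hA₁T⟩ := CfsgLib.Transfer.exists_maxEA_le_sylow T
    refine h.jT_not_le (map_le_iff_le_comap.2 (sSup_le fun B hB => map_le_iff_le_comap.1 ?_))
    exact hc _ (CfsgLib.Transfer.maxEA_map_subtype hA₁ hA₁T hB) (map_subtype_le _)
  obtain ⟨B, hBA, hB⟩ := PMinFF.exists_member (p := p) (M := Additive ↥(modV p G)) (A := A.map (pr p G))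
    (fun e => hAC fun a ha => pr_eq_one.1 (mem_bot.1 (e ▸ mem_map_of_mem _ ha)))
    ((CfsgLib.Transfer.maxEA_isPGroup hA).map _)
    (by rintro _ ⟨a, ha, rfl⟩ _ ⟨b, hb, rfl⟩; rw [← map_mul, ← map_mul, CfsgLib.PGroup.elemAb_comm hA.1 ha hb])
    (h.offender hA hAT).1
  exact ⟨B, ⟨hB, hBA.trans (map_mono hAT)⟩, hBA.trans (map_mono (CfsgLib.Transfer.le_thompsonSubgroupOf hA hAT))⟩

theorem offJoin_le_jT :
    offJoin p (bT T) (Additive ↥(modV p G)) ≤ (thompsonSubgroupOf p (T : Subgroup G)).map (pr p G) := by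
  obtain ⟨B, hB, hBJ⟩ := h.exists_inT
  refine iSup_le fun C => ?_
  obtain ⟨t, ht, e⟩ := PMinFF.InT.exists_conj h.setting hB C.2
  rw [e]
  obtain ⟨t, ht', rfl⟩ := (coe_bT T).le ht
  rintro _ ⟨x, hx, rfl⟩
  obtain ⟨j, hj, rfl⟩ := hBJ hx
  refine ⟨t * j * t⁻¹, (mem_normalizer_iff.1 ?_ j).1 hj, by simp⟩
  haveI := CfsgLib.Transfer.thompsonSubgroup_characteristic (G := ↥(T : Subgroup G)) p
  have := le_normalizer_map (H := thompsonSubgroup p ↥(T : Subgroup G)) (T : Subgroup G).subtype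
  rw [normalizer_eq_top, ← MonoidHom.range_eq_map, range_subtype] at this
  exact this ht'

theorem maxEA_le_offJoin {A : Subgroup G} (hA : A ∈ maxElementaryAbelianSubgroups p G)
    (hAT : A ≤ (T : Subgroup G)) : A.map (pr p G) ≤ offJoin p (bT T) (Additive ↥(modV p G)) :=
  CfsgLib.Techniques.CharTransfer.le_offJoin h.setting (map_mono hAT)
    (by rintro _ ⟨a, ha, rfl⟩ _ ⟨b, hb, rfl⟩; rw [← map_mul, ← map_mul, CfsgLib.PGroup.elemAb_comm hA.1 ha hb])
    (h.offender hA hAT).1

/-- The image of the Baumann subgroup is the join of the minimal offenders. -/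
theorem map_baumann :
    (baumannSubgroupOf p (T : Subgroup G)).map (pr p G) = offJoin p (bT T) (Additive ↥(modV p G)) := by
  refine le_antisymm ?_ (h.offJoin_le_jT.trans (map_mono (Baumann.thompson_le_baumann _)))
  rintro _ ⟨b, hb, rfl⟩
  refine CfsgLib.Techniques.CharTransfer.mem_offJoin h.setting ⟨b, (Baumann.baumann_le _) hb, rfl⟩ fun v hv => ?_
  have hvA : ∀ A ∈ maxElementaryAbelianSubgroups p G, A ≤ (T : Subgroup G) → ∀ a ∈ A, a * val v = val v * a :=
    fun A hA hAT a ha => pr_smul_eq.1 (hv _ (h.maxEA_le_offJoin hA hAT ⟨a, ha, rfl⟩))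
  have hmem : ∀ A ∈ maxElementaryAbelianSubgroups p G, A ≤ (T : Subgroup G) → val v ∈ A := by
    intro A hA hAT
    have h1 : IsElementaryAbelian p (A ⊔ zpowers (val v)) :=
      CfsgLib.PGroup.elemAb_sup hA.1 (CfsgLib.PGroup.isElementaryAbelian_mk
        (fun a ha b hb => by
          obtain ⟨i, rfl⟩ := mem_zpowers_iff.1 ha
          obtain ⟨j, rfl⟩ := mem_zpowers_iff.1 hb
          exact (Commute.zpow_zpow_self _ i j).eq)
        fun a ha => by
          obtain ⟨i, rfl⟩ := mem_zpowers_iff.1 ha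
          rw [← zpow_natCast, ← zpow_mul, mul_comm, zpow_mul, zpow_natCast, pow_eq_one_of_mem (val_mem v), one_zpow])
        fun a ha c hc => by
          obtain ⟨i, rfl⟩ := mem_zpowers_iff.1 hc
          exact ((show Commute a (val v) from hvA A hA hAT a ha).zpow_right i).eq
    rw [eq_of_le_of_card_ge le_sup_left (hA.2 _ h1)]
    exact mem_sup_right (mem_zpowers _)
  obtain ⟨A₁, hA₁, hA₁T⟩ := CfsgLib.Transfer.exists_maxEA_le_sylow T
  have hvz : val v ∈ zJ p (T : Subgroup G) := by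
    refine Oz.mem_iff.2 ⟨CfsgLib.Transfer.le_thompsonSubgroupOf hA₁ hA₁T (hmem A₁ hA₁ hA₁T), fun j hj => ?_,
      pow_eq_one_of_mem (val_mem v)⟩
    have hle : thompsonSubgroupOf p (T : Subgroup G) ≤ centralizer ({val v} : Set G) := by
      refine map_le_iff_le_comap.2 (sSup_le fun B hB => map_le_iff_le_comap.1 fun a ha => ?_)
      exact mem_centralizer_singleton_iff.2
        (hvA _ (CfsgLib.Transfer.maxEA_map_subtype hA₁ hA₁T hB) (map_subtype_le _) a ha)
    exact mem_centralizer_singleton_iff.1 (hle hj)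
  exact pr_smul_eq.2 (mem_centralizer_iff.1 hb.2 _ hvz).symm

theorem map_jT :
    (thompsonSubgroupOf p (T : Subgroup G)).map (pr p G) = offJoin p (bT T) (Additive ↥(modV p G)) :=
  le_antisymm ((map_mono (Baumann.thompson_le_baumann _)).trans h.map_baumann.le) h.offJoin_le_jT

/-- The centre of the Thompson subgroup lies in the core. -/
theorem zJ_le_core : zJ p (T : Subgroup G) ≤ pCore p G := by
  intro z hz
  obtain ⟨hzJ, hzc, hzp⟩ := Oz.mem_iff.1 hz
  obtain ⟨A, hA, hAT⟩ := CfsgLib.Transfer.exists_maxEA_le_sylow T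
  have hA' := (h.offender hA hAT).2
  have hQ : modV p G ⊔ (A ⊓ kerV p G) ≤ pCore p G :=
    sup_le modV_le ((inf_le_inf_right _ hAT).trans h.inf_ker.le)
  have hle : modV p G ⊔ (A ⊓ kerV p G) ≤ thompsonSubgroupOf p (T : Subgroup G) :=
    CfsgLib.Transfer.le_thompsonSubgroupOf hA' (hQ.trans h.core_le)
  have h1 : IsElementaryAbelian p ((modV p G ⊔ (A ⊓ kerV p G)) ⊔ zJ p (T : Subgroup G)) :=
    CfsgLib.PGroup.elemAb_sup hA'.1 (Oz.elemAb _) fun a ha c hc => (Oz.mem_iff.1 hc).2.1 a (hle ha)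
  refine hQ ?_
  rw [eq_of_le_of_card_ge le_sup_left (hA'.2 _ h1)]
  exact mem_sup_right hz

/-- The centre of the Thompson subgroup of the core contains both and is centralised by the Sylow subgroup
modulo `modV`. -/
theorem exists_big : ∃ N : Subgroup G, N.Normal ∧ modV p G ≤ N ∧ zJ p (T : Subgroup G) ≤ N ∧
    ∀ a ∈ thompsonSubgroupOf p (T : Subgroup G), ∀ n ∈ N, ⁅a, n⁆ ∈ modV p G := by
  set Q := pCore p G with hQ
  set N := zJ p Q with hN
  haveI hQn : Q.Normal := by
    haveI := CfsgLib.Cores.pCore_characteristic (G := G) p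
    infer_instance
  obtain ⟨A₁, hA₁, hA₁T⟩ := CfsgLib.Transfer.exists_maxEA_le_sylow T
  have hA₁' := (h.offender hA₁ hA₁T).2
  have hQ₁ : modV p G ⊔ (A₁ ⊓ kerV p G) ≤ Q :=
    sup_le modV_le ((inf_le_inf_right _ hA₁T).trans h.inf_ker.le)
  have hJQ : thompsonSubgroupOf p Q ≤ thompsonSubgroupOf p (T : Subgroup G) :=
    map_le_iff_le_comap.2 (sSup_le fun B hB => map_le_iff_le_comap.1
      (CfsgLib.Transfer.le_thompsonSubgroupOf (CfsgLib.Transfer.maxEA_map_subtype hA₁' hQ₁ hB)
        ((map_subtype_le _).trans h.core_le)))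
  have hNn : N.Normal := by
    refine Subgroup.normalizer_eq_top_iff.1 (top_le_iff.1 ?_)
    refine le_trans ?_ (Baumann.normalizer_le_omegaCentre Q)
    haveI := CfsgLib.Transfer.thompsonSubgroup_characteristic (G := ↥Q) p
    have := CfsgLib.OddLocal.normalizer_le_normalizer_map_characteristic (thompsonSubgroup p ↥Q) (G := G) (H := Q)
    rw [normalizer_eq_top] at this
    exact this
  have hin : ∀ A ∈ maxElementaryAbelianSubgroups p G, A ≤ Q → ∀ x : G, x ^ p = 1 → (∀ a ∈ A, a * x = x * a) →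
      x ∈ A := by
    intro A hA hAQ x hxp hxA
    have h1 : IsElementaryAbelian p (A ⊔ zpowers x) :=
      CfsgLib.PGroup.elemAb_sup hA.1 (CfsgLib.PGroup.isElementaryAbelian_mk
        (fun a ha b hb => by
          obtain ⟨i, rfl⟩ := mem_zpowers_iff.1 ha
          obtain ⟨j, rfl⟩ := mem_zpowers_iff.1 hb
          exact (Commute.zpow_zpow_self _ i j).eq)
        fun a ha => by
          obtain ⟨i, rfl⟩ := mem_zpowers_iff.1 ha
          rw [← zpow_natCast, ← zpow_mul, mul_comm, zpow_mul, zpow_natCast, hxp, one_zpow])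
        fun a ha c hc => by
          obtain ⟨i, rfl⟩ := mem_zpowers_iff.1 hc
          exact ((show Commute a x from hxA a ha).zpow_right i).eq
    rw [eq_of_le_of_card_ge le_sup_left (hA.2 _ h1)]
    exact mem_sup_right (mem_zpowers _)
  refine ⟨N, hNn, fun v hv => ?_, fun z hz => ?_, ?_⟩
  · obtain ⟨hvQ, hvc, hvp⟩ := Oz.mem_iff.1 hv
    refine Oz.mem_iff.2 ⟨CfsgLib.Transfer.le_thompsonSubgroupOf hA₁' hQ₁ (mem_sup_left hv),
      fun j hj => hvc j (CfsgLib.Transfer.thompsonSubgroupOf_le p _ hj), hvp⟩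
  · obtain ⟨hzJ, hzc, hzp⟩ := Oz.mem_iff.1 hz
    refine Oz.mem_iff.2 ⟨CfsgLib.Transfer.le_thompsonSubgroupOf hA₁' hQ₁ ?_, fun j hj => hzc j (hJQ hj), hzp⟩
    exact hin _ hA₁' hQ₁ z hzp fun a ha => hzc a (hJQ (CfsgLib.Transfer.le_thompsonSubgroupOf hA₁' hQ₁ ha))
  · intro a ha n hn
    obtain ⟨hnJ, hnc, hnp⟩ := Oz.mem_iff.1 hn
    let K : Subgroup G :=
      { carrier := {a | ⁅a, n⁆ ∈ modV p G}
        one_mem' := by simp [one_mem]
        mul_mem' := fun {a b} ha hb => by
          show ⁅a * b, n⁆ ∈ modV p G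
          rw [show ⁅a * b, n⁆ = a * ⁅b, n⁆ * a⁻¹ * ⁅a, n⁆ by simp only [commutatorElement_def]; group]
          exact mul_mem ((modV_normal p G).conj_mem _ hb a) ha
        inv_mem' := fun {a} ha => by
          show ⁅a⁻¹, n⁆ ∈ modV p G
          rw [show ⁅a⁻¹, n⁆ = a⁻¹ * ⁅a, n⁆⁻¹ * a⁻¹⁻¹ by simp only [commutatorElement_def]; group]
          exact (modV_normal p G).conj_mem _ (inv_mem ha) a⁻¹ }
    have hle : thompsonSubgroupOf p (T : Subgroup G) ≤ K := by
      refine map_le_iff_le_comap.2 (sSup_le fun B hB => map_le_iff_le_comap.1 fun b hb => ?_)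
      have hBm := CfsgLib.Transfer.maxEA_map_subtype hA₁ hA₁T hB
      have hB' := (h.offender hBm (map_subtype_le _)).2
      have hBQ : modV p G ⊔ (B.map (T : Subgroup G).subtype ⊓ kerV p G) ≤ Q :=
        sup_le modV_le ((inf_le_inf_right _ (map_subtype_le _)).trans h.inf_ker.le)
      have hnB := hin _ hB' hBQ n hnp fun x hx => hnc x (CfsgLib.Transfer.le_thompsonSubgroupOf hB' hBQ hx)
      rw [← SetLike.mem_coe, normal_mul] at hnB
      obtain ⟨v, hv, c, hc, rfl⟩ := hnB
      show ⁅b, v * c⁆ ∈ modV p G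
      rw [show ⁅b, v * c⁆ = ⁅b, v⁆ * (v * ⁅b, c⁆ * v⁻¹) by simp only [commutatorElement_def]; group,
        commutatorElement_eq_one_iff_mul_comm.2 (CfsgLib.PGroup.elemAb_comm hBm.1 hb hc.1), mul_one,
        mul_inv_cancel, mul_one, commutatorElement_def]
      exact mul_mem ((modV_normal p G).conj_mem v hv b) (inv_mem hv)
    exact hle ha

/-- `modV · Ω₁(Z(J(T)))` is normal. -/
theorem wSub_normal : (modV p G ⊔ zJ p (T : Subgroup G)).Normal := by
  obtain ⟨N, hN, hVN, hZN, hcomm⟩ := h.exists_big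
  haveI := hN
  set W := modV p G ⊔ zJ p (T : Subgroup G) with hW
  let K : Subgroup G :=
    { carrier := {g | ∀ n ∈ N, ⁅g, n⁆ ∈ modV p G}
      one_mem' := fun n _ => by simp [one_mem]
      mul_mem' := fun {a b} ha hb n hn => by
        rw [show ⁅a * b, n⁆ = a * ⁅b, n⁆ * a⁻¹ * ⁅a, n⁆ by simp only [commutatorElement_def]; group]
        exact mul_mem ((modV_normal p G).conj_mem _ (hb n hn) a) (ha n hn)
      inv_mem' := fun {a} ha n hn => by
        rw [show ⁅a⁻¹, n⁆ = a⁻¹ * ⁅a, n⁆⁻¹ * a⁻¹⁻¹ by simp only [commutatorElement_def]; group]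
        exact (modV_normal p G).conj_mem _ (inv_mem (ha n hn)) a⁻¹ }
  have hKn : K.Normal := ⟨fun k hk g n hn => by
    rw [show ⁅g * k * g⁻¹, n⁆ = g * ⁅k, g⁻¹ * n * g⁆ * g⁻¹ by simp only [commutatorElement_def]; group]
    exact (modV_normal p G).conj_mem _ (hk _ (by simpa using hN.conj_mem n hn g⁻¹)) g⟩
  have hKW : K ≤ normalizer (W : Set G) := fun g hg => CfsgLib.LocalEven.mem_normalizer_of_conj_le (by
    rw [hW, Subgroup.map_sup]
    refine sup_le ?_ ?_
    · rintro _ ⟨v, hv, rfl⟩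
      exact mem_sup_left ((modV_normal p G).conj_mem v hv g)
    rintro _ ⟨z, hz, rfl⟩
    show g * z * g⁻¹ ∈ _
    rw [show g * z * g⁻¹ = ⁅g, z⁆ * z by simp only [commutatorElement_def]; group]
    exact mul_mem (mem_sup_left (hg z (hZN hz))) (mem_sup_right hz))
  have hTW : (T : Subgroup G) ≤ normalizer (W : Set G) := fun t ht => CfsgLib.LocalEven.mem_normalizer_of_conj_le (by
    rw [hW, Subgroup.map_sup]
    refine sup_le ?_ (le_trans ?_ le_sup_right)
    · rintro _ ⟨v, hv, rfl⟩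
      exact mem_sup_left ((modV_normal p G).conj_mem v hv t)
    have h1 : t ∈ normalizer (thompsonSubgroupOf p (T : Subgroup G) : Set G) := by
      haveI := CfsgLib.Transfer.thompsonSubgroup_characteristic (G := ↥(T : Subgroup G)) p
      exact CfsgLib.OddLocal.normalizer_le_normalizer_map_characteristic (thompsonSubgroup p ↥(T : Subgroup G))
        (Subgroup.le_normalizer ht)
    exact (mem_normalizer_iff_map_conj_eq.1 (Baumann.normalizer_le_omegaCentre _ h1)).le)
  refine Subgroup.normalizer_eq_top_iff.1 (by_contra fun hne => ?_)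
  have hKM : K ≤ M := hKW.trans (h.uniq _ hTW hne)
  haveI := hKn
  refine h.jT_not_le ?_
  have h1 : thompsonSubgroupOf p (T : Subgroup G) ≤ (T : Subgroup G) ⊓ K :=
    fun a ha => ⟨CfsgLib.Transfer.thompsonSubgroupOf_le p _ ha, hcomm a ha⟩
  exact h1.trans ((MinOver.inf_le_pCore T h.coatom
    (fun M' hM' => ((hM'.1.le_iff_eq h.coatom.1).1 (h.uniq M' hM'.2 hM'.1.1)).symm) K hKM).trans core_le_ker)

theorem mem_wSub {w : G} :
    w ∈ modV p G ⊔ zJ p (T : Subgroup G) ↔ ∃ v ∈ modV p G, ∃ z ∈ zJ p (T : Subgroup G), v * z = w := by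
  rw [← SetLike.mem_coe, normal_mul, Set.mem_mul]
  rfl

end Hyps

end CfsgLib.LocalEven.PushMin
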