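import Cfsg.Agent.Lib.LocalEven.PushMin.Setup
import Cfsg.Agent.Lib.LocalEven.PushUp.Pull
import Cfsg.Agent.Lib.LocalEven.PMinFF.Links
import Cfsg.Agent.Lib.LocalEven.RankOne.Final
import Cfsg.Agent.Lib.Classical.SL2Sylow
import Cfsg.Agent.S2961

/-!
Pushing up in a `p`-minimal group: above each minimal offender lies a group with a Sylow subgroup `B(T)` and
a quotient `PSL₂`, in the pushing-up situation.
-/

set_option autoImplicit false
set_option linter.unusedSectionVars false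

namespace CfsgLib.LocalEven.PushMin

open Cfsg Subgroup
open CfsgLib.Fusion (conjSub mem_conjSub conj_mem_conjSub conjSub_conjSub conjSub_one conjSub_mono)
open CfsgLib.LocalEven.MinOffender (fx fx_anti mem_fx_conj)
open CfsgLib.LocalEven.PMinFF (InT others blk mv)
open CfsgLib.Techniques.CharTransfer (offJoin)
open CfsgLib.LocalEven.RankOne (Hyp)
open CfsgLib.LocalEven.PushUp (TorusComm NoChar)
open Matrix (SpecialLinearGroup ProjectiveSpecialLinearGroup)
open scoped commutatorElement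

variable {G : Type*} [Group G] [Finite G] {p : ℕ} [Fact p.Prime]

/-- An element of order `p` centralising the Thompson subgroup lies in `Ω₁` of its centre. -/
theorem mem_zJ (T : Sylow p G) {x : G} (hxp : x ^ p = 1)
    (hc : ∀ j ∈ thompsonSubgroupOf p (T : Subgroup G), j * x = x * j) : x ∈ zJ p (T : Subgroup G) := by
  obtain ⟨A, hA, hAT⟩ := CfsgLib.Transfer.exists_maxEA_le_sylow T
  refine Oz.mem_iff.2 ⟨CfsgLib.Transfer.le_thompsonSubgroupOf hA hAT ?_, hc, hxp⟩
  have h1 : IsElementaryAbelian p (A ⊔ zpowers x) :=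
    CfsgLib.PGroup.elemAb_sup hA.1 (CfsgLib.PGroup.isElementaryAbelian_mk
      (fun a ha b hb => by
        obtain ⟨i, rfl⟩ := mem_zpowers_iff.1 ha
        obtain ⟨j, rfl⟩ := mem_zpowers_iff.1 hb
        exact (Commute.zpow_zpow_self _ i j).eq)
      fun a ha => by
        obtain ⟨i, rfl⟩ := mem_zpowers_iff.1 ha
        rw [← zpow_natCast, ← zpow_mul, mul_comm, zpow_mul, zpow_natCast, hxp, one_zpow])
      fun a ha c hc' => by
        obtain ⟨i, rfl⟩ := mem_zpowers_iff.1 hc'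
        exact ((show Commute a x from hc a (CfsgLib.Transfer.le_thompsonSubgroupOf hA hAT ha)).zpow_right i).eq
  rw [eq_of_le_of_card_ge le_sup_left (hA.2 _ h1)]
  exact mem_sup_right (mem_zpowers _)

/-- The preimage inside `J(T)` of a subgroup of the quotient. -/
def liftJ (T : Sylow p G) (D : Subgroup (G ⧸ kerV p G)) : Subgroup G :=
  thompsonSubgroupOf p (T : Subgroup G) ⊓ D.comap (pr p G)

variable {T : Sylow p G} {M : Subgroup G} (h : Hyps p T M)
variable {D : Subgroup (G ⧸ kerV p G)} (hD : InT p (bT T) (Additive ↥(modV p G)) D)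
include h hD

theorem map_liftJ : (liftJ T D).map (pr p G) = D :=
  pr_map_inf_comap (h.map_jT.ge.trans' (le_iSup (fun C : {C // InT p (bT T) (Additive ↥(modV p G)) C} => C.1) ⟨D, hD⟩))

/-- The members other than `D` meet the overgroup of `D` trivially and commute with it. -/
theorem others_facts :
    others p (bT T) (Additive ↥(modV p G)) D ⊓ blk p (bT T) (Additive ↥(modV p G)) D = ⊥ ∧
      ∀ o ∈ others p (bT T) (Additive ↥(modV p G)) D, ∀ l ∈ blk p (bT T) (Additive ↥(modV p G)) D, o * l = l * o := by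
  have hs := h.setting
  refine ⟨?_, fun o ho l hl => PMinFF.Top.commute_J hs (InT.piece hs hD) (InT.top hs hD) (InT.blk_min hs hD)
    (InT.blk_le hs hD) o ho l hl⟩
  rw [eq_bot_iff_forall]
  rintro g ⟨hgo, hgl⟩
  refine hs.faithful g fun v => ?_
  obtain ⟨a, ha, b, hb, rfl⟩ := AddSubgroup.mem_sup.1 ((InT.mv_sup hs hD).ge (AddSubgroup.mem_top v))
  have hle : others p (bT T) (Additive ↥(modV p G)) D ≤ MulAction.stabilizer (G ⧸ kerV p G) a :=
    sSup_le fun C hC c hc => InT.mv_le_fix hs hD ⟨hC.1, hC.2.1⟩ hC.2.2 ha c hc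
  rw [smul_add, hb g hgl, show g • a = a from hle hgo]

theorem others_sup : others p (bT T) (Additive ↥(modV p G)) D ⊔ D = offJoin p (bT T) (Additive ↥(modV p G)) := by
  refine le_antisymm (sup_le (sSup_le fun C hC =>
    le_iSup (fun C : {C // InT p (bT T) (Additive ↥(modV p G)) C} => C.1) ⟨C, hC.1, hC.2.1⟩)
    (le_iSup (fun C : {C // InT p (bT T) (Additive ↥(modV p G)) C} => C.1) ⟨D, hD⟩)) (iSup_le fun C => ?_)
  by_cases e : C.1 = D
  · exact e.le.trans le_sup_right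
  · exact (InT.le_others h.setting hD C.2 e).trans le_sup_left

theorem others_le : others p (bT T) (Additive ↥(modV p G)) D ≤ M.map (pr p G) :=
  sSup_le fun C hC => hC.2.1.trans h.setting.sylLe

/-- A lift of an outer element of the overgroup, with a part of `Ω₁Z(J(T))` centralised by it that covers
`modV · Ω₁Z(J(T))` modulo `modV`. -/
theorem exists_out : ∃ x : G, pr p G x ∈ blk p (bT T) (Additive ↥(modV p G)) D ∧ x ∉ M ∧
    D ⊔ conjSub (pr p G x) D = blk p (bT T) (Additive ↥(modV p G)) D ∧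
    ∀ w ∈ modV p G ⊔ zJ p (T : Subgroup G), ∃ v ∈ modV p G, ∃ u ∈ zJ p (T : Subgroup G),
      v * u = w ∧ x * u = u * x := by
  have hs := h.setting
  have hP := InT.piece hs hD
  have hA := InT.top hs hD
  have hmin := InT.blk_min hs hD
  have hLN := InT.blk_le hs hD
  obtain ⟨x', hxL, hx', hgen⟩ := PMinFF.Top.exists_out hs hP hA hmin hLN
  obtain ⟨y, rfl⟩ := pr_surjective x'
  set P := liftJ T D ⊔ conjSub y (liftJ T D) with hPdef
  have hPL : P.map (pr p G) = blk p (bT T) (Additive ↥(modV p G)) D := by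
    rw [← hgen, hPdef, Subgroup.map_sup, map_liftJ h hD]
    congr 1
    conv_rhs => rw [← map_liftJ h hD]
    simp only [conjSub, Subgroup.map_map]
    congr 1
  obtain ⟨x, hxP, hxy⟩ := hPL.ge hxL
  refine ⟨x, hxy ▸ hxL, fun hxM => hx' (hxy ▸ mem_map_of_mem _ hxM), hxy ▸ hgen, ?_⟩
  haveI := h.wSub_normal
  intro w hw
  obtain ⟨v₁, hv₁, z₁, hz₁, rfl⟩ := h.mem_wSub.1 hw
  obtain ⟨v₂, hv₂, z₂, hz₂, e₂⟩ := h.mem_wSub.1
    (Normal.conj_mem h.wSub_normal z₁ (mem_sup_right hz₁) y⁻¹)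
  -- `z₁ = v₃ * z₃` with `z₃` centralising the conjugate
  set v₃ := y * v₂ * y⁻¹ with hv₃
  have hv₃m : v₃ ∈ modV p G := (modV_normal p G).conj_mem v₂ hv₂ y
  have e₁ : z₁ = v₃ * (y * z₂ * y⁻¹) := by
    calc z₁ = y * (y⁻¹ * z₁ * y⁻¹⁻¹) * y⁻¹ := by group
      _ = y * (v₂ * z₂) * y⁻¹ := by rw [e₂]
      _ = _ := by rw [hv₃]; group
  obtain ⟨TL, hyp⟩ := PMinFF.Top.hyp hs hP hA hmin hLN
  obtain ⟨a, ha, b, hb, eab⟩ := hyp.core.exists_add (x := ⟨pr p G y, hxL⟩) hx' (toMod v₃ hv₃m)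
  rw [StrongFF.fx_subgroupOf hmin.aLe] at ha
  rw [StrongFF.conjSub_subgroupOf, StrongFF.fx_subgroupOf
    (fun g hg => hgen.le (mem_sup_right hg) : conjSub (pr p G y) D ≤ _)] at hb
  obtain ⟨am, ham, af, haf, rfl⟩ := AddSubgroup.mem_sup.1 ((InT.mv_sup hs hD).ge (AddSubgroup.mem_top a))
  have hamD : am ∈ fx (Additive ↥(modV p G)) D := by
    have h1 := sub_mem ha (fx_anti hmin.aLe haf)
    rwa [add_sub_cancel_right] at h1
  have ev : val am * val af * val b = v₃ := by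
    rw [← val_add, ← val_add, ← eab]
    rfl
  set u := (val am)⁻¹ * z₁ with hu
  have hjz : ∀ j ∈ thompsonSubgroupOf p (T : Subgroup G), j * z₁ = z₁ * j := (Oz.mem_iff.1 hz₁).2.1
  have hjam : ∀ j ∈ thompsonSubgroupOf p (T : Subgroup G), j * val am = val am * j := fun j hj => by
    refine pr_smul_eq.1 ?_
    exact CfsgLib.Techniques.CharTransfer.mv_inf_le_offFix hs hD ⟨ham, hamD⟩ _ (h.map_jT.le (mem_map_of_mem _ hj))
  have hu0 : u ∈ zJ p (T : Subgroup G) := by
    refine mem_zJ T ?_ fun j hj => ((Commute.inv_right (hjam j hj)).mul_right (hjz j hj)).eq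
    have hc : Commute (val am)⁻¹ z₁ := by
      refine (Commute.inv_left ?_)
      exact ((Oz.mem_iff.1 (val_mem am)).2.1 z₁ (h.zJ_le_core hz₁)).symm
    rw [hu, hc.mul_pow, inv_pow, pow_eq_one_of_mem (val_mem am), inv_one, one_mul, (Oz.mem_iff.1 hz₁).2.2]
  refine ⟨v₁ * val am, mul_mem hv₁ (val_mem am), u, hu0, by rw [hu]; group, ?_⟩
  have hcP : P ≤ centralizer ({u} : Set G) := by
    refine sup_le (fun j hj => mem_centralizer_singleton_iff.2 ((Oz.mem_iff.1 hu0).2.1 j hj.1)) ?_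
    rintro _ ⟨j, hj, rfl⟩
    refine mem_centralizer_singleton_iff.2 ?_
    show Commute (y * j * y⁻¹) u
    have e3 : u = val af * (val b * (y * z₂ * y⁻¹)) := by
      rw [hu, e₁, ← ev]; group
    rw [e3]
    refine Commute.mul_right ?_ (Commute.mul_right ?_ ?_)
    · exact pr_smul_eq.1 (haf _ (hgen.le (mem_sup_right ⟨pr p G j, hj.2, by simp⟩)))
    · exact pr_smul_eq.1 (hb _ ⟨pr p G j, hj.2, by simp⟩)
    · have hc : Commute j z₂ := (Oz.mem_iff.1 hz₂).2.1 j hj.1
      exact hc.map (MulAut.conj y)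
  exact mem_centralizer_singleton_iff.1 (hcP hxP)

/-- The group above a member. -/
theorem exists_over :
    ∃ (F : Type) (_ : Field F) (_ : Fintype F) (n : ℕ) (H : Subgroup G) (S : Sylow p ↥H) (K : Subgroup ↥H)
      (_ : K.Normal), Fintype.card F = p ^ n ∧ Nat.card ↥D = p ^ n ∧
      baumannSubgroupOf p (T : Subgroup G) ≤ H ∧
      (S : Subgroup ↥H) = (baumannSubgroupOf p (T : Subgroup G)).subgroupOf H ∧ ¬ H ≤ M ∧
      (∀ K' : Subgroup G, baumannSubgroupOf p (T : Subgroup G) ≤ K' → K' ≤ H → ¬ K' ≤ M → H ≤ K') ∧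
      (∀ g ∈ H, ∃ o ∈ others p (bT T) (Additive ↥(modV p G)) D,
        ∃ l ∈ blk p (bT T) (Additive ↥(modV p G)) D, pr p G g = o * l) ∧
      Hyp n S K ∧ TorusComm p (↥H ⧸ K) ∧ NoChar S := by
  classical
  have hs := h.setting
  set B := baumannSubgroupOf p (T : Subgroup G) with hB
  set L := blk p (bT T) (Additive ↥(modV p G)) D with hL
  set O := others p (bT T) (Additive ↥(modV p G)) D with hO
  obtain ⟨hOL, hcomm⟩ := others_facts h hD
  obtain ⟨F, iF, iFF, hF0, ρ, ψ, hρ, -, -, -⟩ := InT.natural hs hD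
  haveI : Nontrivial ↥D := (Subgroup.nontrivial_iff_ne_bot D).2 hD.1.ne
  obtain ⟨n, hn0, hn⟩ := hD.1.pA.nontrivial_iff_card.1 inferInstance
  have hF : Fintype.card F = p ^ n := hF0.trans hn
  haveI : CharP F p := by
    obtain ⟨q, hq⟩ := CharP.exists F
    obtain ⟨k, hqp, hk⟩ := FiniteField.card F q
    have : q = p := by
      have h1 : q ∣ p ^ n := hF ▸ hk ▸ dvd_pow_self q k.pos.ne'
      exact (Nat.prime_dvd_prime_iff_eq hqp Fact.out).1 (hqp.dvd_of_dvd_pow h1)
    exact this ▸ hq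
  obtain ⟨x, hxL, hxM, hgen, hcov⟩ := exists_out h hD
  set X := B ⊔ conjSub x B with hX
  -- images
  have hBim : B.map (pr p G) = O ⊔ D := h.map_baumann.trans (others_sup h hD).symm
  have hDL : D ≤ L := (InT.blk_min hs hD).aLe
  let N₁ : Subgroup (G ⧸ kerV p G) :=
    { carrier := {g | ∃ o ∈ O, ∃ l ∈ L, g = o * l}
      one_mem' := ⟨1, one_mem _, 1, one_mem _, (one_mul 1).symm⟩
      mul_mem' := by
        rintro _ _ ⟨o, ho, l, hl, rfl⟩ ⟨o', ho', l', hl', rfl⟩
        refine ⟨o * o', mul_mem ho ho', l * l', mul_mem hl hl', ?_⟩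
        calc o * l * (o' * l') = o * (l * o') * l' := by group
          _ = o * (o' * l) * l' := by rw [hcomm o' ho' l hl]
          _ = _ := by group
      inv_mem' := by
        rintro _ ⟨o, ho, l, hl, rfl⟩
        exact ⟨o⁻¹, inv_mem ho, l⁻¹, inv_mem hl, by
          rw [← mul_inv_rev, ← hcomm o ho l hl]⟩ }
  have hON : O ≤ N₁ := fun o ho => ⟨o, ho, 1, one_mem _, (mul_one o).symm⟩
  have hLN₁ : L ≤ N₁ := fun l hl => ⟨1, one_mem _, l, hl, (one_mul l).symm⟩
  have hXN : ∀ g ∈ X, pr p G g ∈ N₁ := by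
    have hle : X ≤ N₁.comap (pr p G) := by
      refine sup_le (map_le_iff_le_comap.1 (hBim.le.trans (sup_le hON (hDL.trans hLN₁)))) ?_
      rintro _ ⟨b, hb, rfl⟩
      have hb' : pr p G b ∈ N₁ := (hBim.le.trans (sup_le hON (hDL.trans hLN₁))) (mem_map_of_mem _ hb)
      show pr p G (x * b * x⁻¹) ∈ N₁
      rw [map_mul, map_mul, map_inv]
      exact mul_mem (mul_mem (hLN₁ hxL) hb') (inv_mem (hLN₁ hxL))
    exact fun g hg => hle hg
  have huniqL : ∀ {o o' l l' : G ⧸ kerV p G}, o ∈ O → o' ∈ O → l ∈ L → l' ∈ L → o * l = o' * l' → l = l' := by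
    intro o o' l l' ho ho' hl hl' e
    have h1 : o'⁻¹ * o ∈ O ⊓ L := Subgroup.mem_inf.2 ⟨O.mul_mem (O.inv_mem ho') ho, by
      rw [show o'⁻¹ * o = l' * l⁻¹ by rw [eq_mul_inv_iff_mul_eq, mul_assoc, e, inv_mul_cancel_left]]
      exact L.mul_mem hl' (L.inv_mem hl)⟩
    rw [hOL, mem_bot, inv_mul_eq_one] at h1
    exact mul_left_cancel (h1 ▸ e)
  choose fo hfo fl hfl hfe using fun g : ↥N₁ => g.2
  let lam : ↥N₁ →* ↥L :=
    MonoidHom.mk' (fun g => ⟨fl g, hfl g⟩) fun a b => Subtype.ext (huniqL (hfo (a * b)) (mul_mem (hfo a) (hfo b))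
      (hfl (a * b)) (mul_mem (hfl a) (hfl b)) (by
        rw [← hfe, Subgroup.coe_mul, hfe a, hfe b]
        calc fo a * fl a * (fo b * fl b) = fo a * (fl a * fo b) * fl b := by group
          _ = fo a * (fo b * fl a) * fl b := by rw [hcomm _ (hfo b) _ (hfl a)]
          _ = _ := by simp [mul_assoc]))
  have hlam : ∀ {o l : G ⧸ kerV p G} (g : ↥N₁), o ∈ O → l ∈ L → (g : G ⧸ kerV p G) = o * l →
      ((lam g : ↥L) : G ⧸ kerV p G) = l := fun g ho hl e =>
    huniqL (hfo g) ho (hfl g) hl ((hfe g).symm.trans e)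
  -- the centralised part
  have hXZ : ∀ g ∈ X, g ∈ kerV p G → ∀ z ∈ zJ p (T : Subgroup G), g * z = z * g := by
    intro g hg hgk z hz
    obtain ⟨v, hv, u, hu, rfl, hxu⟩ := hcov z (mem_sup_right hz)
    have hle : X ≤ centralizer ({u} : Set G) := by
      refine sup_le (fun b hb => mem_centralizer_singleton_iff.2 (mem_centralizer_iff.1 hb.2 u hu).symm) ?_
      rintro _ ⟨b, hb, rfl⟩
      refine mem_centralizer_singleton_iff.2 ?_
      have hc : Commute b u := (mem_centralizer_iff.1 hb.2 u hu).symm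
      show Commute (x * b * x⁻¹) u
      exact (((show Commute x u from hxu).mul_left hc).mul_left (show Commute x u from hxu).inv_left)
    exact ((show Commute g v from (mem_centralizer_iff.1 hgk v hv).symm).mul_right
      (mem_centralizer_singleton_iff.1 (hle hg))).eq
  -- `p`-subgroups above `B`
  have hsylD : ∀ R : Subgroup ↥L, IsPGroup p ↥R → D.subgroupOf L ≤ R → R = D.subgroupOf L := by
    intro R hR hle
    refine (eq_of_le_of_card_ge hle ?_).symm
    rw [Nat.card_congr (subgroupOfEquivOfLe hDL).toEquiv, hn]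
    obtain ⟨k, hk⟩ := IsPGroup.iff_card.1 hR
    have h1 : p ^ k ∣ p ^ n * ((p ^ n - 1) * (p ^ n + 1)) := by
      rw [← hk, ← hF, ← CfsgLib.Classical.card_SL_two rfl, ← Nat.card_congr (MulEquiv.ofBijective ρ hρ).toEquiv]
      exact Subgroup.card_subgroup_dvd_card R
    rw [hk]
    have hpn : p ∣ p ^ n := dvd_pow_self p (by omega)
    have hco : Nat.Coprime (p ^ k) ((p ^ n - 1) * (p ^ n + 1)) := by
      refine Nat.Coprime.pow_left k ((Nat.Prime.coprime_iff_not_dvd Fact.out).2 fun hd => ?_)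
      rcases (Fact.out : p.Prime).dvd_mul.1 hd with hd | hd
      · have h2 := Nat.dvd_sub hpn hd
        rw [Nat.sub_sub_self (Nat.one_le_pow _ _ (Fact.out : p.Prime).pos)] at h2
        exact (Fact.out : p.Prime).not_dvd_one h2
      · exact (Fact.out : p.Prime).not_dvd_one ((Nat.dvd_add_right hpn).1 hd)
    exact Nat.le_of_dvd (pow_pos (Fact.out : p.Prime).pos n) (hco.dvd_of_dvd_mul_right h1)
  have hsyl : ∀ R : Subgroup G, IsPGroup p ↥R → B ≤ R → R ≤ X → R ≤ B := by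
    intro R hR hBR hRX
    have hRJ : ∀ r ∈ R, ∃ b ∈ B, b⁻¹ * r ∈ kerV p G := by
      let f : ↥R →* ↥N₁ := ((pr p G).comp R.subtype).codRestrict N₁ fun r => hXN _ (hRX r.2)
      have hle : D.subgroupOf L ≤ (lam.comp f).range := by
        intro d hd
        obtain ⟨b, hb, hbe⟩ : ((d : ↥L) : G ⧸ kerV p G) ∈ B.map (pr p G) := hBim.ge (mem_sup_right hd)
        exact ⟨⟨b, hBR hb⟩, Subtype.ext (hlam _ (one_mem O) d.2 (by rw [one_mul]; exact hbe))⟩
      have hrange := hsylD _ (by rw [MonoidHom.range_eq_map]; exact (hR.of_equiv topEquiv.symm).map _) hle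
      intro r hr
      have h1 : lam (f ⟨r, hr⟩) ∈ D.subgroupOf L := hrange.le ⟨⟨r, hr⟩, rfl⟩
      have h2 : pr p G r ∈ B.map (pr p G) := by
        rw [hBim, show pr p G r = fo (f ⟨r, hr⟩) * fl (f ⟨r, hr⟩) from hfe (f ⟨r, hr⟩)]
        exact mul_mem (mem_sup_left (hfo _)) (mem_sup_right h1)
      obtain ⟨b, hb, hbe⟩ := h2
      exact ⟨b, hb, pr_eq_one.1 (by rw [map_mul, map_inv, hbe, inv_mul_cancel])⟩
    obtain ⟨T', hT'⟩ := hR.exists_le_sylow
    have hBT' : B ≤ (T' : Subgroup G) := hBR.trans hT'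
    intro r hr
    rw [hB, ← Baumann.baumann_eq_of_le (T := T) (T' := T') hBT']
    have hJ := Baumann.thompson_eq_of_le (T := T) (T' := T') ((Baumann.thompson_le_baumann _).trans hBT')
    refine ⟨hT' hr, mem_centralizer_iff.2 fun z hz => ?_⟩
    have hz' : z ∈ zJ p (T : Subgroup G) := by
      rw [zJ, centerThompsonOf, ← hJ]; exact hz
    obtain ⟨b, hb, hbc⟩ := hRJ r hr
    have h1 := hXZ _ (mul_mem (inv_mem ((le_sup_left : B ≤ X) hb)) (hRX hr)) hbc z hz'
    have h2 : Commute b z := (mem_centralizer_iff.1 hb.2 z hz').symm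
    have h3 := (h2.mul_left (show Commute (b⁻¹ * r) z from h1)).eq
    rw [mul_inv_cancel_left] at h3
    exact h3.symm
  -- a minimal group
  have hXM : ¬ X ≤ M := by
    intro hle
    refine PMinFF.Top.not_le hs (InT.piece hs hD) (InT.top hs hD) (InT.blk_le hs hD hxL)
      (fun e => hxM (h.pr_mem_map.1 e)) (sup_le (hD.2.trans hs.sylLe) ?_)
    rintro _ ⟨d, hd, rfl⟩
    obtain ⟨b, hb, rfl⟩ := hBim.ge (mem_sup_right hd)
    exact ⟨x * b * x⁻¹, hle ((le_sup_right : conjSub x B ≤ X) (conj_mem_conjSub hb)), by simp⟩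
  obtain ⟨H, hHX, hBH, hHM, hHmin⟩ := StrongFF.exists_min (Me := M) (le_sup_left : B ≤ X) hXM
  have hBp : IsPGroup p ↥B := T.2.to_le (Baumann.baumann_le _)
  obtain ⟨S, hS⟩ : ∃ S : Sylow p ↥H, (S : Subgroup ↥H) = B.subgroupOf H := by
    obtain ⟨S, hS⟩ := (hBp.of_equiv (subgroupOfEquivOfLe hBH).symm).exists_le_sylow
    refine ⟨S, le_antisymm (fun s hs' => ?_) hS⟩
    exact hsyl _ (S.2.map H.subtype) (fun b hb => ⟨⟨b, hBH hb⟩, hS hb, rfl⟩)
      ((map_subtype_le _).trans hHX) ⟨s, hs', rfl⟩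
  -- the quotient
  let f : ↥H →* ↥N₁ := ((pr p G).comp H.subtype).codRestrict N₁ fun g => hXN _ (hHX g.2)
  have hσs : Function.Surjective (lam.comp f) := by
    rw [← MonoidHom.range_eq_top]
    obtain ⟨g, hg, hgM⟩ := SetLike.not_le_iff_exists.1 hHM
    obtain ⟨o, ho, l, hl, e⟩ := hXN g (hHX hg)
    have hlM : l ∉ M.map (pr p G) := fun hl' => hgM (h.pr_mem_map.1 (e ▸ mul_mem (others_le h hD ho) hl'))
    have hLgen := PMinFF.Top.gen_eq hs (InT.piece hs hD) (InT.top hs hD) (InT.blk_min hs hD) (InT.blk_le hs hD)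
      hl hlM
    have hDr : D.subgroupOf L ≤ (lam.comp f).range := by
      intro d hd
      obtain ⟨b, hb, hbe⟩ : ((d : ↥L) : G ⧸ kerV p G) ∈ B.map (pr p G) := hBim.ge (mem_sup_right hd)
      exact ⟨⟨b, hBH hb⟩, Subtype.ext (hlam _ (one_mem O) d.2 (by rw [one_mul]; exact hbe))⟩
    have hlr : (⟨l, hl⟩ : ↥L) ∈ (lam.comp f).range := ⟨⟨g, hg⟩, Subtype.ext (hlam _ ho hl e)⟩
    have hle : L ≤ (lam.comp f).range.map L.subtype := by
      refine hLgen.ge.trans ?_
      refine sup_le (fun d hd => ⟨⟨d, hDL hd⟩, hDr hd, rfl⟩) ?_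
      rintro _ ⟨d, hd, rfl⟩
      exact ⟨⟨l, hl⟩ * ⟨d, hDL hd⟩ * ⟨l, hl⟩⁻¹, mul_mem (mul_mem hlr (hDr hd)) (inv_mem hlr), rfl⟩
    rw [eq_top_iff]
    rintro ⟨y, hy⟩ -
    obtain ⟨z, hz, e⟩ := hle hy
    rwa [← show z = (⟨y, hy⟩ : ↥L) from Subtype.ext e]
  set σ : ↥H →* ProjectiveSpecialLinearGroup (Fin 2) F :=
    (QuotientGroup.mk' (Subgroup.center (SpecialLinearGroup (Fin 2) F))).comp (ρ.comp (lam.comp f)) with hσ
  have hσsurj : Function.Surjective σ :=
    (QuotientGroup.mk'_surjective _).comp (hρ.2.comp hσs)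
  have heq : Nonempty (↥H ⧸ σ.ker ≃* ProjectiveSpecialLinearGroup (Fin 2) F) :=
    ⟨QuotientGroup.quotientKerEquivOfSurjective σ hσsurj⟩
  -- characteristic `p`, unique maximal overgroup
  have hcE : centralizer (pCore p ↥H : Set ↥H) ≤ pCore p ↥H :=
    Cfsg.Agent.S2961.result h.cE T B (Baumann.baumann_le _) (Baumann.baumann_normalized T)
      (fun t ht => ⟨ht.1, mem_centralizer_iff.2 fun z hz => mem_centralizer_iff.1 ht.2 z
        ((Baumann.omegaCentre_thompson_le _).trans (Baumann.thompson_le_baumann _) hz)⟩) H hBH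
  have hBM : B ≤ M := (Baumann.baumann_le _).trans h.sylLe
  have huniq : ∃! K : Subgroup ↥H, IsCoatom K ∧ (S : Subgroup ↥H) ≤ K := by
    have hkey : ∀ K : Subgroup ↥H, IsCoatom K → (S : Subgroup ↥H) ≤ K → K = M.subgroupOf H := by
      intro K hK hSK
      have hle : K ≤ M.subgroupOf H := by
        intro k hk
        by_contra hkM
        refine hK.1 (eq_top_iff.2 fun y _ => ?_)
        obtain ⟨z, hz, e⟩ := hHmin (K.map H.subtype) (fun b hb => ⟨⟨b, hBH hb⟩, hSK (hS.ge hb), rfl⟩)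
          (map_subtype_le _) (fun hle => hkM (hle ⟨k, hk, rfl⟩)) y.2
        rwa [← show z = y from Subtype.ext e]
      exact ((hK.le_iff_eq fun e => hHM (subgroupOf_eq_top.1 e)).1 hle).symm
    obtain hSt | ⟨K, hK, hSK⟩ := eq_top_or_exists_le_coatom (S : Subgroup ↥H)
    · exact absurd (fun g hg => hBM ((hS.symm.trans hSt).ge (mem_top (⟨g, hg⟩ : ↥H)))) hHM
    · exact ⟨K, ⟨hK, hSK⟩, fun K' hK' => (hkey K' hK'.1 hK'.2).trans (hkey K hK hSK).symm⟩
  refine ⟨F, iF, iFF, n, H, S, σ.ker, inferInstance, hF, hn, hBH, hS, hHM,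
    fun K' h1 h2 h3 => hHmin K' h1 h2 h3, fun g hg => hXN g (hHX hg),
    RankOne.hyp_of_equiv S hcE huniq σ.ker F n hn0 hF heq, PushUp.torusComm_of_equiv σ.ker F n hn0 hF heq, ?_⟩
  intro C hC hne hch hCn
  refine hHM (le_trans ?_ (h.baumann_char_ne (C := C.map H.subtype) ?_
    (fun e => hne ((map_eq_bot_iff_of_injective _ H.subtype_injective).1 e)) ?_))
  · have h1 := le_normalizer_map (H := C) H.subtype
    rwa [normalizer_eq_top_iff.2 hCn, ← MonoidHom.range_eq_map, range_subtype] at h1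
  · rintro _ ⟨c, hc, rfl⟩
    exact hS.le (hC hc)
  · let e : ↥(S : Subgroup ↥H) ≃* ↥B := (MulEquiv.subgroupCongr hS).trans (subgroupOfEquivOfLe hBH)
    have : (C.map H.subtype).subgroupOf B = (C.subgroupOf (S : Subgroup ↥H)).map e.toMonoidHom := by
      ext b
      constructor
      · rintro ⟨c, hc, hce⟩
        exact ⟨⟨c, hC hc⟩, hc, Subtype.ext hce⟩
      · rintro ⟨c, hc, rfl⟩
        exact ⟨c.1, hc, rfl⟩
    rw [this]
    exact characteristic_iff_map_eq.2 fun φ => by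
      have h1 := characteristic_iff_map_eq.1 hch ((e.trans φ).trans e.symm)
      conv_rhs => rw [← h1]
      simp only [Subgroup.map_map]
      congr 1

end CfsgLib.LocalEven.PushMin
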