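import Cfsg.Agent.Lib.Schur.AlternatingBound
import Cfsg.Prelude.Def_Transfer

/-!
A central extension of a symmetric group in which lifts of two disjoint transpositions commute splits over the
alternating group.
-/

set_option autoImplicit false

namespace CfsgLib.LocalEven.PushMin

open Equiv Equiv.Perm Cfsg
open CfsgLib.Schur.AltBound (emb low emb_fix exists_emb sign_emb emb_swap)
open scoped commutatorElement

theorem exists_perm_four {α : Type*} [DecidableEq α] {a b c d p q r t : α} (hab : a ≠ b) (hac : a ≠ c) (had : a ≠ d)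
    (hbc : b ≠ c) (hbd : b ≠ d) (hcd : c ≠ d) (hpq : p ≠ q) (hpr : p ≠ r) (hpt : p ≠ t) (hqr : q ≠ r) (hqt : q ≠ t)
    (hrt : r ≠ t) : ∃ σ : Perm α, σ a = p ∧ σ b = q ∧ σ c = r ∧ σ d = t := by
  set σ₁ := swap a p with h₁
  set σ₂ := swap (σ₁ b) q * σ₁ with h₂
  set σ₃ := swap (σ₂ c) r * σ₂ with h₃
  have e1 : σ₁ a = p := swap_apply_left a p
  have e2a : σ₂ a = p := by
    rw [h₂, Perm.mul_apply, e1]
    exact swap_apply_of_ne_of_ne (fun e => hab (σ₁.injective (e1.trans e))) hpq
  have e2b : σ₂ b = q := by rw [h₂, Perm.mul_apply, swap_apply_left]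
  have e3a : σ₃ a = p := by
    rw [h₃, Perm.mul_apply, e2a]
    exact swap_apply_of_ne_of_ne (fun e => hac (σ₂.injective (e2a.trans e))) hpr
  have e3b : σ₃ b = q := by
    rw [h₃, Perm.mul_apply, e2b]
    exact swap_apply_of_ne_of_ne (fun e => hbc (σ₂.injective (e2b.trans e))) hqr
  have e3c : σ₃ c = r := by rw [h₃, Perm.mul_apply, swap_apply_left]
  refine ⟨swap (σ₃ d) t * σ₃, ?_, ?_, ?_, ?_⟩
  · rw [Perm.mul_apply, e3a]
    exact swap_apply_of_ne_of_ne (fun e => had (σ₃.injective (e3a.trans e))) hpt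
  · rw [Perm.mul_apply, e3b]
    exact swap_apply_of_ne_of_ne (fun e => hbd (σ₃.injective (e3b.trans e))) hqt
  · rw [Perm.mul_apply, e3c]
    exact swap_apply_of_ne_of_ne (fun e => hcd (σ₃.injective (e3c.trans e))) hrt
  · rw [Perm.mul_apply, swap_apply_left]

set_option maxRecDepth 100000 in
theorem four_cover : ∀ σ : Perm (Fin 4), sign σ = 1 →
    σ * σ = 1 ∨ (swap (0 : Fin 4) 1 * swap 1 2)⁻¹ * σ * ((swap (0 : Fin 4) 1 * swap 1 2)⁻¹ * σ) = 1 ∨
      swap (0 : Fin 4) 1 * swap 1 2 * σ * (swap (0 : Fin 4) 1 * swap 1 2 * σ) = 1 := by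
  decide

set_option maxRecDepth 100000 in
theorem four_klein : ∀ v w : Perm (Fin 4), v * v = 1 → sign v = 1 → w * w = 1 → sign w = 1 →
    v * w * (v * w) = 1 := by
  decide

set_option maxRecDepth 100000 in
theorem four_fixed : ∀ v : Perm (Fin 4), v * v = 1 → sign v = 1 →
    Commute (swap (0 : Fin 4) 1 * swap 1 2) v → v = 1 := by
  unfold Commute SemiconjBy
  decide

set_option maxRecDepth 100000 in
theorem four_list : ∀ v : Perm (Fin 4), v * v = 1 → sign v = 1 →
    v = 1 ∨ v = swap 0 1 * swap 2 3 ∨ v = swap 0 2 * swap 1 3 ∨ v = swap 0 3 * swap 1 2 := by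
  decide

variable {L : Type*} [Group L] {α : Type*} [DecidableEq α] (π : L →* Perm α) (hπ : Function.Surjective π)
variable (hk : π.ker ≤ Subgroup.center L)

include hk in
theorem lift_central {x y : L} (h : π x = π y) : ∃ z, (∀ u, Commute u z) ∧ x = z * y := by
  refine ⟨x * y⁻¹, fun u => Subgroup.mem_center_iff.1 (hk ?_) u, (inv_mul_cancel_right x y).symm⟩
  rw [MonoidHom.mem_ker, map_mul, map_inv, h, mul_inv_cancel]

include hπ hk in
/-- Lifts of disjoint transpositions commute as soon as one pair does. -/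
theorem lifts_commute {a b c d : α} (hab : a ≠ b) (hac : a ≠ c) (had : a ≠ d) (hbc : b ≠ c) (hbd : b ≠ d)
    (hcd : c ≠ d) {s s' : L} (hs : π s = swap a b) (hs' : π s' = swap c d) (hc : Commute s s') {p q r t : α}
    (hpq : p ≠ q) (hpr : p ≠ r) (hpt : p ≠ t) (hqr : q ≠ r) (hqt : q ≠ t) (hrt : r ≠ t) {u w : L}
    (hu : π u = swap p q) (hw : π w = swap r t) : Commute u w := by
  obtain ⟨σ, ea, eb, ec, ed⟩ := exists_perm_four hab hac had hbc hbd hcd hpq hpr hpt hqr hqt hrt
  obtain ⟨g, rfl⟩ := hπ σ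
  obtain ⟨z, hz, rfl⟩ := lift_central π hk (x := u) (y := g * s * g⁻¹) (by
    rw [hu, map_mul, map_mul, map_inv, hs, ← swap_apply_apply, ea, eb])
  obtain ⟨z', hz', rfl⟩ := lift_central π hk (x := w) (y := g * s' * g⁻¹) (by
    rw [hw, map_mul, map_mul, map_inv, hs', ← swap_apply_apply, ec, ed])
  exact ((hz' z).mul_right (hz _).symm).mul_left ((hz' _).mul_right (hc.conj g)) |>.symm.symm

include hπ hk in
/-- Lifts of the two double transpositions of four points commute. -/
theorem dts_commute {a b c d : α} (hab : a ≠ b) (hac : a ≠ c) (had : a ≠ d) (hbc : b ≠ c) (hbd : b ≠ d)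
    (hcd : c ≠ d) {s s' : L} (hs : π s = swap a b) (hs' : π s' = swap c d) (hc : Commute s s') {p q r t : α}
    (hpq : p ≠ q) (hpr : p ≠ r) (hpt : p ≠ t) (hqr : q ≠ r) (hqt : q ≠ t) (hrt : r ≠ t) {X X' : L}
    (hX : π X = swap p q * swap r t) (hX' : π X' = swap p r * swap q t) : Commute X X' := by
  obtain ⟨u, hu⟩ := hπ (swap p q)
  obtain ⟨w, hw⟩ := hπ (swap r t)
  have huw := lifts_commute π hπ hk hab hac had hbc hbd hcd hs hs' hc hpq hpr hpt hqr hqt hrt hu hw
  obtain ⟨z₀, hz₀, eX⟩ := lift_central π hk (x := X) (y := u * w) (by rw [hX, map_mul, hu, hw])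
  set v := swap p r * swap q t with hv
  have vp : v p = r := by
    rw [hv, Perm.mul_apply, swap_apply_of_ne_of_ne hpq hpt, swap_apply_left]
  have vq : v q = t := by
    rw [hv, Perm.mul_apply, swap_apply_left, swap_apply_of_ne_of_ne hpt.symm hrt.symm]
  have vr : v r = p := by
    rw [hv, Perm.mul_apply, swap_apply_of_ne_of_ne hqr.symm hrt, swap_apply_right]
  have vt : v t = q := by
    rw [hv, Perm.mul_apply, swap_apply_right, swap_apply_of_ne_of_ne hpq.symm hqr]
  obtain ⟨z, hz, e1⟩ := lift_central π hk (x := X' * u * X'⁻¹) (y := w) (by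
    rw [map_mul, map_mul, map_inv, hX', hu, hw, ← swap_apply_apply, vp, vq])
  obtain ⟨z', hz', e2⟩ := lift_central π hk (x := X' * w * X'⁻¹) (y := u) (by
    rw [map_mul, map_mul, map_inv, hX', hu, hw, ← swap_apply_apply, vr, vt])
  have hsq : Commute (X' * X') u := by
    refine (Subgroup.mem_center_iff.1 (hk ?_) u).symm
    rw [MonoidHom.mem_ker, map_mul, hX']
    refine Equiv.ext fun i => ?_
    show v (v i) = i
    by_cases h1 : i = p
    · rw [h1, vp, vr]
    by_cases h2 : i = q
    · rw [h2, vq, vt]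
    by_cases h3 : i = r
    · rw [h3, vr, vp]
    by_cases h4 : i = t
    · rw [h4, vt, vq]
    have : v i = i := by
      rw [hv, Perm.mul_apply, swap_apply_of_ne_of_ne h2 h4, swap_apply_of_ne_of_ne h1 h3]
    rw [this, this]
  have hzz : z * z' = 1 := by
    have h0 : X' * (X' * u * X'⁻¹) * X'⁻¹ = u := by
      rw [show X' * (X' * u * X'⁻¹) * X'⁻¹ = X' * X' * u * (X' * X')⁻¹ by group, hsq.eq, mul_inv_cancel_right]
    rw [e1, ← mul_assoc, (hz X').eq, show z * X' * w * X'⁻¹ = z * (X' * w * X'⁻¹) by group, e2, ← mul_assoc] at h0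
    exact mul_eq_right.1 h0
  have hcj : X' * (u * w) * X'⁻¹ = u * w := by
    rw [show X' * (u * w) * X'⁻¹ = X' * u * X'⁻¹ * (X' * w * X'⁻¹) by group, e1, e2,
      show z * w * (z' * u) = z * (w * z') * u by group, (hz' w).eq,
      show z * (z' * w) * u = z * z' * (w * u) by group, hzz, one_mul, huw.eq]
  rw [eX]
  exact ((hz₀ X').symm.mul_left (show Commute (u * w) X' from (mul_inv_eq_iff_eq_mul.1 hcj).symm))

/-- The splitting over the alternating group. -/
theorem alt_split [Finite L] {m : ℕ} (hm : m = 3 ∨ 6 ≤ m) (π : L →* Perm (Fin (m + 2))) (hπ : Function.Surjective π)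
    (hk : π.ker ≤ Subgroup.center L) (hk2 : IsPGroup 2 ↥π.ker) (E : Subgroup L)
    (hE : E.map π = alternatingGroup (Fin (m + 2))) (hres : pResidual 2 ↥E = ⊤) {a b c d : Fin (m + 2)}
    (hab : a ≠ b) (hac : a ≠ c) (had : a ≠ d) (hbc : b ≠ c) (hbd : b ≠ d) (hcd : c ≠ d) {s s' : L}
    (hs : π s = swap a b) (hs' : π s' = swap c d) (hc : Commute s s') : E ⊓ π.ker = ⊥ := by
  classical
  haveI : Fact (Nat.Prime 2) := ⟨Nat.prime_two⟩
  set f := π.comp E.subtype with hf
  have hn : 4 ≤ m + 2 := by omega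
  have hr : f.range = alternatingGroup (Fin (m + 2)) := by rw [hf, MonoidHom.range_comp, E.range_subtype, hE]
  have hkc : f.ker ≤ Subgroup.center ↥E := fun x hx => Subgroup.mem_center_iff.2 fun y =>
    Subtype.ext (Subgroup.mem_center_iff.1 (hk (show π (x : L) = 1 from hx)) (y : L))
  have hev : ∀ x, sign (f x) = 1 := fun x => by
    rw [← Equiv.Perm.mem_alternatingGroup, ← hr]; exact ⟨x, rfl⟩
  have hinj : Function.Injective (emb hn) := fun σ τ h => Equiv.ext fun i =>
    Fin.castLE_injective hn (by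
      rw [← CfsgLib.Schur.AltBound.emb_castLE hn σ, ← CfsgLib.Schur.AltBound.emb_castLE hn τ, h])
  set D := (low (m + 2)).comap f with hD
  choose res hres' using fun x : ↥D => exists_emb hn (π := f x.1) x.2
  let g : ↥D →* Perm (Fin 4) := MonoidHom.mk' res fun x y => hinj (by
    rw [map_mul, hres', hres', hres', Subgroup.coe_mul, map_mul])
  have hg : ∀ x : ↥D, emb hn (g x) = f x.1 := hres'
  have hgs : ∀ x : ↥D, sign (g x) = 1 := fun x => by rw [← sign_emb hn, hg]; exact hev _
  have hg1 : ∀ {x : ↥D}, g x = 1 → f x.1 = 1 := fun {x} h => by rw [← hg, h, map_one]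
  let N : Subgroup ↥D :=
    { carrier := {x | g x * g x = 1}
      one_mem' := by simp
      mul_mem' := fun {x y} hx hy => by
        show g (x * y) * g (x * y) = 1
        rw [map_mul]
        exact four_klein _ _ hx (hgs x) hy (hgs y)
      inv_mem' := fun {x} hx => by
        show g x⁻¹ * g x⁻¹ = 1
        rw [map_inv, ← mul_inv_rev, hx, inv_one] }
  have hcen : ∀ {x : ↥D}, g x = 1 → ∀ y : ↥D, Commute x y := fun {x} h y =>
    Subtype.ext (Subgroup.mem_center_iff.1 (hkc (hg1 h)) y.1).symm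
  set P : Fin 4 → Fin (m + 2) := Fin.castLE hn
  have hP : ∀ {i j : Fin 4}, i ≠ j → P i ≠ P j := fun h => (Fin.castLE_injective hn).ne h
  have hdt : ∀ {i j k l : Fin 4}, i ≠ j → i ≠ k → i ≠ l → j ≠ k → j ≠ l → k ≠ l → ∀ {x y : ↥D},
      g x = swap i j * swap k l → g y = swap i k * swap j l → Commute x y := by
    intro i j k l h1 h2 h3 h4 h5 h6 x y hx hy
    refine Subtype.ext (Subtype.ext ?_)
    refine (dts_commute π hπ hk hab hac had hbc hbd hcd hs hs' hc (hP h1) (hP h2) (hP h3) (hP h4) (hP h5) (hP h6)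
      (X := ((x : ↥E) : L)) (X' := ((y : ↥E) : L)) ?_ ?_).eq
    · show f x.1 = _
      rw [← hg, hx, map_mul, emb_swap, emb_swap]
    · show f y.1 = _
      rw [← hg, hy, map_mul, emb_swap, emb_swap]
  have hsame : ∀ {x y : ↥D}, g x = g y → Commute x y := fun {x y} h => by
    have h1 : g (x * y⁻¹) = 1 := by rw [map_mul, map_inv, h, mul_inv_cancel]
    have := (hcen h1 y).mul_left (Commute.refl y)
    rwa [inv_mul_cancel_right] at this
  have hab' : ∀ x ∈ N, ∀ y ∈ N, Commute x y := by
    intro x hx y hy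
    rcases four_list _ hx (hgs x) with e | e | e | e <;> rcases four_list _ hy (hgs y) with e' | e' | e' | e'
    all_goals first
      | exact hcen e y
      | exact (hcen e' x).symm
      | exact hsame (e.trans e'.symm)
      | exact hdt (i := 0) (j := 1) (k := 2) (l := 3) (by decide) (by decide) (by decide) (by decide) (by decide)
          (by decide) e e'
      | exact (hdt (i := 0) (j := 1) (k := 2) (l := 3) (by decide) (by decide) (by decide) (by decide) (by decide)
          (by decide) e' e).symm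
      | exact hdt (i := 0) (j := 1) (k := 3) (l := 2) (by decide) (by decide) (by decide) (by decide) (by decide)
          (by decide) (e.trans (by decide)) (e'.trans (by decide))
      | exact (hdt (i := 0) (j := 1) (k := 3) (l := 2) (by decide) (by decide) (by decide) (by decide) (by decide)
          (by decide) (e'.trans (by decide)) (e.trans (by decide))).symm
      | exact hdt (i := 0) (j := 2) (k := 3) (l := 1) (by decide) (by decide) (by decide) (by decide) (by decide)
          (by decide) (e.trans (by decide)) (e'.trans (by decide))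
      | exact (hdt (i := 0) (j := 2) (k := 3) (l := 1) (by decide) (by decide) (by decide) (by decide) (by decide)
          (by decide) (e'.trans (by decide)) (e.trans (by decide))).symm
  -- a lift of the three-cycle
  obtain ⟨y₀, hy₀⟩ : emb hn (swap (0 : Fin 4) 1 * swap 1 2) ∈ f.range := by
    rw [hr, Equiv.Perm.mem_alternatingGroup, sign_emb]
    decide
  let y : ↥D := ⟨y₀, show f y₀ ∈ low (m + 2) by rw [hy₀]; exact fun i hi => emb_fix hn _ hi⟩
  have hy : g y = swap (0 : Fin 4) 1 * swap 1 2 := hinj ((hg y).trans hy₀)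
  have hNn : ∀ (h : ↥D), ∀ x ∈ N, h * x * h⁻¹ ∈ N := fun h x hx => by
    show g (h * x * h⁻¹) * g (h * x * h⁻¹) = 1
    rw [← map_mul, show h * x * h⁻¹ * (h * x * h⁻¹) = h * (x * x) * h⁻¹ by group, map_mul, map_mul, map_mul,
      show g x * g x = 1 from hx, mul_one, map_inv, mul_inv_cancel]
  have hyN : ∀ x ∈ N, ⁅y, x⁆ ∈ N := fun x hx => by
    rw [commutatorElement_def]
    exact mul_mem (hNn y x hx) (inv_mem hx)
  let R : Subgroup ↥D :=
    { carrier := {r | ∃ x ∈ N, ⁅y, x⁆ = r}
      one_mem' := ⟨1, one_mem N, commutatorElement_one_right y⟩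
      mul_mem' := by
        rintro _ _ ⟨x, hx, rfl⟩ ⟨x', hx', rfl⟩
        refine ⟨x * x', mul_mem hx hx', ?_⟩
        rw [show ⁅y, x * x'⁆ = ⁅y, x⁆ * (x * ⁅y, x'⁆ * x⁻¹) by simp only [commutatorElement_def]; group,
          (hab' x hx _ (hyN x' hx')).eq, mul_inv_cancel_right]
      inv_mem' := by
        rintro _ ⟨x, hx, rfl⟩
        refine ⟨x⁻¹, inv_mem hx, ?_⟩
        rw [show ⁅y, x⁻¹⁆ = x⁻¹ * ⁅y, x⁆⁻¹ * x by simp only [commutatorElement_def]; group,
          (hab' x⁻¹ (inv_mem hx) _ (inv_mem (hyN x hx))).eq, inv_mul_cancel_right] }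
  have hRN : R ≤ N := by rintro _ ⟨x, hx, rfl⟩; exact hyN x hx
  have hgen : N ⊔ Subgroup.zpowers y = ⊤ := eq_top_iff.2 fun h _ => by
    rcases four_cover (g h) (hgs h) with e | e | e
    · exact Subgroup.mem_sup_left e
    · have h1 : y⁻¹ * h ∈ N := show g (y⁻¹ * h) * g (y⁻¹ * h) = 1 by rw [map_mul, map_inv, hy]; exact e
      have := mul_mem (Subgroup.mem_sup_right (S := N) (Subgroup.mem_zpowers y))
        (Subgroup.mem_sup_left (T := Subgroup.zpowers y) h1)
      rwa [mul_inv_cancel_left] at this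
    · have h1 : y * h ∈ N := show g (y * h) * g (y * h) = 1 by rw [map_mul, hy]; exact e
      have := mul_mem (Subgroup.mem_sup_right (S := N) (inv_mem (Subgroup.mem_zpowers y)))
        (Subgroup.mem_sup_left (T := Subgroup.zpowers y) h1)
      rwa [inv_mul_cancel_left] at this
  have hRn : R.Normal := by
    rw [← Subgroup.normalizer_eq_top_iff, ← top_le_iff, ← hgen, sup_le_iff, Subgroup.zpowers_le]
    refine ⟨fun x hx => Subgroup.mem_normalizer_iff.2 fun r => ?_, ?_⟩
    · constructor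
      · intro hr'
        rwa [(hab' x hx r (hRN hr')).eq, mul_inv_cancel_right]
      · intro hr'
        have h1 := (hab' x⁻¹ (inv_mem hx) _ (hRN hr')).eq
        rw [show x⁻¹ * (x * r * x⁻¹) = r * x⁻¹ by group] at h1
        rwa [mul_right_cancel h1]
    · refine Subgroup.mem_normalizer_fintype ?_
      rintro _ ⟨x, hx, rfl⟩
      exact ⟨y * x * y⁻¹, hNn y x hx, by simp only [commutatorElement_def]; group⟩
  have hcomm : commutator ↥D ≤ R := by
    haveI := hRn
    rw [← Subgroup.Normal.quotient_commutative_iff_commutator_le]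
    set q := QuotientGroup.mk' R
    have hle : (⊤ : Subgroup ↥D).map q ≤ Subgroup.center (↥D ⧸ R) := by
      rw [← hgen, Subgroup.map_le_iff_le_comap, sup_le_iff, Subgroup.zpowers_le]
      refine ⟨fun x hx => ?_, ?_⟩
      · refine Subgroup.mem_comap.2 (Subgroup.mem_center_iff.2 fun w => ?_)
        obtain ⟨w, rfl⟩ := QuotientGroup.mk'_surjective R w
        have hcl : (⊤ : Subgroup ↥D) ≤ (Subgroup.centralizer ({q x} : Set (↥D ⧸ R))).comap q := by
          rw [← hgen, sup_le_iff, Subgroup.zpowers_le]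
          refine ⟨fun x' hx' => Subgroup.mem_centralizer_singleton_iff.2 ((hab' x' hx' x hx).map q).eq, ?_⟩
          refine Subgroup.mem_centralizer_singleton_iff.2 ?_
          rw [← commutatorElement_eq_one_iff_mul_comm, ← map_commutatorElement]
          exact (QuotientGroup.eq_one_iff _).2 ⟨x, hx, rfl⟩
        exact Subgroup.mem_centralizer_singleton_iff.1 (hcl (Subgroup.mem_top w))
      · refine Subgroup.mem_comap.2 (Subgroup.mem_center_iff.2 fun w => ?_)
        obtain ⟨w, rfl⟩ := QuotientGroup.mk'_surjective R w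
        have hcl : (⊤ : Subgroup ↥D) ≤ (Subgroup.centralizer ({q y} : Set (↥D ⧸ R))).comap q := by
          rw [← hgen, sup_le_iff, Subgroup.zpowers_le]
          refine ⟨fun x' hx' => Subgroup.mem_centralizer_singleton_iff.2 ?_,
            Subgroup.mem_centralizer_singleton_iff.2 rfl⟩
          symm
          rw [← commutatorElement_eq_one_iff_mul_comm, ← map_commutatorElement]
          exact (QuotientGroup.eq_one_iff _).2 ⟨x', hx', rfl⟩
        exact Subgroup.mem_centralizer_singleton_iff.1 (hcl (Subgroup.mem_top w))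
    refine ⟨⟨fun u v => ?_⟩⟩
    obtain ⟨v, rfl⟩ := QuotientGroup.mk'_surjective R v
    exact Subgroup.mem_center_iff.1 (hle ⟨v, Subgroup.mem_top v, rfl⟩) u
  have hbound : ∀ x ∈ ⁅D, D⁆, f x = 1 → x = 1 := by
    intro x hx hfx
    rw [← Subgroup.map_subtype_commutator] at hx
    obtain ⟨x, hxc, rfl⟩ := hx
    obtain ⟨v, hv, rfl⟩ := hcomm hxc
    have h1 : g ⁅y, v⁆ = 1 := hinj ((hg _).trans (hfx.trans (map_one _).symm))
    rw [map_commutatorElement, hy, commutatorElement_eq_one_iff_mul_comm] at h1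
    have h2 : g v = 1 := four_fixed _ hv (hgs v) h1
    rw [commutatorElement_eq_one_iff_mul_comm.2 (hcen h2 y).symm.eq]
    rfl
  have hm3 : 3 ≤ m := by omega
  have h0 := CfsgLib.Schur.AltBound.ker_inf_commutator f hkc hr hm3 hbound hm
  rw [eq_bot_iff]
  rintro x ⟨hxE, hxk⟩
  have hall : ∀ w : ↥E, w ∈ pResidual 2 ↥E → (orderOf (Abelianization.of w)).Coprime 2 := by
    intro w hw
    induction hw using Subgroup.closure_induction with
    | mem w hw => exact Nat.Coprime.coprime_dvd_left (orderOf_map_dvd Abelianization.of w) hw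
    | one => rw [map_one, orderOf_one]; exact Nat.coprime_one_left 2
    | mul u v _ _ hu hv =>
      rw [map_mul]
      exact Nat.Coprime.coprime_dvd_left ((Commute.all _ _).orderOf_mul_dvd_mul_orderOf) (hu.mul_left hv)
    | inv u _ hu => rwa [map_inv, orderOf_inv]
  have h1 := hall ⟨x, hxE⟩ (hres.ge (Subgroup.mem_top _))
  obtain ⟨i, hi⟩ := hk2 ⟨x, hxk⟩
  have hxi : (⟨x, hxE⟩ : ↥E) ^ 2 ^ i = 1 := Subtype.ext (by simpa using congrArg Subtype.val hi)
  have h2 : Abelianization.of (⟨x, hxE⟩ : ↥E) = 1 := orderOf_eq_one_iff.1 (Nat.eq_one_of_dvd_coprimes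
    (h1.symm.pow_left i) (orderOf_dvd_of_pow_eq_one (by rw [← map_pow, hxi, map_one])) dvd_rfl)
  have h3 : (⟨x, hxE⟩ : ↥E) ∈ f.ker ⊓ commutator ↥E := ⟨hxk, (Abelianization.ker_of (G := ↥E)).le h2⟩
  rw [h0] at h3
  exact congrArg Subtype.val (Subgroup.mem_bot.1 h3)

end CfsgLib.LocalEven.PushMin
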