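import Cfsg.Agent.Lib.LocalEven.PushMin.AltRep
import Cfsg.Agent.Lib.LocalEven.PushMin.AltSplit

/-!
The residual of a symmetrical class: an extension of its module, all of it in the module of the group, by the
alternating group.
-/

set_option autoImplicit false
set_option linter.unusedSectionVars false

namespace CfsgLib.LocalEven.PushMin

open Cfsg Subgroup
open CfsgLib.LocalEven.MinOffender (fx)
open CfsgLib.LocalEven.PMinFF (InT Link blk cls)
open Equiv (swap)
open scoped commutatorElement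

theorem exists_notMem_finset {N : ℕ} (S : Finset (Fin N)) (hS : S.card < N) : ∃ x, x ∉ S := by
  by_contra hc
  push Not at hc
  rw [Finset.eq_univ_iff_forall.2 hc, Finset.card_univ, Fintype.card_fin] at hS
  exact lt_irrefl _ hS

/-- A three-cycle sending `i` to `j` and fixing `l`. -/
theorem exists_even_move {N : ℕ} (hN : 4 ≤ N) {i j l : Fin N} (hij : i ≠ j) (hli : l ≠ i) (hlj : l ≠ j) :
    ∃ σ : Equiv.Perm (Fin N), Equiv.Perm.sign σ = 1 ∧ σ i = j ∧ σ l = l := by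
  obtain ⟨y, hy⟩ := exists_notMem_finset {i, j, l} (lt_of_le_of_lt Finset.card_le_three (by omega))
  simp only [Finset.mem_insert, Finset.mem_singleton, not_or] at hy
  refine ⟨swap i j * swap j y, ?_, ?_, ?_⟩
  · rw [map_mul, Equiv.Perm.sign_swap hij, Equiv.Perm.sign_swap (Ne.symm hy.2.1)]
    rfl
  · rw [Equiv.Perm.mul_apply, Equiv.swap_apply_of_ne_of_ne hij (Ne.symm hy.1), Equiv.swap_apply_left]
  · rw [Equiv.Perm.mul_apply, Equiv.swap_apply_of_ne_of_ne hlj (Ne.symm hy.2.2),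
      Equiv.swap_apply_of_ne_of_ne hli hlj]

variable {G : Type*} [Group G] [Finite G]

/-- A `p'`-element of a product with a normalising `p`-group lies in the first factor. -/
theorem mem_of_coprime_sup {p : ℕ} {E R : Subgroup G} (hRE : R ≤ normalizer (E : Set G))
    (hR : IsPGroup p ↥R) {g : G} (hg : g ∈ E ⊔ R) (hgo : (orderOf g).Coprime p) : g ∈ E := by
  obtain ⟨e, he, t, ht, rfl⟩ := CfsgLib.Solvable.exists_mul_of_mem_sup hRE hg
  obtain ⟨i, hi⟩ := hR ⟨t, ht⟩
  have hti : t ^ p ^ i = 1 := by simpa using congrArg Subtype.val hi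
  have hpw : ∀ k : ℕ, (e * t) ^ k * (t ^ k)⁻¹ ∈ E := fun k => by
    induction k with
    | zero => simp [one_mem]
    | succ k ih =>
      rw [show (e * t) ^ (k + 1) * (t ^ (k + 1))⁻¹ = (e * t) ^ k * (t ^ k)⁻¹ * (t ^ k * e * (t ^ k)⁻¹) by
        rw [pow_succ, pow_succ]; group]
      exact mul_mem ih ((mem_normalizer_iff.1 (pow_mem (hRE ht) k) e).1 he)
  have h1 := hpw (p ^ i)
  rw [hti, inv_one, mul_one] at h1
  obtain ⟨k, hk⟩ : ∃ k : ℕ, ((e * t) ^ (p ^ i)) ^ k = e * t :=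
    exists_pow_eq_self_of_coprime (hgo.pow_right i).symm
  exact hk ▸ pow_mem h1 k

/-- The facts on the residual of a symmetrical class. -/
structure AltCore (T : Sylow 2 G) (M : Subgroup G) (D : Subgroup (G ⧸ kerV 2 G)) {n m : ℕ}
    (ρ : ↥(cls 2 (bT T) (Additive ↥(modV 2 G)) D) →* Equiv.Perm (Fin (m + 2)))
    (ψ : Additive ↥(modV 2 G) →+ (Fin (m + 2) → ZMod 2)) (pa pb : ClsMem T D → Fin (m + 2)) (W : Subgroup G) : Prop where
  rep : AltRep T D n m ρ ψ pa pb
  pairs : 2 * Nat.card (ClsMem T D) = m + 1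
  ker : kerV 2 G = pCore 2 G
  leV : W ≤ modV 2 G
  leE : W ≤ clsRes T D
  conjW : clsRes T D ≤ normalizer (W : Set G)
  core : ∀ e ∈ clsRes T D, ∀ q ∈ pCore 2 G, ⁅e, q⁆ ∈ W
  infQ : ∀ e ∈ clsRes T D, e ∈ pCore 2 G → e ∈ W
  prC : (clsRes T D).map (pr 2 G) ≤ cls 2 (bT T) (Additive ↥(modV 2 G)) D
  even : ∀ g : ↥(cls 2 (bT T) (Additive ↥(modV 2 G)) D),
    (g : G ⧸ kerV 2 G) ∈ (clsRes T D).map (pr 2 G) ↔ Equiv.Perm.sign (ρ g) = 1
  inj : ∀ (u : G) (hu : u ∈ modV 2 G), u ∈ W → ψ (toMod u hu) = 0 → u = 1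
  onto : ∀ v : Fin (m + 2) → ZMod 2, ∑ i, v i = 0 → ∃ (u : G) (hu : u ∈ modV 2 G), u ∈ W ∧ ψ (toMod u hu) = v
  noFix : ∀ u ∈ W, (∀ e ∈ clsRes T D, e * u = u * e) → u = 1
  perfW : W ≤ ⁅W, clsRes T D⁆
  commB : ⁅clsRes T D, baumannSubgroupOf 2 (T : Subgroup G)⁆ = clsRes T D
  omega : ⁅clsRes T D, omegaOneCenter 2 (T : Subgroup G)⁆ ≠ ⊥
  notLe : ¬ clsRes T D ≤ M

theorem exists_altCore {T : Sylow 2 G} {M : Subgroup G} (h : Hyps 2 T M) {D : Subgroup (G ⧸ kerV 2 G)}
    (hD : InT 2 (bT T) (Additive ↥(modV 2 G)) D) (h2 : Nat.card ↥D = 2)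
    (hex : ∃ D₂, InT 2 (bT T) (Additive ↥(modV 2 G)) D₂ ∧ Link 2 (bT T) (Additive ↥(modV 2 G)) D D₂ ∧ D₂ ≠ D) :
    ∃ (n m : ℕ) (ρ : ↥(cls 2 (bT T) (Additive ↥(modV 2 G)) D) →* Equiv.Perm (Fin (m + 2)))
      (ψ : Additive ↥(modV 2 G) →+ (Fin (m + 2) → ZMod 2)) (pa pb : ClsMem T D → Fin (m + 2)) (W : Subgroup G),
      AltCore (n := n) T M D ρ ψ pa pb W := by
  classical
  have hkerQ : kerV 2 G = pCore 2 G := (exists_altMem h hD h2).1
  set V := Additive ↥(modV 2 G)
  set C := cls 2 (bT T) (Additive ↥(modV 2 G)) D with hC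
  obtain ⟨n, m, ρ, ψ, pa, pb, r⟩ := exists_altRep h hD h2 hex
  have hs := h.setting
  have hcard : ∀ B : ClsMem T D, Nat.card ↥B.1 = 2 := fun B => (InT.card_eq hs hD B.2.1).trans h2
  choose W x s hA using fun B : ClsMem T D => (exists_altMem h B.2.1 (hcard B)).2
  haveI : Fintype (ClsMem T D) := Fintype.ofFinite _
  set E := ⨆ B : ClsMem T D, memRes T B.1 with hE
  set W₀ := ⨆ B : ClsMem T D, W B with hW₀
  have hEB : ∀ B : ClsMem T D, memRes T B.1 ≤ E := le_iSup (fun B : ClsMem T D => memRes T B.1)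
  have hWB : ∀ B, W B ≤ W₀ := le_iSup W
  have hW₀V : W₀ ≤ modV 2 G := iSup_le fun B => (hA B).leV
  have hW₀E : W₀ ≤ E := iSup_le fun B => (hA B).leE.trans (hEB B)
  have hQV : modV 2 G ≤ pCore 2 G := Hyps.modV_le
  have hVc : ∀ v ∈ modV 2 G, ∀ q ∈ pCore 2 G, Commute q v := fun v hv q hq => (Oz.mem_iff.1 hv).2.1 q hq
  set Bm := baumannSubgroupOf 2 (T : Subgroup G) with hBm
  have hVB : ∀ v ∈ modV 2 G, v ∈ Bm := fun v hv =>
    ⟨h.core_le (hQV hv), mem_centralizer_iff.2 fun z hz => (Oz.mem_iff.1 hv).2.1 z (h.zJ_le_core hz)⟩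
  -- normalisers
  have hK₂ : ∀ e ∈ E, e ∈ normalizer (W₀ : Set G) ∧ ∀ q ∈ pCore 2 G, ⁅e, q⁆ ∈ W₀ := by
    let K₂ : Subgroup G :=
      { carrier := {a | a ∈ normalizer (W₀ : Set G) ∧ ∀ q ∈ pCore 2 G, ⁅a, q⁆ ∈ W₀}
        one_mem' := ⟨one_mem _, fun q _ => by rw [commutatorElement_one_left]; exact one_mem _⟩
        mul_mem' := fun {a b} ha hb => ⟨mul_mem ha.1 hb.1, fun q hq => by
          rw [show ⁅a * b, q⁆ = a * ⁅b, q⁆ * a⁻¹ * ⁅a, q⁆ by simp only [commutatorElement_def]; group]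
          exact mul_mem ((mem_normalizer_iff.1 ha.1 _).1 (hb.2 q hq)) (ha.2 q hq)⟩
        inv_mem' := fun {a} ha => ⟨inv_mem ha.1, fun q hq => by
          rw [show ⁅a⁻¹, q⁆ = a⁻¹ * ⁅a, q⁆⁻¹ * a⁻¹⁻¹ by simp only [commutatorElement_def]; group]
          exact (mem_normalizer_iff.1 (inv_mem ha.1) _).1 (inv_mem (ha.2 q hq))⟩ }
    have hle : E ≤ K₂ := iSup_le fun B e he => ⟨CfsgLib.Solvable.mem_normalizer_of_conj_mem fun w hw => by
      rw [show e * w * e⁻¹ = ⁅e, w⁆ * w by simp only [commutatorElement_def]; group]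
      exact mul_mem (hWB B ((hA B).core e he w (hQV (hW₀V hw)))) hw,
      fun q hq => hWB B ((hA B).core e he q hq)⟩
    exact fun e he => hle he
  have hsW : ∀ B, ∀ b ∈ Bm, ⁅s B, b⁆ ∈ W₀ := fun B b hb => hWB B ((hA B).sComm b hb)
  have hsN : ∀ B, s B ∈ normalizer (W₀ : Set G) := fun B =>
    CfsgLib.Solvable.mem_normalizer_of_conj_mem fun w hw => by
      rw [show s B * w * (s B)⁻¹ = ⁅s B, w⁆ * w by simp only [commutatorElement_def]; group]
      exact mul_mem (hsW B w (hVB w (hW₀V hw))) hw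
  have hBmN : Bm ≤ normalizer (E : Set G) := fun b hb => CfsgLib.LocalEven.mem_normalizer_of_conj_le (by
    rw [hE, Subgroup.map_iSup]
    refine iSup_le fun B => le_trans ?_ (hEB B)
    have h1 : b ∈ normalizer ((⁅memRes T B.1, Bm⁆ : Subgroup G) : Set G) := by
      rw [commutator_comm]
      exact CfsgLib.Solvable.le_normalizer_commutator_left _ _ hb
    rw [(hA B).commB] at h1
    exact (mem_normalizer_iff_map_conj_eq.1 h1).le)
  -- the images are even
  let Aev : Subgroup G := (((alternatingGroup (Fin (m + 2))).comap ρ).map C.subtype).comap (pr 2 G)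
  have hcop_even : ∀ g : G, (orderOf g).Coprime 2 → pr 2 G g ∈ C → g ∈ Aev := by
    intro g hg hgC
    refine ⟨⟨pr 2 G g, hgC⟩, ?_, rfl⟩
    rw [SetLike.mem_coe, mem_comap, Equiv.Perm.mem_alternatingGroup]
    have h1 : orderOf (Equiv.Perm.sign (ρ ⟨pr 2 G g, hgC⟩)) ∣ orderOf g :=
      ((orderOf_map_dvd Equiv.Perm.sign _).trans (orderOf_map_dvd ρ _)).trans
        (by rw [Subgroup.orderOf_mk]; exact orderOf_map_dvd _ _)
    have h2' : orderOf (Equiv.Perm.sign (ρ ⟨pr 2 G g, hgC⟩)) ∣ 2 := orderOf_dvd_of_pow_eq_one (Int.units_pow_two _)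
    exact orderOf_eq_one_iff.1 (Nat.eq_one_of_dvd_coprimes hg h1 h2')
  have hEev : E ≤ Aev := iSup_le fun B => Baumann.pResidualOf_le_iff.2 fun g hg hgo =>
    hcop_even g hgo (blk_le_cls B hg)
  have hprC : E.map (pr 2 G) ≤ C := by
    rintro _ ⟨e, he, rfl⟩
    obtain ⟨y, -, hy⟩ := hEev he
    exact hy ▸ y.2
  have hsign : ∀ g : ↥C, (g : G ⧸ kerV 2 G) ∈ E.map (pr 2 G) → Equiv.Perm.sign (ρ g) = 1 := by
    rintro g ⟨e, he, hge⟩
    obtain ⟨y, hy, hy'⟩ := hEev he
    obtain rfl : y = g := Subtype.ext (hy'.trans hge)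
    exact Equiv.Perm.mem_alternatingGroup.1 hy
  have hsC : ∀ B, pr 2 G (s B) ∈ C := fun B =>
    blk_le_cls B ((InT.blk_min hs B.2.1).aLe (hA B).sD)
  -- the image is the alternating group
  have h5 : 5 ≤ m + 2 := by
    have h1 := r.size
    have h4 := r.four
    by_contra hlt
    rcases n with _ | n
    · simp at h1; omega
    · rw [pow_succ] at h1; omega
  have honto : ∀ g : ↥C, Equiv.Perm.sign (ρ g) = 1 → (g : G ⧸ kerV 2 G) ∈ E.map (pr 2 G) := by
    have hCN : C ≤ normalizer (E.map (pr 2 G) : Set (G ⧸ kerV 2 G)) := by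
      refine iSup_le fun B => ?_
      refine ((InT.blk_min hs B.2.1).least ((memRes T B.1).map (pr 2 G) ⊔ B.1) le_sup_right
        (sup_le (hA B).prE (InT.blk_min hs B.2.1).aLe) fun hle => (hA B).notLe fun e he =>
          h.pr_mem_map.1 (hle (mem_sup_left (mem_map_of_mem _ he)))).trans (sup_le ?_ ?_)
      · exact (Subgroup.map_mono (hEB B)).trans le_normalizer
      · intro g hg
        by_cases hg1 : g = 1
        · rw [hg1]; exact one_mem _
        · obtain ⟨y, -, hy⟩ := (Nat.card_eq_two_iff' (1 : ↥B.1)).1 (hcard B)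
          have e : g = pr 2 G (s B) := congrArg Subtype.val ((hy ⟨g, hg⟩ fun e => hg1 (congrArg Subtype.val e)).trans
            (hy ⟨_, (hA B).sD⟩ fun e => (hA B).sne (congrArg Subtype.val e)).symm)
          rw [e]
          exact le_normalizer_map (pr 2 G) ⟨s B, hBmN (hA B).sB, rfl⟩
    haveI := normal_subgroupOf_of_le_normalizer hCN
    set R := ((E.map (pr 2 G)).subgroupOf C).map ρ with hR
    haveI hRn : R.Normal := (inferInstance : ((E.map (pr 2 G)).subgroupOf C).Normal).map ρ r.bij.2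
    have hRA : R ≤ alternatingGroup (Fin (m + 2)) := by
      rintro _ ⟨g, hg, rfl⟩
      exact Equiv.Perm.mem_alternatingGroup.2 (hsign g hg)
    haveI : IsSimpleGroup ↥(alternatingGroup (Fin (m + 2))) := alternatingGroup.isSimpleGroup (by
      rw [Nat.card_eq_fintype_card, Fintype.card_fin]; exact h5)
    rcases (hRn.subgroupOf (alternatingGroup (Fin (m + 2)))).eq_bot_or_eq_top with e | e
    · exfalso
      obtain ⟨D₂, -⟩ := hex
      let B₀ : ClsMem T D := ⟨D, hD, Or.inl rfl⟩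
      have hxm : pr 2 G (x B₀) ∈ E.map (pr 2 G) := mem_map_of_mem _ (hEB B₀ (hA B₀).xE)
      have h1 : ρ ⟨_, hprC hxm⟩ ∈ R := mem_map_of_mem ρ hxm
      have h2' : (⟨_, hRA h1⟩ : ↥(alternatingGroup (Fin (m + 2)))) ∈ R.subgroupOf _ := h1
      rw [e, mem_bot] at h2'
      exact (hA B₀).prx (congrArg Subtype.val (r.bij.1 ((congrArg Subtype.val h2').trans (map_one ρ).symm)))
    · intro g hg
      have h1 : (⟨ρ g, Equiv.Perm.mem_alternatingGroup.2 hg⟩ : ↥(alternatingGroup (Fin (m + 2)))) ∈ R.subgroupOf _ :=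
        e ▸ mem_top _
      obtain ⟨g', hg', e'⟩ := mem_subgroupOf.1 h1
      rwa [r.bij.1 e'] at hg'
  -- the module
  have hmod : ∀ (e : G) (he : e ∈ E) (v : V), ∃ hu : ⁅e, val v⁆ ∈ modV 2 G,
      ⁅e, val v⁆ ∈ W₀ ∧ toMod ⁅e, val v⁆ hu = pr 2 G e • v - v := fun e he v => by
    have h1 := (hK₂ e he).2 (val v) (hQV (val_mem v))
    refine ⟨hW₀V h1, h1, val_ext ?_⟩
    show ⁅e, val v⁆ = _
    rw [sub_eq_add_neg, val_add, val_smul, commutatorElement_def]
    rfl
  let U : AddSubgroup (Fin (m + 2) → ZMod 2) :=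
    { carrier := {v | ∃ (u : G) (hu : u ∈ modV 2 G), u ∈ W₀ ∧ ψ (toMod u hu) = v}
      zero_mem' := ⟨1, one_mem _, one_mem _, map_zero ψ⟩
      add_mem' := by
        rintro _ _ ⟨u, hu, hu', rfl⟩ ⟨w, hw, hw', rfl⟩
        exact ⟨u * w, mul_mem hu hw, mul_mem hu' hw', map_add ψ (toMod u hu) (toMod w hw)⟩
      neg_mem' := by
        rintro _ ⟨u, hu, hu', rfl⟩
        exact ⟨u⁻¹, inv_mem hu, inv_mem hu', map_neg ψ (toMod u hu)⟩ }
  have hpair : ∀ i j : Fin (m + 2), (Pi.single i 1 + Pi.single j 1 : Fin (m + 2) → ZMod 2) ∈ U := by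
    intro i j
    by_cases hij : i = j
    · rw [hij, ← Pi.single_add, show (1 : ZMod 2) + 1 = 0 from rfl, Pi.single_zero]
      exact zero_mem _
    obtain ⟨l, hl⟩ := exists_notMem_finset {i, j} (lt_of_le_of_lt Finset.card_le_two (by omega))
    simp only [Finset.mem_insert, Finset.mem_singleton, not_or] at hl
    obtain ⟨σ, hσ1, hσi, hσl⟩ := exists_even_move r.four hij hl.1 hl.2
    obtain ⟨g, rfl⟩ := r.bij.2 σ
    obtain ⟨e, he, hge⟩ := honto g hσ1
    obtain ⟨v, hv⟩ := r.surj (Pi.single i 1 + Pi.single l 1) (by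
      simp only [Pi.add_apply, Finset.sum_add_distrib, Finset.sum_pi_single', Finset.mem_univ, if_true]
      rfl)
    obtain ⟨hu, hu', hue⟩ := hmod e he v
    refine ⟨_, hu, hu', ?_⟩
    rw [hue, map_sub]
    funext y
    rw [Pi.sub_apply, hge, r.act g v y, hv]
    simp only [Pi.add_apply, Pi.single_apply, Equiv.Perm.inv_def, Equiv.symm_apply_eq, hσi, hσl]
    rw [show ∀ a b c : ZMod 2, a + b - (c + b) = c + a from by decide]
  have hU : ∀ v : Fin (m + 2) → ZMod 2, ∑ i, v i = 0 → v ∈ U := by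
    intro v hv
    have e : v = ∑ i, v i • (Pi.single i 1 + Pi.single 0 1 : Fin (m + 2) → ZMod 2) := by
      simp only [smul_add, Finset.sum_add_distrib, ← Finset.sum_smul, hv, zero_smul, add_zero]
      funext y
      simp [Finset.sum_apply, Pi.single_apply]
    rw [e]
    refine sum_mem fun i _ => ?_
    rcases (show ∀ c : ZMod 2, c = 0 ∨ c = 1 by decide) (v i) with e' | e'
    · rw [e', zero_smul]; exact zero_mem _
    · rw [e', one_smul]; exact hpair i 0
  -- counting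
  set k := Nat.card (ClsMem T D) with hk
  let f : (∀ B : ClsMem T D, ↥(W B)) →* ↥(modV 2 G) :=
    MonoidHom.mk' (fun w => ∏ B, (⟨(w B : G), (hA B).leV (w B).2⟩ : ↥(modV 2 G))) fun w w' => by
      rw [← Finset.prod_mul_distrib]; rfl
  have hW₀f : W₀ ≤ f.range.map (modV 2 G).subtype := iSup_le fun B w hw => by
    refine ⟨⟨w, (hA B).leV hw⟩, ⟨Pi.mulSingle B (⟨w, hw⟩ : ↥(W B)), ?_⟩, rfl⟩
    show ∏ B', (⟨((Pi.mulSingle B (⟨w, hw⟩ : ↥(W B)) : ∀ B', ↥(W B')) B' : G), _⟩ : ↥(modV 2 G)) = _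
    refine (Finset.prod_eq_single B (fun B' _ hne => Subtype.ext ?_) fun hB => absurd (Finset.mem_univ _) hB).trans ?_
    · show ((Pi.mulSingle B (⟨w, hw⟩ : ↥(W B)) : ∀ B', ↥(W B')) B' : G) = 1
      rw [Pi.mulSingle_eq_of_ne hne]
      rfl
    · exact Subtype.ext (by rw [Pi.mulSingle_eq_same])
  have hpi : Nat.card (∀ B : ClsMem T D, ↥(W B)) = 2 ^ (2 * k) := by
    rw [Nat.card_pi, Finset.prod_congr rfl fun B _ => (hA B).card, Finset.prod_const, Finset.card_univ,
      ← Nat.card_eq_fintype_card, ← hk, pow_mul]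
    norm_num
  have hW₀card : Nat.card ↥W₀ ≤ 2 ^ (2 * k) := by
    rw [← hpi]
    refine le_trans (Subgroup.card_le_of_le hW₀f) ?_
    rw [card_map_of_injective (modV 2 G).subtype_injective]
    exact Nat.card_le_card_of_surjective f.rangeRestrict f.rangeRestrict_surjective
  have h2k : 2 * k ≤ m + 2 := by
    have hinj : Function.Injective (fun z : ClsMem T D × Bool => if z.2 then pa z.1 else pb z.1) := by
      rintro ⟨B, c⟩ ⟨B', c'⟩ e
      by_cases hBB : B = B'
      · subst hBB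
        cases c <;> cases c' <;> simp only [Bool.false_eq_true, if_false, if_true] at e ⊢
        · exact absurd e.symm (r.ne B)
        · exact absurd e (r.ne B)
      · obtain ⟨h1, h2', h3, h4⟩ := r.disj B B' hBB
        cases c <;> cases c' <;> simp only [Bool.false_eq_true, if_false, if_true] at e
        · exact absurd e h4
        · exact absurd e h3
        · exact absurd e h2'
        · exact absurd e h1
    have := Nat.card_le_card_of_injective _ hinj
    rwa [Nat.card_prod, Nat.card_eq_fintype_card (α := Bool), Fintype.card_bool, ← hk, mul_comm,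
      Nat.card_eq_fintype_card, Fintype.card_fin] at this
  let ext : (Fin (m + 1) → ZMod 2) → Fin (m + 2) → ZMod 2 := fun c => Fin.snoc c (∑ i, c i)
  have hext : ∀ c, ∑ i, ext c i = 0 := fun c => by
    rw [Fin.sum_univ_castSucc]
    simp only [ext, Fin.snoc_castSucc, Fin.snoc_last]
    exact CharTwo.add_self_eq_zero _
  choose u hu hu' hue using fun c => hU (ext c) (hext c)
  let g₀ : (Fin (m + 1) → ZMod 2) → ↥W₀ := fun c => ⟨u c, hu' c⟩
  have hg₀ : Function.Injective g₀ := fun c c' e => by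
    have e1 : u c = u c' := congrArg Subtype.val e
    have e2 : ext c = ext c' := by
      rw [← hue c, ← hue c']
      exact congrArg ψ (val_ext e1)
    have := congrArg Fin.init e2
    simpa only [ext, Fin.init_snoc] using this
  have hlow : 2 ^ (m + 1) ≤ Nat.card ↥W₀ := by
    have := Nat.card_le_card_of_injective g₀ hg₀
    rwa [Nat.card_fun, Nat.card_eq_fintype_card, Nat.card_eq_fintype_card, Fintype.card_fin,
      ZMod.card] at this
  have h2k' : 2 * k = m + 1 := by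
    have h1 := (Nat.pow_le_pow_iff_right (by norm_num : 1 < 2)).1 (hlow.trans hW₀card)
    have h2' := r.size
    rcases n with _ | n
    · simp at h2'; omega
    · rw [pow_succ] at h2'; omega
  have hW₀eq : Nat.card ↥W₀ = 2 ^ (m + 1) := le_antisymm (h2k' ▸ hW₀card) hlow
  have hinjψ : ∀ (w : G) (hw : w ∈ modV 2 G), w ∈ W₀ → ψ (toMod w hw) = 0 → w = 1 := by
    have hbij : Function.Bijective g₀ := (Nat.bijective_iff_injective_and_card g₀).2 ⟨hg₀, by
      rw [Nat.card_fun, Nat.card_eq_fintype_card, Nat.card_eq_fintype_card, Fintype.card_fin, ZMod.card, hW₀eq]⟩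
    have hzero : ∀ w (hw : w ∈ modV 2 G) (hw' : w ∈ W₀), ψ (toMod w hw) = 0 → ∀ c, g₀ c = ⟨w, hw'⟩ → c = 0 := by
      intro w hw hw' h0 c hc
      have e1 : u c = w := congrArg Subtype.val hc
      have e2 : ext c = 0 := by
        rw [← hue c, ← h0]
        exact congrArg ψ (val_ext e1)
      have := congrArg Fin.init e2
      simp only [ext, Fin.init_snoc] at this
      exact this
    intro w hw hw' h0
    obtain ⟨c, hc⟩ := hbij.2 ⟨w, hw'⟩
    obtain ⟨c', hc'⟩ := hbij.2 1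
    have e1 := hzero w hw hw' h0 c hc
    have e2 := hzero 1 (one_mem _) (one_mem _) (map_zero ψ) c' hc'
    rw [e1, ← e2, hc'] at hc
    exact (congrArg Subtype.val hc).symm
  have hnoFix : ∀ w ∈ W₀, (∀ e ∈ E, e * w = w * e) → w = 1 := by
    intro w hw hcw
    refine hinjψ w (hW₀V hw) hw ?_
    have hconst : ∀ i j, ψ (toMod w (hW₀V hw)) i = ψ (toMod w (hW₀V hw)) j := by
      intro i j
      by_cases hij : i = j
      · rw [hij]
      obtain ⟨l, hl⟩ := exists_notMem_finset {i, j} (lt_of_le_of_lt Finset.card_le_two (by omega))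
      simp only [Finset.mem_insert, Finset.mem_singleton, not_or] at hl
      obtain ⟨σ, hσ1, hσi, -⟩ := exists_even_move r.four hij hl.1 hl.2
      obtain ⟨g, rfl⟩ := r.bij.2 σ
      obtain ⟨e, he, hge⟩ := honto g hσ1
      have h1 := r.act g (toMod w (hW₀V hw)) j
      rw [← hge, pr_smul_eq.2 (hcw e he), Equiv.Perm.inv_def, (Equiv.symm_apply_eq (ρ g)).2 hσi.symm] at h1
      exact h1.symm
    funext i
    have h1 := r.sum (toMod w (hW₀V hw))
    rw [Finset.sum_congr rfl (fun j _ => hconst j i), Finset.sum_const, Finset.card_univ, Fintype.card_fin,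
      nsmul_eq_mul] at h1
    have hn0 : n ≠ 0 := by
      intro e
      have := r.size
      rw [e] at this
      simp at this
      omega
    have hN1 : ((m + 2 : ℕ) : ZMod 2) = 1 := by
      rw [r.size, Nat.cast_add, Nat.cast_pow, Nat.cast_one, show ((2 : ℕ) : ZMod 2) = 0 from rfl, zero_pow hn0,
        zero_add]
    rwa [hN1, one_mul] at h1
  -- the core splits
  have hxadd : ∀ B, ∀ v ∈ modV 2 G, ∀ q ∈ pCore 2 G, ⁅x B, v * q⁆ = ⁅x B, v⁆ * ⁅x B, q⁆ := fun B v hv q hq => by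
    have h1 : Commute v ⁅x B, q⁆ := (hVc v hv _ (hQV ((hA B).leV ((hA B).core _ (hA B).xE q hq)))).symm
    rw [show ⁅x B, v * q⁆ = ⁅x B, v⁆ * (v * ⁅x B, q⁆ * v⁻¹) by simp only [commutatorElement_def]; group,
      h1.eq, mul_inv_cancel_right]
  have hcentx : ∀ q ∈ pCore 2 G, (∀ B, ⁅x B, q⁆ = 1) → ∀ e ∈ E, e * q = q * e := by
    intro q hq hqx
    have hle : E ≤ centralizer ({q} : Set G) := iSup_le fun B => (hA B).cover.trans (sup_le
      (zpowers_le.2 (mem_centralizer_singleton_iff.2 (commutatorElement_eq_one_iff_mul_comm.1 (hqx B))))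
      fun w hw => mem_centralizer_singleton_iff.2 (hVc w ((hA B).leV hw) q hq).eq.symm)
    exact fun e he => mem_centralizer_singleton_iff.1 (hle he)
  have hsplit : ∀ q ∈ pCore 2 G, ∃ w ∈ W₀, ∀ e ∈ E, e * (w⁻¹ * q) = w⁻¹ * q * e := by
    let φ : ↥W₀ → ∀ B : ClsMem T D, ↥(W B) := fun w B =>
      ⟨⁅x B, (w : G)⁆, (hA B).core _ (hA B).xE _ (hQV (hW₀V w.2))⟩
    have hdiff : ∀ (B : ClsMem T D), ∀ v ∈ modV 2 G, ∀ q ∈ pCore 2 G, ⁅x B, v⁆ = ⁅x B, q⁆ →
        ⁅x B, v⁻¹ * q⁆ = 1 := fun B v hv q hq e => by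
      have h1 := hxadd B v hv (v⁻¹ * q) (mul_mem (inv_mem (hQV hv)) hq)
      rw [mul_inv_cancel_left, ← e, left_eq_mul] at h1
      exact h1
    have hφ : Function.Injective φ := fun w w' e => by
      have hw : ∀ e' ∈ E, e' * ((w : G)⁻¹ * w') = (w : G)⁻¹ * w' * e' :=
        hcentx _ (mul_mem (inv_mem (hQV (hW₀V w.2))) (hQV (hW₀V w'.2))) fun B =>
          hdiff B _ (hW₀V w.2) _ (hQV (hW₀V w'.2)) (congrArg Subtype.val (congrFun e B))
      exact Subtype.ext (inv_mul_eq_one.1 (hnoFix _ (mul_mem (inv_mem w.2) w'.2) hw))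
    have hbij : Function.Bijective φ := (Nat.bijective_iff_injective_and_card φ).2
      ⟨hφ, by rw [hW₀eq, hpi, h2k']⟩
    intro q hq
    obtain ⟨w, hw⟩ := hbij.2 fun B => ⟨⁅x B, q⁆, (hA B).core _ (hA B).xE q hq⟩
    exact ⟨w, w.2, hcentx _ (mul_mem (inv_mem (hQV (hW₀V w.2))) hq) fun B =>
      hdiff B _ (hW₀V w.2) q hq (congrArg Subtype.val (congrFun hw B))⟩
  -- the extension splits over the module
  have hinfQ : ∀ e ∈ E, e ∈ pCore 2 G → e ∈ W₀ := by
    obtain ⟨D₂, hD₂, hl, hne⟩ := hex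
    let B₁ : ClsMem T D := ⟨D, hD, Or.inl rfl⟩
    let B₂ : ClsMem T D := ⟨D₂, hD₂, hl⟩
    have hB₁₂ : B₁ ≠ B₂ := fun e => hne (congrArg Subtype.val e).symm
    set L₀ := E ⊔ zpowers (s B₁) ⊔ zpowers (s B₂) with hL₀
    have hL₀C : ∀ g ∈ L₀, pr 2 G g ∈ C := fun g hg =>
      (sup_le (sup_le (map_le_iff_le_comap.1 hprC) (zpowers_le.2 (hsC B₁))) (zpowers_le.2 (hsC B₂)) :
        L₀ ≤ C.comap (pr 2 G)) hg
    have hL₀N : L₀ ≤ normalizer (W₀ : Set G) :=
      sup_le (sup_le (fun e he => (hK₂ e he).1) (zpowers_le.2 (hsN B₁))) (zpowers_le.2 (hsN B₂))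
    haveI := normal_subgroupOf_of_le_normalizer hL₀N
    let F : ↥L₀ →* Equiv.Perm (Fin (m + 2)) :=
      ρ.comp (((pr 2 G).comp L₀.subtype).codRestrict C fun g => hL₀C g g.2)
    have hW₀F : W₀.subgroupOf L₀ ≤ F.ker := fun g hg => by
      rw [MonoidHom.mem_ker]
      show ρ _ = 1
      rw [show (((pr 2 G).comp L₀.subtype).codRestrict C fun g => hL₀C g g.2) g = 1 from Subtype.ext
        (pr_eq_one.2 (Hyps.core_le_ker (hQV (hW₀V hg)))), map_one]
    let π := QuotientGroup.lift (W₀.subgroupOf L₀) F hW₀F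
    have hπmk : ∀ g : ↥L₀, π (QuotientGroup.mk' _ g) = F g := fun g => rfl
    have hFker : ∀ g : ↥L₀, F g = 1 → (g : G) ∈ pCore 2 G := fun g hg => hkerQ ▸ pr_eq_one.1
      (congrArg Subtype.val (r.bij.1 (hg.trans (map_one ρ).symm)))
    have hsF : ∀ B, ∀ hB : s B ∈ L₀, F ⟨s B, hB⟩ = swap (pa B) (pb B) := fun B hB =>
      r.swaps B _ (hA B).sD (hA B).sne
    have hs₁ : s B₁ ∈ L₀ := mem_sup_left (mem_sup_right (mem_zpowers _))
    have hs₂ : s B₂ ∈ L₀ := mem_sup_right (mem_zpowers _)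
    have hFs : Function.Surjective F := by
      intro σ
      have key : ∀ τ, Equiv.Perm.sign τ = 1 → ∃ g : ↥L₀, F g = τ := fun τ hτ => by
        obtain ⟨g, rfl⟩ := r.bij.2 τ
        obtain ⟨e, he, hge⟩ := honto g hτ
        exact ⟨⟨e, mem_sup_left (mem_sup_left he)⟩, congrArg ρ (Subtype.ext hge)⟩
      rcases Int.units_eq_one_or (Equiv.Perm.sign σ) with e | e
      · exact key σ e
      · obtain ⟨g, hg⟩ := key (σ * swap (pa B₁) (pb B₁)) (by
          rw [map_mul, e, Equiv.Perm.sign_swap (r.ne B₁)]; rfl)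
        exact ⟨g * ⟨s B₁, hs₁⟩, by rw [map_mul, hg, hsF, Equiv.mul_swap_mul_self]⟩
    have hπs : Function.Surjective π := fun σ => by
      obtain ⟨g, rfl⟩ := hFs σ
      exact ⟨QuotientGroup.mk' _ g, hπmk g⟩
    -- the kernel is central
    have hscent : ∀ B, ∀ u ∈ pCore 2 G, u ∈ Bm → (∀ e ∈ E, e * u = u * e) → s B * u = u * s B := by
      intro B u hu huB hue'
      refine commutatorElement_eq_one_iff_mul_comm.1 (hnoFix _ (hsW B u huB) fun e he => ?_)
      have hsE := hBmN (hA B).sB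
      have he' : (s B)⁻¹ * e * s B ∈ E := by
        simpa using (mem_normalizer_iff.1 (inv_mem hsE) e).1 he
      have h1 : Commute e (s B * u * (s B)⁻¹) := by
        have := (show Commute ((s B)⁻¹ * e * s B) u from hue' _ he').map (MulAut.conj (s B)).toMonoidHom
        simpa [mul_assoc] using this
      rw [commutatorElement_def]
      exact (h1.mul_right (show Commute e u from hue' e he).inv_right).eq
    have hcentg : ∀ g ∈ L₀, g ∈ pCore 2 G → ∀ l ∈ L₀, ⁅l, g⁆ ∈ W₀ := by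
      intro g hg hgQ
      have hgB : g ∈ Bm := ⟨h.core_le hgQ, mem_centralizer_iff.2 fun z hz => by
        have hzQ := h.zJ_le_core hz
        obtain ⟨w, hw, hwe⟩ := hsplit z hzQ
        have hzB : w⁻¹ * z ∈ Bm := mul_mem (inv_mem (hVB w (hW₀V hw))) ⟨h.core_le hzQ,
          mem_centralizer_iff.2 fun z' hz' => ((Oz.mem_iff.1 hz).2.1 z' (Oz.mem_iff.1 hz').1)⟩
        have hle : L₀ ≤ centralizer ({w⁻¹ * z} : Set G) := sup_le (sup_le
          (fun e he => mem_centralizer_singleton_iff.2 (hwe e he))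
          (zpowers_le.2 (mem_centralizer_singleton_iff.2 (hscent B₁ _ (mul_mem (inv_mem (hQV (hW₀V hw))) hzQ) hzB hwe))))
          (zpowers_le.2 (mem_centralizer_singleton_iff.2 (hscent B₂ _ (mul_mem (inv_mem (hQV (hW₀V hw))) hzQ) hzB hwe)))
        have h1 : Commute g (w * (w⁻¹ * z)) :=
          (hVc w (hW₀V hw) g hgQ).mul_right (mem_centralizer_singleton_iff.1 (hle hg))
        rw [mul_inv_cancel_left] at h1
        exact h1.eq.symm⟩
      let K₃ : Subgroup G :=
        { carrier := {a | a ∈ normalizer (W₀ : Set G) ∧ ⁅a, g⁆ ∈ W₀}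
          one_mem' := ⟨one_mem _, by rw [commutatorElement_one_left]; exact one_mem _⟩
          mul_mem' := fun {a b} ha hb => ⟨mul_mem ha.1 hb.1, by
            rw [show ⁅a * b, g⁆ = a * ⁅b, g⁆ * a⁻¹ * ⁅a, g⁆ by simp only [commutatorElement_def]; group]
            exact mul_mem ((mem_normalizer_iff.1 ha.1 _).1 hb.2) ha.2⟩
          inv_mem' := fun {a} ha => ⟨inv_mem ha.1, by
            rw [show ⁅a⁻¹, g⁆ = a⁻¹ * ⁅a, g⁆⁻¹ * a⁻¹⁻¹ by simp only [commutatorElement_def]; group]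
            exact (mem_normalizer_iff.1 (inv_mem ha.1) _).1 (inv_mem ha.2)⟩ }
      have hle : L₀ ≤ K₃ := sup_le (sup_le (fun e he => ⟨(hK₂ e he).1, (hK₂ e he).2 g hgQ⟩)
        (zpowers_le.2 ⟨hsN B₁, hsW B₁ g hgB⟩)) (zpowers_le.2 ⟨hsN B₂, hsW B₂ g hgB⟩)
      exact fun l hl => (hle hl).2
    have hk' : π.ker ≤ center _ := by
      intro y hy
      obtain ⟨g, rfl⟩ := QuotientGroup.mk'_surjective _ y
      refine mem_center_iff.2 fun z => ?_
      obtain ⟨l, rfl⟩ := QuotientGroup.mk'_surjective _ z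
      rw [← commutatorElement_eq_one_iff_mul_comm, ← map_commutatorElement]
      exact (QuotientGroup.eq_one_iff _).2
        (hcentg g g.2 (hFker g ((hπmk g).symm.trans hy)) l l.2)
    have hk2 : IsPGroup 2 ↥π.ker := by
      rintro ⟨y, hy⟩
      obtain ⟨g, rfl⟩ := QuotientGroup.mk'_surjective _ y
      obtain ⟨i, hi⟩ := (CfsgLib.Cores.isPGroup_pCore (p := 2) (G := G)) ⟨g, hFker g ((hπmk g).symm.trans hy)⟩
      refine ⟨i, Subtype.ext ?_⟩
      rw [SubgroupClass.coe_pow, ← map_pow]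
      rw [show g ^ 2 ^ i = 1 from Subtype.ext (by simpa using congrArg Subtype.val hi), map_one]
      rfl
    set E' := (E.subgroupOf L₀).map (QuotientGroup.mk' (W₀.subgroupOf L₀)) with hE'
    have hEL : E ≤ L₀ := le_sup_left.trans le_sup_left
    have hE'A : E'.map π = alternatingGroup (Fin (m + 2)) := by
      ext σ
      rw [Equiv.Perm.mem_alternatingGroup]
      constructor
      · rintro ⟨_, ⟨g, hg, rfl⟩, rfl⟩
        exact hsign _ (mem_map_of_mem _ hg)
      · intro hσ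
        obtain ⟨g, rfl⟩ := r.bij.2 σ
        obtain ⟨e, he, hge⟩ := honto g hσ
        exact ⟨_, ⟨⟨e, hEL he⟩, he, rfl⟩, congrArg ρ (Subtype.ext hge)⟩
    have hres : pResidual 2 ↥E' = ⊤ := by
      let P : Subgroup G := ((((pResidual 2 ↥E').map E'.subtype).comap (QuotientGroup.mk' (W₀.subgroupOf L₀))).map
        L₀.subtype)
      have hle : E ≤ P := iSup_le fun B => Baumann.pResidualOf_le_iff.2 fun g hg hgo => by
        have hgE : g ∈ E := hEB B (Baumann.pResidualOf_le_iff.1 le_rfl g hg hgo)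
        refine ⟨⟨g, hEL hgE⟩, ⟨⟨_, mem_map_of_mem _ (show (⟨g, hEL hgE⟩ : ↥L₀) ∈ E.subgroupOf L₀ from hgE)⟩,
          CfsgLib.Transfer.mem_pResidual_of_coprime ?_, rfl⟩, rfl⟩
        rw [Subgroup.orderOf_mk]
        exact Nat.Coprime.coprime_dvd_left ((orderOf_map_dvd _ _).trans (Subgroup.orderOf_mk g (hEL hgE)).dvd) hgo
      refine eq_top_iff.2 ?_
      rintro ⟨_, g, hg, rfl⟩ -
      obtain ⟨g', ⟨z, hz, hze⟩, hgg⟩ := hle hg
      obtain rfl : g' = g := Subtype.ext hgg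
      have e0 : (⟨QuotientGroup.mk' (W₀.subgroupOf L₀) g', mem_map_of_mem _ hg⟩ : ↥E') = z := Subtype.ext hze.symm
      exact e0.symm ▸ hz
    have hm : m = 3 ∨ 6 ≤ m := by
      have h1 := r.size
      rcases n with _ | _ | _ | n'
      · simp at h1; omega
      · simp at h1; omega
      · simp at h1; omega
      · rw [pow_succ, pow_succ, pow_succ] at h1
        have := Nat.one_le_two_pow (n := n')
        omega
    have hcomm : Commute (QuotientGroup.mk' (W₀.subgroupOf L₀) ⟨s B₁, hs₁⟩)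
        (QuotientGroup.mk' (W₀.subgroupOf L₀) ⟨s B₂, hs₂⟩) := by
      refine commutatorElement_eq_one_iff_mul_comm.1 ?_
      rw [← map_commutatorElement]
      exact (QuotientGroup.eq_one_iff _).2 (hsW B₁ (s B₂) (hA B₂).sB)
    obtain ⟨d1, d2, d3, d4⟩ := r.disj B₁ B₂ hB₁₂
    have hsplitE := alt_split hm π hπs hk' hk2 E' hE'A hres (r.ne B₁) d1 d2 d3 d4 (r.ne B₂)
      ((hπmk _).trans (hsF B₁ hs₁)) ((hπmk _).trans (hsF B₂ hs₂)) hcomm
    intro e he heQ
    have h1 : QuotientGroup.mk' (W₀.subgroupOf L₀) ⟨e, hEL he⟩ ∈ E' ⊓ π.ker := by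
      refine ⟨mem_map_of_mem _ he, MonoidHom.mem_ker.2 ?_⟩
      rw [hπmk]
      show ρ _ = 1
      rw [show (((pr 2 G).comp L₀.subtype).codRestrict C fun g => hL₀C g g.2) ⟨e, hEL he⟩ = 1 from
        Subtype.ext (pr_eq_one.2 (Hyps.core_le_ker heQ)), map_one]
    rw [hsplitE, mem_bot] at h1
    exact (QuotientGroup.eq_one_iff (⟨e, hEL he⟩ : ↥L₀)).1 h1
  -- the residual of the preimage
  have hres : clsRes T D = E := by
    refine le_antisymm (Baumann.pResidualOf_le_iff.2 fun g hg hgo => ?_)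
      (iSup_le fun B => Baumann.pResidualOf_le_iff.2 fun g hg hgo =>
        Baumann.pResidualOf_le_iff.1 le_rfl g (blk_le_cls B hg) hgo)
    obtain ⟨y, hy, hye⟩ := hcop_even g hgo hg
    obtain ⟨e, he, hee⟩ := honto y (Equiv.Perm.mem_alternatingGroup.1 hy)
    have hgE : g ∈ E ⊔ pCore 2 G := by
      have h1 : e⁻¹ * g ∈ pCore 2 G := hkerQ ▸ pr_eq_one.1 (by
        rw [map_mul, map_inv, hee, show (y : G ⧸ kerV 2 G) = pr 2 G g from hye, inv_mul_cancel])
      have := mul_mem (mem_sup_left (T := pCore 2 G) he) (mem_sup_right (S := E) h1)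
      rwa [mul_inv_cancel_left] at this
    refine mem_of_coprime_sup (fun q hq => CfsgLib.Solvable.mem_normalizer_of_conj_mem fun l hl => ?_)
      (CfsgLib.Cores.isPGroup_pCore 2) hgE hgo
    rw [show q * l * q⁻¹ = ⁅l, q⁆⁻¹ * l by simp only [commutatorElement_def]; group]
    exact mul_mem (inv_mem (hW₀E ((hK₂ l hl).2 q hq))) hl
  let B₀ : ClsMem T D := ⟨D, hD, Or.inl rfl⟩
  refine ⟨n, m, ρ, ψ, pa, pb, W₀, ⟨r, h2k', hkerQ, hW₀V, ?_, ?_, ?_, ?_, ?_, ?_, hinjψ, hU, ?_, ?_, ?_, ?_, ?_⟩⟩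
  all_goals try rw [hres]
  · exact hW₀E
  · exact fun e he => (hK₂ e he).1
  · exact fun e he => (hK₂ e he).2
  · exact hinfQ
  · exact hprC
  · exact fun g => ⟨hsign g, honto g⟩
  · exact hnoFix
  · exact iSup_le fun B => (hA B).perfW.ge.trans (commutator_mono (hWB B) (hEB B))
  · refine le_antisymm (commutator_le.2 fun e he b hb => ?_)
      (iSup_le fun B => (hA B).commB.ge.trans (commutator_mono (hEB B) le_rfl))
    rw [show ⁅e, b⁆ = e * (b * e⁻¹ * b⁻¹) by simp only [commutatorElement_def]; group]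
    exact mul_mem he ((mem_normalizer_iff.1 (hBmN hb) _).1 (inv_mem he))
  · exact fun e => (hA B₀).omega (le_bot_iff.1 ((commutator_mono (hEB B₀) le_rfl).trans e.le))
  · exact fun hle => (hA B₀).notLe ((hEB B₀).trans hle)

end CfsgLib.LocalEven.PushMin
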