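import Cfsg.Prelude.Def_BaumannBlocks

/-!
The exceptional block of a member: the conditions on `O^p` of the whole group.
-/

set_option autoImplicit false

namespace CfsgLib.LocalEven.PushMin

open Cfsg Subgroup
open scoped commutatorElement

/-- The exceptional block conditions on `E = O^p(G)`, seen from the subgroup `S`. -/
structure ExcBlock {G : Type*} [Group G] (F : Type) [Field F] (p n : ℕ) (S : Subgroup G) : Prop where
  quot : Nonempty (↥(pResidualOf p (⊤ : Subgroup G)) ⧸ pCore p ↥(pResidualOf p (⊤ : Subgroup G)) ≃*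
    ↥(commutator (Matrix.SpecialLinearGroup (Fin 2) F)))
  actW : ActsAsSL2OnSection F (commutator (Matrix.SpecialLinearGroup (Fin 2) F)) (pResidualOf p (⊤ : Subgroup G))
    (omegaOneCenter p (pCoreOf p (pResidualOf p (⊤ : Subgroup G))))
    (omegaOneCenter p (pCoreOf p (pResidualOf p (⊤ : Subgroup G))) ⊓
      Subgroup.centralizer (pResidualOf p (⊤ : Subgroup G) : Set G))
  core_comm : ⁅pCoreOf p (pResidualOf p (⊤ : Subgroup G)), pResidualOf p (⊤ : Subgroup G)⁆ =
    pCoreOf p (pResidualOf p (⊤ : Subgroup G))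
  actQ : ActsAsSL2OnSection F (commutator (Matrix.SpecialLinearGroup (Fin 2) F)) (pResidualOf p (⊤ : Subgroup G))
    (pCoreOf p (pResidualOf p (⊤ : Subgroup G)))
    (omegaOneCenter p (pCoreOf p (pResidualOf p (⊤ : Subgroup G))))
  derived : ⁅pCoreOf p (pResidualOf p (⊤ : Subgroup G)), pCoreOf p (pResidualOf p (⊤ : Subgroup G))⁆ =
    omegaOneCenter p (pCoreOf p (pResidualOf p (⊤ : Subgroup G))) ⊓
      Subgroup.centralizer (pResidualOf p (⊤ : Subgroup G) : Set G)
  frattini_eq : (frattini ↥(pCoreOf p (pResidualOf p (⊤ : Subgroup G)))).map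
      (pCoreOf p (pResidualOf p (⊤ : Subgroup G))).subtype =
    omegaOneCenter p (pCoreOf p (pResidualOf p (⊤ : Subgroup G))) ⊓
      Subgroup.centralizer (pResidualOf p (⊤ : Subgroup G) : Set G)
  center_eq : pResidualOf p (⊤ : Subgroup G) ⊓ Subgroup.centralizer (pResidualOf p (⊤ : Subgroup G) : Set G) =
    omegaOneCenter p (pCoreOf p (pResidualOf p (⊤ : Subgroup G))) ⊓
      Subgroup.centralizer (pResidualOf p (⊤ : Subgroup G) : Set G)
  card_center : Nat.card ↥(pResidualOf p (⊤ : Subgroup G) ⊓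
    Subgroup.centralizer (pResidualOf p (⊤ : Subgroup G) : Set G) : Subgroup G) = 3 ^ n
  nonquad : ∀ b : G, b ∈ S →
    b ∉ Subgroup.centralizer (omegaOneCenter p (pCoreOf p (pResidualOf p (⊤ : Subgroup G))) : Set G) →
    ¬ ⁅⁅pCoreOf p (pResidualOf p (⊤ : Subgroup G)), Subgroup.zpowers b⁆, Subgroup.zpowers b⁆ ≤
      pResidualOf p (⊤ : Subgroup G) ⊓ Subgroup.centralizer (pResidualOf p (⊤ : Subgroup G) : Set G)

end CfsgLib.LocalEven.PushMin
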