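import Cfsg.Agent.Lib.LocalEven.PushMin.Case2Core
import Cfsg.Agent.Lib.LocalEven.PushMin.ExcDef
import Cfsg.Agent.Lib.LocalEven.CoreOf
import Cfsg.Agent.Lib.Fusion.TateApps
import Cfsg.Agent.Lib.Transfer.Critical

/-!
The configuration of critical length two gives the exceptional block.
-/

set_option autoImplicit false

namespace CfsgLib.LocalEven.PushMin

open Cfsg Subgroup
open CfsgLib.LocalEven.RankOne
open CfsgLib.LocalEven.PushUp
open CfsgLib.Fusion (conjSub)
open scoped commutatorElement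

variable {G : Type*} [Group G] [Finite G] {p n : ℕ} [hp : Fact p.Prime] {P : Sylow p G}
variable {K : Subgroup G} [K.Normal] {W A H C Y U : Subgroup G} [W.Normal] {F : Type} [Field F] [Fintype F]

omit [Finite G] in
theorem pResidualOf_top : pResidualOf p (⊤ : Subgroup G) = cop p G := by
  have hord : ∀ g : G, (orderOf g).Coprime p ↔ ¬ p ∣ orderOf g := fun g => by
    rw [Nat.coprime_comm, hp.out.coprime_iff_not_dvd]
  rw [pResidualOf, pResidual, MonoidHom.map_closure]
  refine congrArg Subgroup.closure (Set.ext fun g => ?_)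
  constructor
  · rintro ⟨x, hx, rfl⟩
    exact (hord _).1 (by rw [coe_subtype, Subgroup.orderOf_coe]; exact hx)
  · exact fun hg => ⟨⟨g, mem_top g⟩, show Nat.Coprime _ p by rw [Subgroup.orderOf_mk]; exact (hord g).2 hg, rfl⟩

theorem pCoreOf_cop : pCoreOf p (cop p G) = pCore p G ⊓ cop p G := by
  rw [pCoreOf, pCore_cop, subgroupOf_map_subtype]

/-- The image of `cop` in `SL₂(F)` is the derived group. -/
theorem map_cop (m : MemHyp n P K) (hF : Fintype.card F = p ^ n) (hA : (P : Subgroup G) ≤ A ⊔ pCore p G)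
    (hAc : ∀ a ∈ A, ∀ a' ∈ A, a * a' = a' * a) {ρ : G →* Matrix.SpecialLinearGroup (Fin 2) F}
    (hρ : Function.Surjective ρ) (hk : ρ.ker = pCore p G) :
    (cop p G).map ρ = commutator (Matrix.SpecialLinearGroup (Fin 2) F) := by
  haveI : CharP F p := charP_of_card_eq_prime_pow hF
  refine le_antisymm ?_ ?_
  · rw [cop, MonoidHom.map_closure, closure_le]
    rintro _ ⟨g, hg, rfl⟩
    exact mem_commutator_of_coprime (Nat.Coprime.coprime_dvd_left (orderOf_map_dvd ρ g)
      (hp.out.coprime_iff_not_dvd.2 hg).symm)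
  · haveI : ((cop p G).map ρ).Normal := (cop_normal p G).map ρ hρ
    refine commutator_le_of_supplement (T := A.map ρ) ?_ ?_
    · refine eq_top_iff.2 ?_
      rw [← map_top_of_surjective ρ hρ, ← cop_sup m.hyp, Subgroup.map_sup]
      refine sup_le le_sup_left ((Subgroup.map_mono hA).trans ?_)
      rw [Subgroup.map_sup, (Subgroup.map_eq_bot_iff _).2 hk.ge, sup_bot_eq]
      exact le_sup_right
    · rintro _ ⟨a, ha, rfl⟩ _ ⟨a', ha', rfl⟩
      rw [← map_mul, ← map_mul, hAc a ha a' ha']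

theorem BlockData.omega_core (c : BlockData n P W A H C Y U) (m : MemHyp n P K) (hF : Fintype.card F = p ^ n) :
    omegaOneCenter p (rSub p G) = rSub p G ⊓ vS P := by
  rw [← c.centre_rSub m hF]
  refine le_antisymm ((closure_le _).2 fun x hx => hx.1) fun x hx => subset_closure ⟨hx, ?_⟩
  exact c.powW c.toCase2.ne_two x (c.rSub_le m hF hx.1)

theorem BlockData.omega_centre (c : BlockData n P W A H C Y U) (m : MemHyp n P K) (hF : Fintype.card F = p ^ n) :
    rSub p G ⊓ vS P ⊓ centralizer (cop p G : Set G) = ⁅rSub p G, rSub p G⁆ := by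
  rw [c.derived_eq m hF]
  refine le_antisymm (fun r hr => ⟨hr.1.1, c.rSub_fixed m hF hr.1.1 fun g hg => mem_centralizer_iff.1 hr.2 g hg⟩)
    fun r hr => ⟨⟨hr.1, ?_⟩, center_le_centralizer _ hr.2⟩
  exact zS_le_vS P (c.toCore2.zS_of_center (c.rSub_le m hF hr.1) hr.2)

theorem BlockData.cop_centre (c : BlockData n P W A H C Y U) (m : MemHyp n P K) (hF : Fintype.card F = p ^ n) :
    cop p G ⊓ centralizer (cop p G : Set G) = ⁅rSub p G, rSub p G⁆ := by
  rw [c.derived_eq m hF]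
  refine le_antisymm (fun z hz => ?_) fun r hr => ⟨rSub_le_cop hr.1, center_le_centralizer _ hr.2⟩
  have h1 : (⟨z, hz.1⟩ : ↥(cop p G)) ∈ pCore p ↥(cop p G) :=
    cop_centralizer m.hyp (mem_centralizer_iff.2 fun u _ => Subtype.ext (mem_centralizer_iff.1 hz.2 u u.2))
  rw [pCore_cop, mem_subgroupOf] at h1
  have h2 : z ∈ rSub p G := (c.core_cop m hF).le ⟨h1, hz.1⟩
  exact ⟨h2, c.rSub_fixed m hF h2 fun g hg => mem_centralizer_iff.1 hz.2 g hg⟩

theorem BlockData.frattini_rSub (c : BlockData n P W A H C Y U) (m : MemHyp n P K) (hF : Fintype.card F = p ^ n) :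
    (frattini ↥(rSub p G)).map (rSub p G).subtype = ⁅rSub p G, rSub p G⁆ := by
  have hR : IsPGroup p ↥(rSub p G) := (CfsgLib.Cores.isPGroup_pCore p).to_le rSub_le_core
  refine le_antisymm ?_ (CfsgLib.Fusion.commutator_le_map_frattini hR)
  rw [map_le_iff_le_comap]
  refine CfsgLib.Transfer.frattini_le_of_commutator_pow (p := p) _ (fun a b => ?_) fun a => ?_
  · rw [mem_comap]
    exact commutator_mem_commutator a.2 b.2
  · rw [mem_comap, coe_subtype]
    rw [SubmonoidClass.coe_pow, c.powW c.toCase2.ne_two _ (c.rSub_le m hF a.2)]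
    exact one_mem _

theorem BlockData.nonquad (c : BlockData n P W A H C Y U) (m : MemHyp n P K) (hF : Fintype.card F = p ^ n)
    {b : G} (hb : b ∈ (P : Subgroup G)) (hbQ : b ∉ pCore p G) :
    ∃ r ∈ rSub p G, ⁅b, ⁅b, r⁆⁆ ∉ center G := by
  have f := m.facts F hF
  have s : SecondFacts F n P m.hyp W H := c.toCore2.second m hF
  obtain ⟨a, ha, g, hg, rfl⟩ := c.toCore2.mem_mul hb
  obtain ⟨v, hv, hcrit⟩ := c.crit_at a ha fun h => hbQ (mul_mem h hg)
  have hv' : v ∈ rSub p G ⊔ xSub p P W := (c.rSub_sup_x m hF).ge hv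
  rw [← SetLike.mem_coe, normal_mul] at hv'
  obtain ⟨r, hr, x, hx, rfl⟩ := hv'
  refine ⟨r, hr, fun hc => hcrit ?_⟩
  rw [c.toCore2.pair_mul m f ha (c.rSub_le m hF hr) hx.1, c.toCore2.comm_zero ha (s.X_le hx), mul_one]
  have h1 := c.toCore2.pair_core ha hg (c.rSub_le m hF hr)
  have h0 : QuotientGroup.mk' (center G) ⁅a * g, ⁅a * g, r⁆⁆ = 1 := (QuotientGroup.eq_one_iff _).2 hc
  rw [h0] at h1
  exact (QuotientGroup.eq_one_iff _).1 h1.symm

/-- The exceptional block. -/
theorem BlockData.excBlock (c : BlockData n P W A H C Y U) (m : MemHyp n P K) (hF : Fintype.card F = p ^ n)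
    (S : Sylow p G) : ExcBlock F p n (S : Subgroup G) := by
  have f := m.facts F hF
  have s : SecondFacts F n P m.hyp W H := c.toCore2.second m hF
  have hc := c.card_quot m hF
  have h3 := c.toCase2.eq_three m F hF
  have hE : pResidualOf p (⊤ : Subgroup G) = cop p G := pResidualOf_top
  have hQ : pCoreOf p (cop p G) = rSub p G := pCoreOf_cop.trans (c.core_cop m hF)
  have hW := c.omega_core m hF
  have hZ := c.omega_centre m hF
  haveI : (vS P ⊓ center G).Normal := normal_of_le_center inf_le_right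
  obtain ⟨ρ, ψ, hρ, hk, hψ, hψk, hact⟩ := exists_action f.hypS f.sec hc
  obtain ⟨ρ', ψ', hρ', hk', hψ', hψk', hact'⟩ := exists_action s.hypS s.sec hc
  have hr : ∀ {σ : G →* Matrix.SpecialLinearGroup (Fin 2) F}, Function.Surjective σ → σ.ker = pCore p G →
      (σ.comp (cop p G).subtype).range = commutator (Matrix.SpecialLinearGroup (Fin 2) F) := fun hσ hσk => by
    rw [MonoidHom.range_comp, Subgroup.range_subtype, map_cop m hF c.cover c.A_comm hσ hσk]
  have hnorm : ∀ {X : Subgroup G}, X.Normal → cop p G ≤ normalizer (X : Set G) := fun {X} hX => by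
    rw [@normalizer_eq_top _ _ X hX]; exact le_top
  have hactW : ActsAsSL2OnSection F (commutator (Matrix.SpecialLinearGroup (Fin 2) F)) (cop p G)
      (rSub p G ⊓ vS P) (rSub p G ⊓ vS P ⊓ centralizer (cop p G : Set G)) := by
    refine ⟨hnorm inferInstance, inf_le_left, ρ.comp (cop p G).subtype,
      ψ.comp (Subgroup.inclusion inf_le_right), hr hρ hk, fun v => ?_, fun u => ?_, fun g u => ?_⟩
    · obtain ⟨⟨w, hw⟩, rfl⟩ := hψ v
      have hw' : w ∈ (rSub p G ⊓ vS P) ⊔ (vS P ⊓ center G) := (c.rSub_sup_z m hF).ge hw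
      rw [← SetLike.mem_coe, mul_normal] at hw'
      obtain ⟨r, hr', z, hz, rfl⟩ := hw'
      refine ⟨⟨r, hr'⟩, ?_⟩
      show ψ ⟨r, hr'.2⟩ = _
      rw [show (⟨r * z, hw⟩ : ↥(vS P)) = ⟨r, hr'.2⟩ * ⟨z, hz.1⟩ from rfl, map_mul, (hψk ⟨z, hz.1⟩).2 hz, mul_one]
    · show ψ _ = 1 ↔ _
      rw [hψk, hZ, c.derived_eq m hF]
      exact ⟨fun h => ⟨u.2.1, h.2⟩, fun h => ⟨u.2.2, h.2⟩⟩
    · exact ⟨⟨(g : G) * u * (g : G)⁻¹, (inferInstance : (rSub p G ⊓ vS P).Normal).conj_mem _ u.2 g⟩, rfl,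
        hact g ⟨u, u.2.2⟩ ⟨_, (vS_normal P).conj_mem _ u.2.2 g⟩ rfl⟩
  have hactQ : ActsAsSL2OnSection F (commutator (Matrix.SpecialLinearGroup (Fin 2) F)) (cop p G)
      (rSub p G) (rSub p G ⊓ vS P) := by
    refine ⟨hnorm inferInstance, inf_le_left, ρ'.comp (cop p G).subtype,
      ψ'.comp (Subgroup.inclusion (c.rSub_le m hF)), hr hρ' hk', fun v => ?_, fun u => ?_, fun g u => ?_⟩
    · obtain ⟨⟨w, hw⟩, rfl⟩ := hψ' v
      have hw' : w ∈ rSub p G ⊔ xSub p P W := (c.rSub_sup_x m hF).ge hw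
      rw [← SetLike.mem_coe, normal_mul] at hw'
      obtain ⟨r, hr', x, hx, rfl⟩ := hw'
      refine ⟨⟨r, hr'⟩, ?_⟩
      show ψ' ⟨r, c.rSub_le m hF hr'⟩ = _
      rw [show (⟨r * x, hw⟩ : ↥W) = ⟨r, c.rSub_le m hF hr'⟩ * ⟨x, hx.1⟩ from rfl, map_mul,
        (hψk' ⟨x, hx.1⟩).2 hx, mul_one]
    · show ψ' _ = 1 ↔ _
      rw [hψk', ← c.rSub_inf_x m hF]
      exact ⟨fun h => ⟨u.2, h⟩, fun h => h.2⟩
    · exact ⟨⟨(g : G) * u * (g : G)⁻¹, (inferInstance : (rSub p G).Normal).conj_mem _ u.2 g⟩, rfl,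
        hact' g ⟨u, c.rSub_le m hF u.2⟩ ⟨_, ‹W.Normal›.conj_mem _ (c.rSub_le m hF u.2) g⟩ rfl⟩
  refine
    { quot := ?_
      actW := by rw [hE, hQ, hW]; exact hactW
      core_comm := by rw [hE, hQ]; exact rSub_comm
      actQ := by rw [hE, hQ, hW]; exact hactQ
      derived := by rw [hE, hQ, hW]; exact hZ.symm
      frattini_eq := ?_
      center_eq := by rw [hE, hQ, hW, hZ]; exact c.cop_centre m hF
      card_center := by rw [hE, c.cop_centre m hF, c.card_derived m hF, h3]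
      nonquad := ?_ }
  · rw [hE]
    have hker : (ρ.comp (cop p G).subtype).ker = pCore p ↥(cop p G) := by
      rw [← MonoidHom.comap_ker, hk, pCore_cop]
      rfl
    exact ⟨((QuotientGroup.quotientMulEquivOfEq hker.symm).trans
      (QuotientGroup.quotientKerEquivRange _)).trans (MulEquiv.subgroupCongr (hr hρ hk))⟩
  · rw [hE, hQ, hW, hZ]
    exact c.frattini_rSub m hF
  · intro b hb hbW hle
    rw [hE, hQ, hW] at hbW
    rw [hE, hQ, c.cop_centre m hF] at hle
    obtain ⟨g, hg⟩ := exists_conj P S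
    have hb' : g⁻¹ * b * g ∈ (P : Subgroup G) := CfsgLib.Fusion.mem_conjSub.1 (hg ▸ hb)
    have hbQ : g⁻¹ * b * g ∉ pCore p G := fun h => hbW (mem_centralizer_iff.2 fun v hv => by
      have hbQ : b ∈ pCore p G := by
        simpa [mul_assoc] using (inferInstance : (pCore p G).Normal).conj_mem _ h g
      exact (m.hyp.vS_comm hv.2 hbQ).symm)
    obtain ⟨r, hr', hne⟩ := c.nonquad m hF hb' hbQ
    apply hne
    set r' := g * r * g⁻¹ with hr''
    have hr3 : r' ∈ rSub p G := (inferInstance : (rSub p G).Normal).conj_mem r hr' g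
    have h1 := c.derived_le m hF (hle (commutator_mem_commutator
      (commutator_mem_commutator hr3 (mem_zpowers b)) (mem_zpowers b)))
    have e : ⁅g⁻¹ * b * g, ⁅g⁻¹ * b * g, r⁆⁆ = (g⁻¹ * ⁅b, r'⁆) * ⁅⁅r', b⁆, b⁆ * (g⁻¹ * ⁅b, r'⁆)⁻¹ := by
      simp only [hr'', commutatorElement_def]
      group
    rw [e, mem_center_iff.1 h1, mul_inv_cancel_right]
    exact h1

/-- The first configuration, or the exceptional block. -/
theorem exists_case_block {S : Sylow p G} (h : Hyp n S K) (hT : TorusComm p (G ⧸ K)) (hd : NoChar S) (F : Type)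
    [Field F] [Fintype F] (hF : Fintype.card F = p ^ n) :
    (∃ (P : Sylow p G) (A B : Subgroup G), Case1 P A B) ∨ (p = 3 ∧ ExcBlock F p n (S : Subgroup G)) := by
  obtain ⟨P, hP⟩ := exists_data h hT hd F hF
  rcases hP with ⟨A, B, c⟩ | ⟨W, A, H, C, Y, U, hW, c⟩
  · exact Or.inl ⟨P, A, B, c⟩
  · haveI := hW
    have m := memHyp_all h hT hd P
    exact Or.inr ⟨c.toCase2.eq_three m F hF, c.excBlock m hF S⟩

end CfsgLib.LocalEven.PushMin
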