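import Cfsg.Agent.Lib.LocalEven.PushMin.Block
import Cfsg.Agent.Lib.LocalEven.PushMin.ExcDef
import Cfsg.Agent.Lib.LocalEven.BlockBaumann.Map
import Cfsg.Agent.Lib.PStab.MaxAdm

/-!
Blocks of a subgroup seen in the whole group.
-/

set_option autoImplicit false

namespace CfsgLib.LocalEven.PushMin

open Cfsg Subgroup
open CfsgLib.LocalEven
open Matrix (SpecialLinearGroup)
open scoped commutatorElement

variable {G H : Type*} [Group G] [Group H] {p : ℕ} {f : H →* G} (hf : Function.Injective f)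
include hf

theorem lift_inf_centralizer (X Y : Subgroup H) :
    (X ⊓ centralizer (Y : Set H)).map f = X.map f ⊓ centralizer ((Y.map f : Subgroup G) : Set G) := by
  refine le_antisymm ?_ ?_
  · rintro _ ⟨x, hx, rfl⟩
    refine ⟨mem_map_of_mem f hx.1, mem_centralizer_iff.2 ?_⟩
    rintro _ ⟨y, hy, rfl⟩
    rw [← map_mul, mem_centralizer_iff.1 hx.2 y hy, map_mul]
  · rintro _ ⟨⟨x, hx, rfl⟩, hc⟩
    refine ⟨x, ⟨hx, mem_centralizer_iff.2 fun y hy => hf ?_⟩, rfl⟩
    rw [map_mul, map_mul]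
    exact mem_centralizer_iff.1 hc _ (mem_map_of_mem f hy)

theorem lift_omegaOneCenter (X : Subgroup H) :
    (omegaOneCenter p X).map f = omegaOneCenter p (X.map f) := by
  rw [omegaOneCenter, omegaOneCenter, CfsgLib.PStab.omegaOne_map hf, lift_inf_centralizer hf]

theorem lift_pCoreOf (X : Subgroup H) : (pCoreOf p X).map f = pCoreOf p (X.map f) := by
  have h1 := CfsgLib.Cores.map_pCore_equiv (p := p) (X.equivMapOfInjective f hf)
  ext y
  constructor
  · rintro ⟨_, ⟨v, hv, rfl⟩, rfl⟩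
    exact ⟨X.equivMapOfInjective f hf v, h1.le (mem_map_of_mem _ hv), rfl⟩
  · rintro ⟨u, hu, rfl⟩
    obtain ⟨v, hv, rfl⟩ := h1.ge hu
    exact ⟨(v : H), ⟨v, hv, rfl⟩, rfl⟩

theorem lift_pResidualOf [Finite G] [Fact p.Prime] [Finite H] (E : Subgroup H) :
    (pResidualOf p E).map f = pResidualOf p (E.map f) := by
  refine le_antisymm (map_le_iff_le_comap.2 (Baumann.pResidualOf_le_iff.2 fun e he hc => ?_))
    (Baumann.pResidualOf_le_iff.2 ?_)
  · exact Baumann.pResidualOf_le_iff.1 le_rfl _ (mem_map_of_mem _ he) (by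
      rwa [orderOf_injective f hf])
  · rintro _ ⟨e, he, rfl⟩ hc
    refine mem_map_of_mem _ (Baumann.pResidualOf_le_iff.1 le_rfl e he ?_)
    rwa [← orderOf_injective f hf e]

theorem lift_quot {R : Type*} [Group R] (E : Subgroup H) [(pCore p ↥E).Normal]
    [(pCore p ↥(E.map f)).Normal] (h : Nonempty (↥E ⧸ pCore p ↥E ≃* R)) :
    Nonempty (↥(E.map f) ⧸ pCore p ↥(E.map f) ≃* R) := by
  obtain ⟨g⟩ := h
  exact ⟨(QuotientGroup.congr (pCore p ↥E) (pCore p ↥(E.map f)) (E.equivMapOfInjective f hf)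
    (CfsgLib.Cores.map_pCore_equiv _)).symm.trans g⟩

theorem lift_actsSL2 {F : Type*} [Field F] {R : Subgroup (SpecialLinearGroup (Fin 2) F)}
    {E U U₀ : Subgroup H} (h : ActsAsSL2OnSection F R E U U₀) :
    ActsAsSL2OnSection F R (E.map f) (U.map f) (U₀.map f) := by
  obtain ⟨hEU, hU0, ρ, ψ, hρ, hψ, hker, heq⟩ := h
  let eE := E.equivMapOfInjective f hf
  let eU := U.equivMapOfInjective f hf
  refine ⟨(map_mono hEU).trans (le_normalizer_map _), map_mono hU0,
    ρ.comp eE.symm.toMonoidHom, ψ.comp eU.symm.toMonoidHom, ?_, hψ.comp eU.symm.surjective, fun u => ?_,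
    fun e u => ?_⟩
  · rw [MonoidHom.range_comp, MonoidHom.range_eq_top.2 eE.symm.surjective, ← MonoidHom.range_eq_map, hρ]
  · obtain ⟨v, rfl⟩ := eU.surjective u
    show ψ (eU.symm (eU v)) = 1 ↔ _
    rw [MulEquiv.symm_apply_apply, hker]
    exact (mem_map_iff_mem hf).symm
  · obtain ⟨a, rfl⟩ := eE.surjective e
    obtain ⟨v, rfl⟩ := eU.surjective u
    obtain ⟨w, hw, hw'⟩ := heq a v
    refine ⟨eU w, ?_, ?_⟩
    · show f (w : H) = f a * f v * (f a)⁻¹
      rw [hw, map_mul, map_mul, map_inv]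
    · show Multiplicative.toAdd (ψ (eU.symm (eU w))) =
        (ρ (eE.symm (eE a)) : Matrix (Fin 2) (Fin 2) F).mulVec (Multiplicative.toAdd (ψ (eU.symm (eU v))))
      rw [MulEquiv.symm_apply_apply, MulEquiv.symm_apply_apply, MulEquiv.symm_apply_apply]
      exact hw'

theorem lift_frattiniOf (Q : Subgroup H) :
    ((frattini ↥Q).map Q.subtype).map f = (frattini ↥(Q.map f)).map (Q.map f).subtype := by
  rw [(CfsgLib.Invol.QDW.map_frattini (Q.equivMapOfInjective f hf)).symm, Subgroup.map_map, Subgroup.map_map]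
  rfl

end CfsgLib.LocalEven.PushMin

namespace CfsgLib.LocalEven.PushMin

open Cfsg Subgroup
open scoped commutatorElement

variable {G : Type*} [Group G] [Finite G] {p : ℕ} [hp : Fact p.Prime] {X : Subgroup G}
variable {B Z : Subgroup G} {S : Sylow p ↥X} (hS : (S : Subgroup ↥X) = B.subgroupOf X) (hBX : B ≤ X)
variable {F : Type} [Field F] [Fintype F] {n : ℕ}

include hS hBX in
theorem lift_residual_comm (hc : ⁅pResidual p ↥X, (S : Subgroup ↥X)⁆ = pResidual p ↥X) :
    ⁅(pResidual p ↥X).map X.subtype, B⁆ = (pResidual p ↥X).map X.subtype := by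
  rw [hS] at hc
  conv_rhs => rw [← hc]
  rw [map_commutator, map_subgroupOf_eq_of_le hBX]

theorem lift_pResidualOf_self :
    pResidualOf p ((pResidual p ↥X).map X.subtype) = (pResidual p ↥X).map X.subtype := by
  rw [← lift_pResidualOf X.subtype_injective, pResidualOf_pResidual]

omit [Finite G] hp in
theorem pResidual_top_eq : pResidualOf p (⊤ : Subgroup ↥X) = pResidual p ↥X := by
  refine le_antisymm ?_ ((closure_le _).2 fun g hg => ?_)
  · rw [pResidualOf, map_le_iff_le_comap, pResidual, closure_le]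
    intro g hg
    refine CfsgLib.Transfer.mem_pResidual_of_coprime ?_
    rw [show orderOf ((⊤ : Subgroup ↥X).subtype g) = orderOf g from orderOf_coe g]
    exact hg
  · refine ⟨⟨g, mem_top g⟩, CfsgLib.Transfer.mem_pResidual_of_coprime ?_, rfl⟩
    exact (Subgroup.orderOf_mk g (mem_top g)).symm ▸ hg

/-- A linear block of a subgroup. -/
theorem isBlock_of_lin (hF : Fintype.card F = p ^ n) {T : Subgroup G}
    (hB : ⁅(pResidual p ↥X).map X.subtype, baumannSubgroupOf p T⁆ = (pResidual p ↥X).map X.subtype)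
    (hZ : ⁅(pResidual p ↥X).map X.subtype, omegaOneCenter p T⁆ ≠ ⊥) (l : LinBlock p F (pResidual p ↥X)) :
    IsBaumannBlock p T ((pResidual p ↥X).map X.subtype) := by
  haveI := CfsgLib.Cores.pCore_characteristic (G := ↥(pResidual p ↥X)) p
  haveI := CfsgLib.Cores.pCore_characteristic (G := ↥((pResidual p ↥X).map X.subtype)) p
  have hi : Function.Injective X.subtype := X.subtype_injective
  refine ⟨lift_pResidualOf_self, hB, ?_, hZ, Or.inl ⟨F, inferInstance, inferInstance, n, hF, lift_quot hi _ l.quot, ?_, Or.inl ?_⟩⟩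
  · rw [← lift_pCoreOf hi, ← map_commutator, l.core]
  · rw [← lift_pCoreOf hi, ← lift_omegaOneCenter hi, ← lift_inf_centralizer hi]
    exact lift_actsSL2 hi l.acts
  · rw [← lift_pCoreOf hi, ← lift_omegaOneCenter hi, ← l.eq]

/-- An exceptional block of a subgroup. -/
theorem isBlock_of_exc (hF : Fintype.card F = p ^ n) (h3 : p = 3) {T : Subgroup G}
    (hB : ⁅(pResidual p ↥X).map X.subtype, baumannSubgroupOf p T⁆ = (pResidual p ↥X).map X.subtype)
    (hZ : ⁅(pResidual p ↥X).map X.subtype, omegaOneCenter p T⁆ ≠ ⊥)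
    (hST : (baumannSubgroupOf p T).subgroupOf X = (S : Subgroup ↥X)) (hTX : baumannSubgroupOf p T ≤ X)
    (x : ExcBlock F p n (S : Subgroup ↥X)) : IsBaumannBlock p T ((pResidual p ↥X).map X.subtype) := by
  have hi : Function.Injective X.subtype := X.subtype_injective
  obtain ⟨q, aW, cc, aQ, d, fr, ce, card, nq⟩ := x
  revert q aW cc aQ d fr ce card nq
  rw [pResidual_top_eq]
  intro q aW cc aQ d fr ce card nq
  set E := pResidual p ↥X with hE
  haveI := CfsgLib.Cores.pCore_characteristic (G := ↥E) p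
  haveI := CfsgLib.Cores.pCore_characteristic (G := ↥(E.map X.subtype)) p
  have hZ' : E.map X.subtype ⊓ centralizer ((E.map X.subtype : Subgroup G) : Set G) =
      (E ⊓ centralizer (E : Set ↥X)).map X.subtype := (lift_inf_centralizer hi _ _).symm
  refine ⟨lift_pResidualOf_self, hB, ?_, hZ, Or.inl ⟨F, inferInstance, inferInstance, n, hF, lift_quot hi _ q, ?_,
    Or.inr ⟨h3, ?_, ?_, ?_, ?_, ?_, ?_⟩⟩⟩
  · rw [← lift_pCoreOf hi, ← map_commutator, cc]
  · rw [← lift_pCoreOf hi, ← lift_omegaOneCenter hi, ← lift_inf_centralizer hi]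
    exact lift_actsSL2 hi aW
  · rw [← lift_pCoreOf hi, ← lift_omegaOneCenter hi]
    exact lift_actsSL2 hi aQ
  · rw [← lift_pCoreOf hi, ← lift_omegaOneCenter hi, ← lift_inf_centralizer hi, ← map_commutator, d]
  · rw [← lift_pCoreOf hi, ← lift_omegaOneCenter hi, ← lift_inf_centralizer hi, ← fr]
    exact (lift_frattiniOf hi _).symm
  · rw [hZ', ← lift_pCoreOf hi, ← lift_omegaOneCenter hi, ← lift_inf_centralizer hi, ce]
  · rw [hZ', card_map_of_injective hi]
    exact card
  · intro b hb hbc hq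
    obtain ⟨b, rfl⟩ : ∃ b' : ↥X, (b' : G) = b := ⟨⟨b, hTX hb⟩, rfl⟩
    refine nq b (hST.le hb) (fun hc => hbc ?_) ?_
    · rw [← lift_pCoreOf hi, ← lift_omegaOneCenter hi]
      refine mem_centralizer_iff.2 ?_
      rintro _ ⟨w, hw, rfl⟩
      exact congrArg Subtype.val (mem_centralizer_iff.1 hc w hw)
    · rw [hZ', ← lift_pCoreOf hi, ← show (zpowers b).map X.subtype = zpowers (b : G) from MonoidHom.map_zpowers _ b,
        ← map_commutator, ← map_commutator, map_le_map_iff_of_injective hi] at hq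
      exact hq

end CfsgLib.LocalEven.PushMin
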