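import Cfsg.Agent.Lib.LocalEven.PushMin.MemberOne
import Cfsg.Agent.Lib.LocalEven.PushMin.Lift
import Cfsg.Agent.Lib.LocalEven.PushMin.Case2Block

/-!
A member of order two: its residual, its module of order four, and an involution of the Baumann subgroup
mapping onto the member.
-/

set_option autoImplicit false
set_option linter.unusedSectionVars false

namespace CfsgLib.LocalEven.PushMin

open Cfsg Subgroup
open CfsgLib.Fusion (conjSub mem_conjSub conj_mem_conjSub conjSub_conjSub)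
open CfsgLib.LocalEven CfsgLib.LocalEven.RankOne CfsgLib.LocalEven.PushUp
open CfsgLib.LocalEven.RankOne (Hyp vS zS vS_normal)
open CfsgLib.LocalEven.PushUp (MemHyp Case1 vS_conj)
open CfsgLib.LocalEven.MinOffender (fx)
open CfsgLib.LocalEven.StrongFF (cm mem_cm)
open CfsgLib.LocalEven.PMinFF (InT others blk mv)
open scoped commutatorElement

section Transport

variable {G : Type*} [Group G] [Finite G] {p : ℕ} [Fact p.Prime]

theorem case1_conj {P S : Sylow p G} {A B : Subgroup G} (c : Case1 P A B) {g : G}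
    (hg : (S : Subgroup G) = conjSub g (P : Subgroup G)) : Case1 S (conjSub g A) (conjSub g B) := by
  haveI hQ : (pCore p G).Normal := inferInstance
  have hQg : conjSub g (pCore p G) = pCore p G :=
    CfsgLib.Fusion.conjSub_eq_iff_mem_normalizer.2 (by rw [normalizer_eq_top]; trivial)
  have hVg : conjSub g (vS P) = vS S := by
    rw [vS_conj P S]
    exact CfsgLib.Fusion.conjSub_eq_iff_mem_normalizer.2 (by rw [normalizer_eq_top]; trivial)
  refine ⟨hg ▸ map_mono c.A_le, ?_, ?_, ?_, hQg ▸ map_mono c.B_le, ?_, ?_⟩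
  · rw [hg, ← hQg]
    exact (map_mono c.cover).trans (Subgroup.map_sup _ _ _).le
  · rintro _ ⟨a, ha, rfl⟩
    rw [← map_pow, c.A_pow a ha, map_one]
  · rintro _ ⟨a, ha, rfl⟩ _ ⟨b, hb, rfl⟩
    rw [← map_mul, ← map_mul, c.A_comm a ha b hb]
  · rintro _ ⟨a, ha, rfl⟩ _ ⟨b, hb, rfl⟩
    rw [← map_mul, ← map_mul, c.AB a ha b hb]
  · rw [← hQg, ← hVg]
    exact (map_mono c.core_le).trans (Subgroup.map_sup _ _ _).le

end Transport

variable {G : Type*} [Group G] [Finite G]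

/-- What the class needs to know about one member of order two. -/
structure AltMem (T : Sylow 2 G) (M : Subgroup G) (D : Subgroup (G ⧸ kerV 2 G)) (W : Subgroup G) (x s : G) : Prop where
  leV : W ≤ modV 2 G
  leE : W ≤ memRes T D
  xE : x ∈ memRes T D
  cover : memRes T D ≤ zpowers x ⊔ W
  card : Nat.card ↥W = 4
  free : ∀ w ∈ W, ⁅x, w⁆ = 1 → w = 1
  core : ∀ e ∈ memRes T D, ∀ q ∈ pCore 2 G, ⁅e, q⁆ ∈ W
  conjW : ∀ e ∈ memRes T D, ∀ w ∈ W, e * w * e⁻¹ ∈ W
  perfW : ⁅W, memRes T D⁆ = W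
  prE : (memRes T D).map (pr 2 G) ≤ blk 2 (bT T) (Additive ↥(modV 2 G)) D
  prx : pr 2 G x ≠ 1
  sB : s ∈ baumannSubgroupOf 2 (T : Subgroup G)
  sInv : s * s = 1
  sD : pr 2 G s ∈ D
  sne : pr 2 G s ≠ 1
  sComm : ∀ b ∈ baumannSubgroupOf 2 (T : Subgroup G), ⁅s, b⁆ ∈ W
  commB : ⁅memRes T D, baumannSubgroupOf 2 (T : Subgroup G)⁆ = memRes T D
  omega : ⁅memRes T D, omegaOneCenter 2 (T : Subgroup G)⁆ ≠ ⊥
  notLe : ¬ memRes T D ≤ M

theorem exists_altMem {T : Sylow 2 G} {M : Subgroup G} (h : Hyps 2 T M) {D : Subgroup (G ⧸ kerV 2 G)}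
    (hD : InT 2 (bT T) (Additive ↥(modV 2 G)) D) (h2 : Nat.card ↥D = 2) :
    kerV 2 G = pCore 2 G ∧ ∃ (W : Subgroup G) (x s : G), AltMem T M D W x s := by
  classical
  obtain ⟨F, iF, iFF, n, H, S, K, hKn, hF, hDn, hBH, hS, hHM, hmin, himg, hyp, htor, hnc⟩ := exists_over h hD
  have hn : n = 1 := by
    have h1 : (2 : ℕ) ^ 1 = 2 ^ n := by rw [pow_one, ← hDn, h2]
    exact (Nat.pow_right_injective le_rfl h1).symm
  have o : Over T M H S n K := ⟨hBH, hS, hHM, hmin, hyp, htor, hnc⟩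
  obtain ⟨P, A₀, B₀, c₀⟩ := (exists_case_block hyp htor hnc F hF).resolve_right (fun h3 => absurd h3.1 (by norm_num))
  obtain ⟨g, hg⟩ := PushUp.exists_conj P S
  obtain ⟨A, B, c⟩ : ∃ A B, Case1 S A B := ⟨_, _, case1_conj c₀ hg⟩
  have m := o.memHyp S
  have f := m.facts F hF
  have l := linBlock_of_case1 c m F hF
  have hres := o.memRes_eq h c hF hD himg
  have hkerQ := o.kerV_eq h c hF
  have hWV := o.modH_le h c hF
  have hpr : (resH 2 H).map (pr 2 G) ≤ blk 2 (bT T) (Additive ↥(modV 2 G)) D := o.pr_resH_le h hD himg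
  set 𝒲 := ⁅vS S, pResidual 2 ↥H⁆ with h𝒲
  set L := blk 2 (bT T) (Additive ↥(modV 2 G)) D with hL
  set Ē := resH 2 H with hĒ
  -- the overgroup has order six
  have hcardL : Nat.card ↥L = 6 := by
    obtain ⟨F₀, _, _, hF₀, ρ, -, hρ, -⟩ := InT.natural h.setting hD
    rw [Nat.card_congr (MulEquiv.ofBijective ρ hρ).toEquiv,
      CfsgLib.Classical.card_SL_two (hF₀.trans h2)]
  obtain ⟨x, hxo, hx1⟩ : ∃ x : ↥H, (orderOf x).Coprime 2 ∧ pr 2 G (x : G) ≠ 1 := by
    by_contra hc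
    push Not at hc
    refine o.resH_notLe h (le_trans ?_ h.ker_le)
    rw [resH, map_le_iff_le_comap, pResidual, closure_le]
    exact fun y hy => pr_eq_one.1 (hc y hy)
  have hxR : x ∈ pResidual 2 ↥H := CfsgLib.Transfer.mem_pResidual_of_coprime hxo
  have hxE : (x : G) ∈ Ē := mem_map_of_mem _ hxR
  set xb := pr 2 G (x : G) with hxb
  have hxL : xb ∈ L := hpr (mem_map_of_mem _ hxE)
  have hxo3 : orderOf xb = 3 := by
    have h1 : orderOf xb ∣ 6 := by
      rw [← hcardL, ← Subgroup.orderOf_mk xb hxL]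
      exact orderOf_dvd_natCard _
    have h2' : (orderOf xb).Coprime 2 :=
      Nat.Coprime.coprime_dvd_left ((orderOf_map_dvd _ _).trans (orderOf_coe x).dvd) hxo
    have h3 : orderOf xb ∣ 3 := h2'.dvd_of_dvd_mul_left (show orderOf xb ∣ 2 * 3 by simpa using h1)
    rcases (Nat.dvd_prime Nat.prime_three).1 h3 with e | e
    · exact absurd (orderOf_eq_one_iff.1 e) hx1
    · exact e
  -- the part inside the kernel
  have hEQ : ∀ e ∈ Ē, e ∈ pCore 2 G → e ∈ modH S := by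
    rintro _ ⟨e, he, rfl⟩ heQ
    refine mem_map_of_mem _ ?_
    rw [← o.core_resH c hF]
    haveI : (pCore 2 G).Normal := inferInstance
    refine le_pCoreOf (N := (pCore 2 G).subgroupOf H ⊓ pResidual 2 ↥H) inf_le_right
      ((CfsgLib.Cores.isPGroup_pCore 2).comap_subtype.to_le inf_le_left) ?_ ⟨heQ, he⟩
    rw [normalizer_eq_top]; exact le_top
  have hcover : Ē ≤ zpowers (x : G) ⊔ modH S := by
    rw [hĒ, resH, map_le_iff_le_comap, pResidual, closure_le]
    intro y hy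
    have hyR : y ∈ pResidual 2 ↥H := CfsgLib.Transfer.mem_pResidual_of_coprime hy
    have hyE : (y : G) ∈ Ē := mem_map_of_mem _ hyR
    have hyL : pr 2 G (y : G) ∈ L := hpr (mem_map_of_mem _ hyE)
    have hidx : ((zpowers xb).subgroupOf L).index = 2 := by
      have h1 := Subgroup.card_mul_index ((zpowers xb).subgroupOf L)
      rw [Nat.card_congr (subgroupOfEquivOfLe (zpowers_le.2 hxL)).toEquiv, Nat.card_zpowers, hxo3, hcardL] at h1
      omega
    have hsq := sq_mem_of_index_two hidx ⟨pr 2 G (y : G), hyL⟩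
    rw [mem_subgroupOf, SubgroupClass.coe_pow] at hsq
    have hyo : (orderOf (pr 2 G (y : G))).Coprime 2 :=
      Nat.Coprime.coprime_dvd_left ((orderOf_map_dvd _ _).trans (orderOf_coe y).dvd) hy
    have hyz : pr 2 G (y : G) ∈ zpowers xb := by
      obtain ⟨k, hk⟩ : ∃ k : ℕ, (pr 2 G (y : G) ^ 2) ^ k = pr 2 G (y : G) :=
        exists_pow_eq_self_of_coprime hyo.symm
      exact hk ▸ pow_mem hsq k
    obtain ⟨i, hi⟩ := mem_zpowers_iff.1 hyz
    have h1 : ((x : G) ^ i)⁻¹ * (y : G) ∈ Ē := mul_mem (inv_mem (zpow_mem hxE i)) hyE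
    have h2' : ((x : G) ^ i)⁻¹ * (y : G) ∈ pCore 2 G := hkerQ ▸ pr_eq_one.1 (by
      rw [map_mul, map_inv, map_zpow, ← hxb, hi, inv_mul_cancel])
    have h3 := mul_mem (mem_sup_left (T := modH S) (zpow_mem (mem_zpowers (x : G)) i))
      (mem_sup_right (S := zpowers (x : G)) (hEQ _ h1 h2'))
    rw [mul_inv_cancel_left] at h3
    exact h3
  -- the module
  have hWab : ∀ u ∈ modH S, ∀ v ∈ modH S, Commute u v := fun u hu v hv =>
    (show Commute v u from (Oz.mem_iff.1 (hWV hu)).2.1 v (Hyps.modV_le (hWV hv))).symm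
  have hconjW : ∀ e ∈ Ē, ∀ w ∈ modH S, e * w * e⁻¹ ∈ modH S := fun e he w hw =>
    (mem_normalizer_iff.1 (le_normalizer_modH (resH_le H he)) w).1 hw
  have hxcomm : ∀ u ∈ modH S, ⁅(x : G), u⁆ ∈ modH S := fun u hu => by
    rw [commutatorElement_def]
    exact mul_mem (hconjW _ hxE u hu) (inv_mem hu)
  have hperf : ⁅modH S, Ē⁆ = modH S := by
    have h1 := l.core
    rw [o.core_resH c hF] at h1
    rw [modH, hĒ, resH, ← map_commutator, h1]
  let R : Subgroup G :=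
    { carrier := {r | ∃ u ∈ modH S, ⁅(x : G), u⁆ = r}
      one_mem' := ⟨1, one_mem _, commutatorElement_one_right _⟩
      mul_mem' := by
        rintro _ _ ⟨u, hu, rfl⟩ ⟨v, hv, rfl⟩
        refine ⟨u * v, mul_mem hu hv, ?_⟩
        rw [show ⁅(x : G), u * v⁆ = ⁅(x : G), u⁆ * (u * ⁅(x : G), v⁆ * u⁻¹) by
          simp only [commutatorElement_def]; group, (hWab u hu _ (hxcomm v hv)).eq, mul_inv_cancel_right]
      inv_mem' := by
        rintro _ ⟨u, hu, rfl⟩
        refine ⟨u⁻¹, inv_mem hu, ?_⟩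
        rw [show ⁅(x : G), u⁻¹⁆ = u⁻¹ * ⁅(x : G), u⁆⁻¹ * u by simp only [commutatorElement_def]; group,
          (hWab u⁻¹ (inv_mem hu) _ (inv_mem (hxcomm u hu))).eq, inv_mul_cancel_right] }
  have hRW : R ≤ modH S := by rintro _ ⟨u, hu, rfl⟩; exact hxcomm u hu
  have hWR : modH S ≤ R := by
    let K' : Subgroup G :=
      { carrier := {e | e ∈ normalizer (R : Set G) ∧ e ∈ normalizer (modH S : Set G) ∧ ∀ u ∈ modH S, ⁅e, u⁆ ∈ R}
        one_mem' := ⟨one_mem _, one_mem _, fun u _ => by rw [commutatorElement_one_left]; exact one_mem _⟩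
        mul_mem' := fun {a b} ha hb => ⟨mul_mem ha.1 hb.1, mul_mem ha.2.1 hb.2.1, fun u hu => by
          rw [show ⁅a * b, u⁆ = a * ⁅b, u⁆ * a⁻¹ * ⁅a, u⁆ by simp only [commutatorElement_def]; group]
          exact mul_mem ((mem_normalizer_iff.1 ha.1 _).1 (hb.2.2 u hu)) (ha.2.2 u hu)⟩
        inv_mem' := fun {a} ha => ⟨inv_mem ha.1, inv_mem ha.2.1, fun u hu => by
          rw [show ⁅a⁻¹, u⁆ = a⁻¹ * ⁅a, u⁆⁻¹ * a⁻¹⁻¹ by simp only [commutatorElement_def]; group]
          exact (mem_normalizer_iff.1 (inv_mem ha.1) _).1 (inv_mem (ha.2.2 u hu))⟩ }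
    have hxK : (x : G) ∈ K' := ⟨CfsgLib.Solvable.mem_normalizer_of_conj_mem (by
        rintro _ ⟨u, hu, rfl⟩
        exact ⟨_, hconjW _ hxE u hu, by simp only [commutatorElement_def]; group⟩),
      le_normalizer_modH x.2, fun u hu => ⟨u, hu, rfl⟩⟩
    have hWK : modH S ≤ K' := fun w hw => ⟨CfsgLib.Solvable.mem_normalizer_of_conj_mem (fun r hr => by
        rwa [(hWab w hw r (hRW hr)).eq, mul_inv_cancel_right]), le_normalizer hw, fun u hu => by
      rw [commutatorElement_eq_one_iff_mul_comm.2 (hWab w hw u hu).eq]; exact one_mem _⟩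
    have hle : Ē ≤ K' := hcover.trans (sup_le (zpowers_le.2 hxK) hWK)
    refine hperf.ge.trans (commutator_le.2 fun u hu e he => ?_)
    rw [← commutatorElement_inv]
    exact inv_mem ((hle he).2.2 u hu)
  have hfree : ∀ w ∈ modH S, ⁅(x : G), w⁆ = 1 → w = 1 := by
    intro w hw hw1
    obtain ⟨u, hu, hue⟩ := hWR hw
    have h1 : w ∈ (⊥ : Subgroup G) := coprime_comm_mem (p := 2) (by rwa [orderOf_coe]) hue
      ⟨1, by rw [pow_one]; exact pow_eq_one_of_mem (hWV hw)⟩ (fun v hv => by rw [mem_bot.1 hv]; simp)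
      (mem_bot.2 hw1) (fun v hv => by rw [mem_bot.1 hv]; exact Commute.one_right _)
    exact mem_bot.1 h1
  -- its order
  have hfree' : ∀ w ∈ 𝒲, Commute x w → w = 1 := fun w hw hc => by
    refine Subtype.ext (hfree (w : G) (mem_map_of_mem _ hw) ?_)
    rw [commutatorElement_eq_one_iff_mul_comm]
    exact congrArg Subtype.val hc.eq
  have hcard : Nat.card ↥(modH S) = 4 := by
    have hU : omegaOneCenter 2 (pCoreOf 2 (pResidual 2 ↥H)) = 𝒲 := l.eq.symm.trans (o.core_resH c hF)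
    obtain ⟨-, -, -, ψ, -, hψs, hψk, -⟩ := l.acts
    have hψi : Function.Injective ψ := (injective_iff_map_eq_one ψ).2 fun u hu => by
      have hu' := (hψk u).1 hu
      exact Subtype.ext (hfree' _ (hU.le hu'.1) (mem_centralizer_iff.1 hu'.2 x hxR))
    rw [modH, card_map_of_injective H.subtype_injective, ← h𝒲, ← hU,
      Nat.card_congr (Equiv.ofBijective ψ ⟨hψi, hψs⟩), Nat.card_congr Multiplicative.toAdd, Nat.card_fun,
      Nat.card_eq_fintype_card, Nat.card_eq_fintype_card, Fintype.card_fin, hF, hn]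
    norm_num
  -- an element of `A` outside the core
  obtain ⟨a, haA, haQ⟩ := c.exists_out o.hyp
  have hsS : a ∈ (S : Subgroup ↥H) := c.A_le haA
  haveI : (vS S ⊓ center ↥H).Normal := normal_of_le_center inf_le_right
  have hVdec : ∀ v ∈ vS S, ∃ w ∈ 𝒲, ∃ z ∈ vS S ⊓ center ↥H, v = w * z := by
    have hle : vS S ≤ 𝒲 ⊔ (vS S ⊓ center ↥H) :=
      f.sec.irred f.hypS le_sup_right (sup_le (commutator_le_left _ _) inf_le_left) fun hle => by
        have h1 : 𝒲 = ⊥ := eq_bot_iff.2 fun w hw => mem_bot.2 (hfree' w hw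
          (mem_center_iff.1 (hle (mem_sup_left hw)).2 x))
        rw [modH, ← h𝒲, h1, Subgroup.map_bot, Subgroup.card_bot] at hcard
        omega
    intro v hv
    have h1 := hle hv
    rw [← SetLike.mem_coe, normal_mul] at h1
    obtain ⟨w, hw, z, hz, e⟩ := h1
    exact ⟨w, hw, z, hz, e.symm⟩
  set s : G := (a : G) with hs
  have hsb : ∀ b ∈ baumannSubgroupOf 2 (T : Subgroup G), ∃ w ∈ modH S, ⁅s, b⁆ = ⁅s, w⁆ := by
    intro b hb
    obtain ⟨a', ha', v, hv, b', hb', e⟩ := c.decomp (show (⟨b, hBH hb⟩ : ↥H) ∈ (S : Subgroup ↥H) from hS.ge hb)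
    obtain ⟨w, hw, z, hz, rfl⟩ := hVdec v hv
    refine ⟨((a' * w * a'⁻¹ : ↥H) : G),
      mem_map_of_mem _ ((inferInstance : (⁅vS S, pResidual 2 ↥H⁆).Normal).conj_mem w hw a'), ?_⟩
    have h1 : ⁅a, (⟨b, hBH hb⟩ : ↥H)⁆ = ⁅a, a' * w * a'⁻¹⁆ := by
      have c1 : Commute a a' := c.A_comm a haA a' ha'
      have c2 : Commute a b' := c.AB a haA b' hb'
      have c3 : Commute a z := mem_center_iff.1 hz.2 a
      rw [e, show ⁅a, a' * (w * z) * b'⁆ = ⁅a, a'⁆ * (a' * (⁅a, w⁆ * (w * ⁅a, z⁆ * w⁻¹)) * a'⁻¹) *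
        (a' * (w * z) * ⁅a, b'⁆ * (a' * (w * z))⁻¹) by simp only [commutatorElement_def]; group,
        commutatorElement_eq_one_iff_mul_comm.2 c1.eq, commutatorElement_eq_one_iff_mul_comm.2 c2.eq,
        commutatorElement_eq_one_iff_mul_comm.2 c3.eq]
      simp only [mul_one, one_mul, mul_inv_cancel]
      simp only [commutatorElement_def]
      calc a' * (a * w * a⁻¹ * w⁻¹) * a'⁻¹ = a' * a * (w * a⁻¹ * w⁻¹ * a'⁻¹) := by group
        _ = a * a' * (w * a⁻¹ * w⁻¹ * a'⁻¹) := by rw [c1.eq]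
        _ = a * (a' * w) * (a⁻¹ * a'⁻¹) * (a' * w⁻¹ * a'⁻¹) := by group
        _ = a * (a' * w) * (a'⁻¹ * a⁻¹) * (a' * w⁻¹ * a'⁻¹) := by rw [c1.inv_inv.eq]
        _ = _ := by group
    exact congrArg Subtype.val h1
  have hsinv : s * s = 1 := by
    have h1 := congrArg Subtype.val (c.A_pow a haA)
    simpa [pow_two, hs] using h1
  have hsB : s ∈ baumannSubgroupOf 2 (T : Subgroup G) := hS.le hsS
  obtain ⟨w₀, hw₀, hw₀s⟩ : ∃ w ∈ modH S, ⁅s, w⁆ ≠ 1 := by
    by_contra hc'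
    push Not at hc'
    refine haQ (f.centralizer_le ⟨hsS, mem_centralizer_iff.2 fun v hv => ?_⟩)
    obtain ⟨w, hw, z, hz, rfl⟩ := hVdec v hv
    have h1 : Commute a w := commutatorElement_eq_one_iff_mul_comm.1
      (Subtype.ext (hc' _ (mem_map_of_mem H.subtype hw)))
    exact ((h1.mul_right (mem_center_iff.1 hz.2 a)).symm).eq
  set e₀ := ⁅s, w₀⁆ with he₀
  have hsW : ∀ w ∈ modH S, ⁅s, w⁆ ∈ modH S := fun w hw => by
    rw [commutatorElement_def]
    exact mul_mem ((mem_normalizer_iff.1 (le_normalizer_modH a.2) w).1 hw) (inv_mem hw)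
  have htwo : ∀ w ∈ modH S, ⁅s, w⁆ = 1 ∨ ⁅s, w⁆ = e₀ := by
    let δ : ↥(modH S) →* ↥(modH S) := MonoidHom.mk' (fun w => ⟨⁅s, (w : G)⁆, hsW w w.2⟩) fun u v => Subtype.ext (by
      show ⁅s, (u : G) * v⁆ = ⁅s, (u : G)⁆ * ⁅s, (v : G)⁆
      rw [show ⁅s, (u : G) * v⁆ = ⁅s, (u : G)⁆ * ((u : G) * ⁅s, (v : G)⁆ * (u : G)⁻¹) by
        simp only [commutatorElement_def]; group, (hWab _ u.2 _ (hsW v v.2)).eq, mul_inv_cancel_right])
    have hker : δ.range ≤ δ.ker := by
      rintro _ ⟨w, rfl⟩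
      refine MonoidHom.mem_ker.2 (Subtype.ext ?_)
      show ⁅s, ⁅s, (w : G)⁆⁆ = 1
      have hw2 : (w : G) * w = 1 := by rw [← pow_two]; exact pow_eq_one_of_mem (hWV w.2)
      have hd : ⁅s, (w : G)⁆ * ⁅s, (w : G)⁆ = 1 := by rw [← pow_two]; exact pow_eq_one_of_mem (hWV (hsW w w.2))
      have h1 : s * ⁅s, (w : G)⁆ * s⁻¹ = ⁅s, (w : G)⁆ := by
        have e1 : s * ⁅s, (w : G)⁆ * s⁻¹ = ⁅s, (w : G)⁆⁻¹ := by
          rw [commutatorElement_inv, commutatorElement_def, commutatorElement_def,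
            inv_eq_of_mul_eq_one_right hsinv, inv_eq_of_mul_eq_one_right hw2]
          simp only [← mul_assoc, hsinv, one_mul]
        rw [e1, inv_eq_of_mul_eq_one_right hd]
      rw [commutatorElement_def, h1, mul_inv_cancel]
    have hne : (⟨w₀, hw₀⟩ : ↥(modH S)) ∉ δ.ker := fun hk =>
      hw₀s (congrArg Subtype.val (MonoidHom.mem_ker.1 hk))
    have hmul := Subgroup.card_mul_index δ.ker
    rw [index_ker, hcard] at hmul
    have hr2 : 1 < Nat.card ↥δ.range := (Subgroup.one_lt_card_iff_ne_bot _).2 fun e =>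
      hne (MonoidHom.mem_ker.2 (mem_bot.1 (e ▸ ⟨_, rfl⟩ : δ ⟨w₀, hw₀⟩ ∈ (⊥ : Subgroup ↥(modH S)))))
    have hle := Nat.card_le_card_of_injective _ (Subgroup.inclusion_injective hker)
    have hr : Nat.card ↥δ.range = 2 := by nlinarith
    intro w hw
    by_contra hcon
    push Not at hcon
    obtain ⟨y, hy1, hy2⟩ := (Nat.card_eq_two_iff' (1 : ↥δ.range)).1 hr
    have ha1 : (⟨δ ⟨w, hw⟩, ⟨_, rfl⟩⟩ : ↥δ.range) ≠ 1 := fun e =>
      hcon.1 (congrArg (fun z : ↥δ.range => ((z : ↥(modH S)) : G)) e)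
    have hb1 : (⟨δ ⟨w₀, hw₀⟩, ⟨_, rfl⟩⟩ : ↥δ.range) ≠ 1 := fun e =>
      hw₀s (congrArg (fun z : ↥δ.range => ((z : ↥(modH S)) : G)) e)
    exact hcon.2 (congrArg (fun z : ↥δ.range => ((z : ↥(modH S)) : G)) ((hy2 _ ha1).trans (hy2 _ hb1).symm))
  -- the image of the involution
  have hvsub : ∀ v w : Additive ↥(modV 2 G), val (v - w) = val v * (val w)⁻¹ := fun v w => by
    rw [sub_eq_add_neg, val_add]
    rfl
  have hwmv : ∀ w (hw : w ∈ modH S), toMod w (hWV hw) ∈ mv (Additive ↥(modV 2 G)) L := by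
    intro w hw
    obtain ⟨u, hu, hue⟩ := hWR hw
    have h1 := PMinFF.sub_mem_mv (M := Additive ↥(modV 2 G)) hxL (toMod u (hWV hu))
    convert h1 using 1
    refine val_ext ?_
    rw [hvsub, hxb, val_smul]
    show w = (x : G) * u * (x : G)⁻¹ * u⁻¹
    rw [← hue, commutatorElement_def]
  have hVB : ∀ v ∈ modV 2 G, v ∈ baumannSubgroupOf 2 (T : Subgroup G) := fun v hv =>
    ⟨h.core_le (Hyps.modV_le hv), mem_centralizer_iff.2 fun z hz => (Oz.mem_iff.1 hv).2.1 z (h.zJ_le_core hz)⟩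
  obtain ⟨hOL, hcomm⟩ := others_facts h hD
  set O := others 2 (bT T) (Additive ↥(modV 2 G)) D with hO
  have hDL : D ≤ L := (InT.blk_min h.setting hD).aLe
  obtain ⟨oo, hoo, d, hd, hod⟩ : ∃ oo ∈ O, ∃ d ∈ D, pr 2 G s = oo * d := by
    refine CfsgLib.Solvable.exists_mul_of_mem_sup (hDL.trans (InT.blk_le h.setting hD)) ?_
    rw [others_sup h hD, ← h.map_baumann]
    exact mem_map_of_mem _ hsB
  have hofix : ∀ g ∈ O, ∀ v ∈ mv (Additive ↥(modV 2 G)) L, g • v = v := fun g hg v hv => by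
    have hle : O ≤ MulAction.stabilizer (G ⧸ kerV 2 G) v :=
      sSup_le fun C hC c' hc' => InT.mv_le_fix h.setting hD ⟨hC.1, hC.2.1⟩ hC.2.2 hv c' hc'
    exact hle hg
  have hcmv : ∀ v : Additive ↥(modV 2 G), val (pr 2 G s • v - v) = ⁅s, val v⁆ := fun v => by
    rw [hvsub, val_smul, commutatorElement_def]
  have hdne : d ≠ 1 := by
    intro e
    rw [e, mul_one] at hod
    refine hw₀s ?_
    have h1 := hcmv (toMod w₀ (hWV hw₀))
    rw [hod, hofix oo hoo _ (hwmv w₀ hw₀), sub_self] at h1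
    exact h1.symm
  set v₀ := toMod w₀ (hWV hw₀) with hv₀
  set ε := toMod e₀ (hWV (hsW w₀ hw₀)) with hε
  have hsplit : ∀ v, pr 2 G s • v - v = (d • v - v) + (oo • v - v) := fun v => by
    have h1 : oo • (d • v - v) = d • v - v := hofix oo hoo _ (PMinFF.sub_mem_mv (hDL hd) v)
    rw [hod, mul_smul, show d • v - v + (oo • v - v) = oo • (d • v - v) + oo • v - v by rw [h1]; abel,
      ← smul_add, sub_add_cancel]
  have hεcm : ε ∈ cm (Additive ↥(modV 2 G)) d := by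
    refine mem_cm.2 ⟨v₀, ?_⟩
    have h1 := hsplit v₀
    rw [hofix oo hoo v₀ (hwmv w₀ hw₀), sub_self, add_zero] at h1
    rw [← h1]
    exact val_ext (hcmv v₀)
  have hε0 : ε ≠ 0 := fun e => hw₀s (congrArg val e)
  have hcm2 : ∀ v ∈ cm (Additive ↥(modV 2 G)) d, v = 0 ∨ v = ε := by
    intro v hv
    have hc2 : Nat.card ↥(cm (Additive ↥(modV 2 G)) d) = 2 := (InT.card_cm h.setting hD hd hdne).trans h2
    obtain ⟨y, -, hy2⟩ := (Nat.card_eq_two_iff' (0 : ↥(cm (Additive ↥(modV 2 G)) d))).1 hc2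
    by_contra hcon
    push Not at hcon
    have ha1 : (⟨v, hv⟩ : ↥(cm (Additive ↥(modV 2 G)) d)) ≠ 0 := fun e => hcon.1 (congrArg Subtype.val e)
    have hb1 : (⟨ε, hεcm⟩ : ↥(cm (Additive ↥(modV 2 G)) d)) ≠ 0 := fun e => hε0 (congrArg Subtype.val e)
    exact hcon.2 (congrArg Subtype.val ((hy2 _ ha1).trans (hy2 _ hb1).symm))
  have hobound : ∀ g ∈ O, ∀ v : Additive ↥(modV 2 G), g • v - v ∈ fx (Additive ↥(modV 2 G)) L := by
    let K₁ : Subgroup (G ⧸ kerV 2 G) :=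
      { carrier := {g | (∀ l ∈ L, g * l = l * g) ∧ ∀ v : Additive ↥(modV 2 G), g • v - v ∈ fx _ L}
        one_mem' := ⟨fun l _ => by simp, fun v => by rw [one_smul, sub_self]; exact zero_mem _⟩
        mul_mem' := fun {g k} hg hk => ⟨fun l hl => by rw [mul_assoc, hk.1 l hl, ← mul_assoc, hg.1 l hl, mul_assoc],
          fun v => by
            rw [show (g * k) • v - v = (g • k • v - k • v) + (k • v - v) by rw [mul_smul]; abel]
            exact add_mem (hg.2 _) (hk.2 v)⟩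
        inv_mem' := fun {g} hg => ⟨fun l hl => by
            rw [eq_mul_inv_iff_mul_eq, mul_assoc, ← hg.1 l hl, inv_mul_cancel_left],
          fun v => by
            rw [show g⁻¹ • v - v = -(g • (g⁻¹ • v) - g⁻¹ • v) by rw [smul_inv_smul]; abel]
            exact neg_mem (hg.2 _)⟩ }
    have hle : O ≤ K₁ := sSup_le fun C hC g hg => ⟨InT.blk_comm h.setting hD ⟨hC.1, hC.2.1⟩ hC.2.2 g hg,
      fun v => InT.cm_le_fix h.setting hD ⟨hC.1, hC.2.1⟩ hC.2.2 hg (mem_cm.2 ⟨v, rfl⟩)⟩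
    exact fun g hg => (hle hg).2
  have hoo1 : oo = 1 := by
    refine h.setting.faithful oo fun v => sub_eq_zero.1 ?_
    refine InT.cm_disj h.setting hD hd ?_ (hobound oo hoo v)
    have h1 : pr 2 G s • v - v ∈ cm (Additive ↥(modV 2 G)) d := by
      obtain ⟨w, hw, hwe⟩ := hsb _ (hVB _ (val_mem v))
      rcases htwo w hw with e | e
      · rw [show pr 2 G s • v - v = 0 from val_ext ((hcmv v).trans (hwe.trans e))]
        exact zero_mem _
      · rw [show pr 2 G s • v - v = ε from val_ext ((hcmv v).trans (hwe.trans e))]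
        exact hεcm
    rw [show oo • v - v = (pr 2 G s • v - v) - (d • v - v) by rw [hsplit v]; abel]
    exact sub_mem h1 (mem_cm.2 ⟨v, rfl⟩)
  rw [hoo1, one_mul] at hod
  refine ⟨hkerQ, modH S, (x : G), s, ?_⟩
  have hcB := lift_residual_comm (B := baumannSubgroupOf 2 (T : Subgroup G)) hS hBH (residual_comm hyp)
  refine ⟨hWV, ?_, ?_, ?_, hcard, hfree, ?_, ?_, ?_, ?_, hx1, hsB, hsinv, hod ▸ hd, hod ▸ hdne, ?_, ?_, ?_, ?_⟩
  all_goals try rw [hres]
  · exact modH_le_resH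
  · exact hxE
  · exact hcover
  · exact fun e he q hq => o.comm_core h c hF he hq
  · exact hconjW
  · exact hperf
  · exact hpr
  · intro b hb
    obtain ⟨w, hw, e⟩ := hsb b hb
    exact e ▸ hsW w hw
  · exact hcB
  · intro e
    refine o.resH_notLe h (le_trans ?_ h.cent_omega_le)
    exact commutator_eq_bot_iff_le_centralizer.1 e
  · exact o.resH_notLe h

end CfsgLib.LocalEven.PushMin
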