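import Mathlib.GroupTheory.SpecificGroups.Alternating.Simple
import Mathlib.Data.ZMod.Basic
import Mathlib.Algebra.BigOperators.Pi
import Mathlib.LinearAlgebra.Matrix.ToLin

/-!
Permutation lemmas for the symmetrical class: a transvection of the even permutation module is a transposition,
commuting transpositions are disjoint, point stabilisers are maximal.
-/

set_option autoImplicit false

namespace CfsgLib.LocalEven.PushMin

open Equiv Equiv.Perm

variable {α : Type*} [DecidableEq α]

/-- The vector with a single hole. -/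
def holeVec (i : α) : α → ZMod 2 := fun x => if x = i then 0 else 1

theorem holeVec_diff (σ : Perm α) (i x : α) :
    holeVec i (σ⁻¹ x) - holeVec i x = if x = σ i then (if x = i then 0 else 1) else if x = i then 1 else 0 := by
  have h : σ⁻¹ x = i ↔ x = σ i := by rw [Perm.inv_def, Equiv.symm_apply_eq]
  simp only [holeVec, h]
  by_cases h1 : x = σ i <;> by_cases h2 : x = i <;> simp [h1, h2] <;> split_ifs <;> simp_all

theorem sum_holeVec [Fintype α] (hα : Odd (Fintype.card α)) (i : α) : ∑ x, holeVec i x = 0 := by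
  have h : ∑ x, holeVec i x = ((Fintype.card α - 1 : ℕ) : ZMod 2) := by
    rw [Finset.sum_eq_sum_sdiff_singleton_add (Finset.mem_univ i) (holeVec i)]
    simp only [holeVec, if_true, add_zero]
    rw [Finset.sum_congr rfl (fun x hx => if_neg (by
      simpa using hx : ¬ x = i)), Finset.sum_const, Finset.card_sdiff_of_subset (by simp)]
    simp
  obtain ⟨k, hk⟩ := hα
  rw [h, hk, show 2 * k + 1 - 1 = 2 * k by omega, Nat.cast_mul, show ((2 : ℕ) : ZMod 2) = 0 from rfl, zero_mul]

/-- A permutation with only one nonzero displacement on the vectors with a hole is a transposition. -/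
theorem isSwap_of_displacement {σ : Perm α} (hne : σ ≠ 1) {u : α → ZMod 2}
    (hu : ∀ i, (fun x => holeVec i (σ⁻¹ x) - holeVec i x) = 0 ∨ (fun x => holeVec i (σ⁻¹ x) - holeVec i x) = u) :
    ∃ a b, a ≠ b ∧ σ = swap a b := by
  have hval : ∀ i, σ i ≠ i → u = fun x => if x = i ∨ x = σ i then 1 else 0 := by
    intro i hi
    have h1 : (fun x => holeVec i (σ⁻¹ x) - holeVec i x) = fun x => if x = i ∨ x = σ i then 1 else 0 := by
      funext x
      rw [holeVec_diff]
      by_cases h2 : x = i
      · rw [h2]; simp [Ne.symm hi]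
      · by_cases h3 : x = σ i <;> simp [h2, h3, hi]
    rcases hu i with h | h
    · exact absurd (congrFun (h1.symm.trans h) i) (by simp)
    · rw [← h, h1]
  obtain ⟨a, ha⟩ : ∃ a, σ a ≠ a := by
    by_contra hc
    push Not at hc
    exact hne (Equiv.ext hc)
  have hsup : ∀ i, σ i ≠ i → i = a ∨ i = σ a := fun i hi => by
    by_contra hc
    have := congrFun ((hval a ha).symm.trans (hval i hi)) i
    simp [hc] at this
  refine ⟨a, σ a, Ne.symm ha, Equiv.ext fun i => ?_⟩
  have hb : σ (σ a) = a := by
    have hm : σ (σ a) ≠ σ a := fun e => ha (σ.injective e)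
    have hm' : σ (σ (σ a)) ≠ σ (σ a) := fun e => hm (σ.injective e)
    rcases hsup _ hm' with e | e
    · exact e
    · exact absurd e hm
  by_cases h1 : i = a
  · rw [h1, swap_apply_left]
  by_cases h2 : i = σ a
  · rw [h2, swap_apply_right, hb]
  rw [swap_apply_of_ne_of_ne h1 h2]
  by_contra hi
  rcases hsup i hi with e | e
  · exact h1 e
  · exact h2 e

/-- Distinct commuting transpositions are disjoint. -/
theorem swaps_disjoint {a b c d : α} (hab : a ≠ b) (hcd : c ≠ d) (hne : swap a b ≠ swap c d)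
    (hc : Commute (swap a b) (swap c d)) : a ≠ c ∧ a ≠ d ∧ b ≠ c ∧ b ≠ d := by
  have key : ∀ {a b c d : α}, a ≠ b → c ≠ d → swap a b ≠ swap c d → Commute (swap a b) (swap c d) → a ≠ c := by
    intro a b c d hab hcd hne hc e
    subst e
    have h1 : swap a b (swap a d a) = swap a d (swap a b a) := congrFun (congrArg DFunLike.coe hc.eq) a
    rw [swap_apply_left, swap_apply_left] at h1
    by_cases hbd : b = d
    · exact hne (by rw [hbd])
    · rw [swap_apply_of_ne_of_ne (Ne.symm hcd) (Ne.symm hbd), swap_apply_of_ne_of_ne (Ne.symm hab) hbd] at h1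
      exact hbd h1.symm
  refine ⟨key hab hcd hne hc, key hab hcd.symm ?_ ?_, key hab.symm hcd ?_ ?_, key hab.symm hcd.symm ?_ ?_⟩
  all_goals
    simp only [swap_comm b a, swap_comm d c]
    first | exact hne | exact hc

/-- A subgroup with the point stabiliser and an element moving the point is everything. -/
theorem eq_top_of_stab {ω : α} (𝔐 : Subgroup (Perm α)) (hstab : ∀ π : Perm α, π ω = ω → π ∈ 𝔐) {τ : Perm α}
    (hτ : τ ∈ 𝔐) (hω : τ ω ≠ ω) : 𝔐 = ⊤ := by
  refine eq_top_iff.2 fun π _ => ?_
  by_cases h1 : π ω = ω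
  · exact hstab π h1
  have h2 : swap (τ ω) (π ω) ∈ 𝔐 := hstab _ (swap_apply_of_ne_of_ne (Ne.symm hω) (Ne.symm h1))
  have h3 : (swap (τ ω) (π ω) * τ)⁻¹ * π ∈ 𝔐 := hstab _ (by
    rw [Perm.mul_apply, Perm.inv_def, Equiv.symm_apply_eq, Perm.mul_apply, swap_apply_left])
  have := 𝔐.mul_mem (𝔐.mul_mem h2 hτ) h3
  rwa [mul_inv_cancel_left] at this

theorem two_factorial_inj {N M : ℕ} (hN : 4 ≤ N) (h : 2 * Nat.card ↥(alternatingGroup (Fin M)) = N.factorial) :
    M = N := by
  rcases Nat.lt_or_ge M 2 with hM | hM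
  · haveI : Subsingleton (Fin M) := by
      interval_cases M <;> infer_instance
    haveI : Subsingleton (Perm (Fin M)) := inferInstance
    rw [Nat.card_unique] at h
    have : 4 ≤ N.factorial := hN.trans (Nat.self_le_factorial N)
    omega
  · haveI : Nontrivial (Fin M) := Fin.nontrivial_iff_two_le.2 hM
    rw [two_mul_nat_card_alternatingGroup, Nat.card_perm, Nat.card_eq_fintype_card, Fintype.card_fin] at h
    exact (Nat.factorial_inj (by omega)).1 h

/-- The stabiliser of a point in the alternating group is alternating. -/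
theorem exists_stab_equiv {r : ℕ} (ω : Fin (r + 1)) :
    ∃ θ : Perm (Fin r) →* Perm (Fin (r + 1)), Function.Injective θ ∧
      ∀ σ : Perm (Fin (r + 1)), σ ∈ (alternatingGroup (Fin r)).map θ ↔ sign σ = 1 ∧ σ ω = ω := by
  classical
  let e : Fin r ≃ {x : Fin (r + 1) // x ≠ ω} := finSuccAboveEquiv ω
  refine ⟨(ofSubtype (p := fun x => x ≠ ω)).comp e.permCongrHom.toMonoidHom,
    ofSubtype_injective.comp e.permCongrHom.injective, fun σ => ⟨?_, fun hσ => ?_⟩⟩
  · rintro ⟨π, hπ, rfl⟩
    refine ⟨?_, ofSubtype_apply_of_not_mem _ (by simp)⟩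
    show sign (ofSubtype (e.permCongr π)) = 1
    rw [sign_ofSubtype, sign_permCongr]
    exact mem_alternatingGroup.1 hπ
  · have hp : ∀ x, (σ x ≠ ω) ↔ x ≠ ω := fun x => by
      rw [not_iff_not]
      exact ⟨fun e => σ.injective (e.trans hσ.2.symm), fun e => e ▸ hσ.2⟩
    have hof : ofSubtype (σ.subtypePerm hp) = σ := ofSubtype_subtypePerm (p := fun x => x ≠ ω) hp fun x (hx : σ x ≠ x) (e : x = ω) => hx (e ▸ hσ.2)
    refine ⟨e.permCongrHom.symm (σ.subtypePerm hp), ?_, ?_⟩
    · rw [SetLike.mem_coe, mem_alternatingGroup]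
      have h1 := congrArg sign hof
      rw [sign_ofSubtype, hσ.1, ← e.permCongrHom.apply_symm_apply (σ.subtypePerm hp)] at h1
      exact (sign_permCongr e _).symm.trans h1
    · show ofSubtype (e.permCongrHom (e.permCongrHom.symm _)) = σ
      rw [MulEquiv.apply_symm_apply, hof]

/-- A nontrivial kernel-free matrix involution moves at least as many vectors as there are scalars. -/
theorem card_le_displacement {F : Type*} [Field F] [Fintype F] {A : Matrix (Fin 2) (Fin 2) F} (hA : A ≠ 1)
    (S : Set (Fin 2 → F)) [Finite S] (hS : ∀ v, A.mulVec v - v ∈ S) : Fintype.card F ≤ Nat.card S := by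
  obtain ⟨v, hv⟩ : ∃ v, A.mulVec v - v ≠ 0 := by
    by_contra hc
    push Not at hc
    refine hA (Matrix.ext_of_mulVec_single fun i => ?_)
    rw [Matrix.one_mulVec]
    exact sub_eq_zero.1 (hc _)
  rw [← Nat.card_eq_fintype_card]
  refine Nat.card_le_card_of_injective (fun c : F => (⟨c • (A.mulVec v - v), by
    rw [smul_sub, ← Matrix.mulVec_smul]; exact hS _⟩ : S)) fun c d e => ?_
  exact smul_left_injective F hv (congrArg Subtype.val e)

end CfsgLib.LocalEven.PushMin
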