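import Cfsg.Agent.Lib.LocalEven.PushMin.AltMember
import Cfsg.Agent.Lib.LocalEven.PushMin.AltPerm
import Cfsg.Agent.Lib.LocalEven.PMinFF.Blocks

/-!
A class of several members of order two: the symmetric group, with each member a transposition.
-/

set_option autoImplicit false
set_option linter.unusedSectionVars false

namespace CfsgLib.LocalEven.PushMin

open Cfsg Subgroup
open CfsgLib.LocalEven.MinOffender (fx)
open CfsgLib.LocalEven.StrongFF (cm mem_cm)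
open CfsgLib.LocalEven.PMinFF (InT Link blk cls mv)
open Equiv (swap)
open Matrix (SpecialLinearGroup)

variable {G : Type*} [Group G] [Finite G]

/-- The members of the class of `D`. -/
abbrev ClsMem (T : Sylow 2 G) (D : Subgroup (G ⧸ kerV 2 G)) :=
  {B : Subgroup (G ⧸ kerV 2 G) // InT 2 (bT T) (Additive ↥(modV 2 G)) B ∧
    Link 2 (bT T) (Additive ↥(modV 2 G)) D B}

theorem blk_le_cls {T : Sylow 2 G} {D : Subgroup (G ⧸ kerV 2 G)} (B : ClsMem T D) :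
    blk 2 (bT T) (Additive ↥(modV 2 G)) B.1 ≤ cls 2 (bT T) (Additive ↥(modV 2 G)) D :=
  le_iSup (fun B : ClsMem T D => blk 2 (bT T) (Additive ↥(modV 2 G)) B.1) B

/-- The representation of a class with several members. -/
structure AltRep (T : Sylow 2 G) (D : Subgroup (G ⧸ kerV 2 G)) (n m : ℕ)
    (ρ : ↥(cls 2 (bT T) (Additive ↥(modV 2 G)) D) →* Equiv.Perm (Fin (m + 2)))
    (ψ : Additive ↥(modV 2 G) →+ (Fin (m + 2) → ZMod 2)) (pa pb : ClsMem T D → Fin (m + 2)) : Prop where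
  size : m + 2 = 2 ^ n + 1
  four : 4 ≤ m + 2
  bij : Function.Bijective ρ
  sum : ∀ v, ∑ i, ψ v i = 0
  surj : ∀ w : Fin (m + 2) → ZMod 2, ∑ i, w i = 0 → ∃ v, ψ v = w
  act : ∀ (g : ↥(cls 2 (bT T) (Additive ↥(modV 2 G)) D)) (v : Additive ↥(modV 2 G)) (i : Fin (m + 2)),
    ψ ((g : G ⧸ kerV 2 G) • v) i = ψ v ((ρ g)⁻¹ i)
  ne : ∀ B, pa B ≠ pb B
  swaps : ∀ (B : ClsMem T D) (a : ↥(cls 2 (bT T) (Additive ↥(modV 2 G)) D)), (a : G ⧸ kerV 2 G) ∈ B.1 →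
    (a : G ⧸ kerV 2 G) ≠ 1 → ρ a = swap (pa B) (pb B)
  disj : ∀ B B', B ≠ B' → pa B ≠ pa B' ∧ pa B ≠ pb B' ∧ pb B ≠ pa B' ∧ pb B ≠ pb B'

theorem exists_altRep {T : Sylow 2 G} {M : Subgroup G} (h : Hyps 2 T M) {D : Subgroup (G ⧸ kerV 2 G)}
    (hD : InT 2 (bT T) (Additive ↥(modV 2 G)) D) (h2 : Nat.card ↥D = 2)
    (hex : ∃ D₂, InT 2 (bT T) (Additive ↥(modV 2 G)) D₂ ∧ Link 2 (bT T) (Additive ↥(modV 2 G)) D D₂ ∧ D₂ ≠ D) :
    ∃ n m ρ ψ pa pb, AltRep T D n m ρ ψ pa pb := by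
  classical
  have hs := h.setting
  set C := cls 2 (bT T) (Additive ↥(modV 2 G)) D with hC
  have hcard : ∀ B : ClsMem T D, Nat.card ↥B.1 = 2 := fun B => (InT.card_eq hs hD B.2.1).trans h2
  have hBC : ∀ B : ClsMem T D, B.1 ≤ C := fun B => (InT.blk_min hs B.2.1).aLe.trans (blk_le_cls B)
  have hcm : ∀ (B : ClsMem T D) (a : G ⧸ kerV 2 G), a ∈ B.1 → a ≠ 1 →
      Nat.card ↥(cm (Additive ↥(modV 2 G)) a) = 2 :=
    fun B a ha ha1 => (InT.card_cm hs B.2.1 ha ha1).trans (hcard B)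
  choose a ha ha1 using fun B : ClsMem T D => InT.exists_ne_one hs B.2.1
  have huniq : ∀ (B : ClsMem T D) (g : G ⧸ kerV 2 G), g ∈ B.1 → g ≠ 1 → g = a B := fun B g hg hg1 => by
    obtain ⟨y, -, hy⟩ := (Nat.card_eq_two_iff' (1 : ↥B.1)).1 (hcard B)
    exact congrArg Subtype.val ((hy ⟨g, hg⟩ fun e => hg1 (congrArg Subtype.val e)).trans
      (hy ⟨a B, ha B⟩ fun e => ha1 B (congrArg Subtype.val e)).symm)
  have hcomm : ∀ B B' : ClsMem T D, B ≠ B' → ∀ g ∈ B.1, ∀ g' ∈ B'.1, Commute g g' := fun B B' hne g hg g' hg' =>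
    InT.blk_comm hs B'.2.1 B.2.1 (fun e => hne (Subtype.ext e)) g hg g' ((InT.blk_min hs B'.2.1).aLe hg')
  obtain ⟨D₂, hD₂, hl, hne⟩ := hex
  set B₁ : ClsMem T D := ⟨D, hD, Or.inl rfl⟩ with hB₁
  set B₂ : ClsMem T D := ⟨D₂, hD₂, hl⟩ with hB₂
  have hB₁₂ : B₁ ≠ B₂ := fun e => hne (congrArg Subtype.val e).symm
  obtain ⟨-, n, hn1, hcase⟩ := PMinFF.cls_block hs hD
  rcases hcase with ⟨F, iF, iFF, hF, ρ, ψ, hρ, hψs, hψk, hψ⟩ | ⟨-, ρ, ψ, hρ, hsum, hsurj, hker, hψ⟩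
  · -- the special linear alternative is impossible
    exfalso
    have hA : (ρ ⟨a B₁, hBC B₁ (ha B₁)⟩).1 ≠ 1 := fun e => ha1 B₁
      (congrArg Subtype.val (hρ.1 ((Subtype.ext e).trans (map_one ρ).symm)))
    have hcard2 : Fintype.card F ≤ 2 := by
      refine (card_le_displacement hA (ψ '' (cm (Additive ↥(modV 2 G)) (a B₁) : Set _)) fun v => ?_).trans ?_
      · obtain ⟨u, rfl⟩ := hψs v
        refine ⟨a B₁ • u - u, mem_cm.2 ⟨u, rfl⟩, ?_⟩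
        rw [map_sub, ← hψ ⟨a B₁, hBC B₁ (ha B₁)⟩ u]
      · refine le_trans ?_ (hcm B₁ _ (ha B₁) (ha1 B₁)).le
        rw [Nat.card_coe_set_eq]
        exact (Set.ncard_image_le (Set.toFinite _)).trans (Nat.card_coe_set_eq _).ge
    have hF2 : Fintype.card F = 2 := le_antisymm hcard2 Fintype.one_lt_card
    have h6 : Nat.card ↥C = 6 := by
      rw [Nat.card_congr (MulEquiv.ofBijective ρ hρ).toEquiv, CfsgLib.Classical.card_SL_two hF2]
    have hp : IsPGroup 2 ↥(B₁.1 ⊔ B₂.1 : Subgroup (G ⧸ kerV 2 G)) :=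
      B₁.2.1.1.pA.to_sup_of_normal_right' B₂.2.1.1.pA fun g hg => CfsgLib.Fusion.mem_normalizer_of_forall
        fun g' hg' => by rwa [(hcomm B₁ B₂ hB₁₂ g hg g' hg').eq, mul_inv_cancel_right]
    obtain ⟨i, hi⟩ := IsPGroup.iff_card.1 hp
    have hdvd : 2 ^ i ∣ 6 := hi ▸ h6 ▸ Subgroup.card_dvd_of_le (sup_le (hBC B₁) (hBC B₂))
    have hi1 : i ≤ 1 := by
      by_contra hlt
      have h4 : 2 ^ 2 ∣ 6 := (pow_dvd_pow 2 (by omega : 2 ≤ i)).trans hdvd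
      norm_num at h4
    have h2' : Nat.card ↥(B₁.1 ⊔ B₂.1 : Subgroup (G ⧸ kerV 2 G)) ≤ 2 := by
      rw [hi]
      exact (Nat.pow_le_pow_right (by norm_num) hi1)
    have e1 := eq_of_le_of_card_ge (le_sup_left : B₁.1 ≤ B₁.1 ⊔ B₂.1) (by rw [hcard B₁]; exact h2')
    have e2 := eq_of_le_of_card_ge (le_sup_right : B₂.1 ≤ B₁.1 ⊔ B₂.1) (by rw [hcard B₂]; exact h2')
    exact hB₁₂ (Subtype.ext (e1.trans e2.symm))
  · obtain ⟨m, hm⟩ : ∃ m, 2 ^ n + 1 = m + 2 := ⟨2 ^ n - 1, by have := Nat.one_le_two_pow (n := n); omega⟩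
    revert ρ ψ
    rw [hm]
    intro ρ ψ hρ hsum hsurj hker hψ
    have hodd : Odd (Fintype.card (Fin (m + 2))) := by
      rw [Fintype.card_fin, ← hm]
      exact (Nat.even_pow.2 ⟨even_two, by omega⟩).add_one
    have hsw : ∀ (B : ClsMem T D) (g : ↥C), (g : G ⧸ kerV 2 G) ∈ B.1 → (g : G ⧸ kerV 2 G) ≠ 1 →
        ∃ p q, p ≠ q ∧ ρ g = swap p q := by
      intro B g hg hg1
      have hne' : ρ g ≠ 1 := fun e => hg1 (congrArg Subtype.val (hρ.1 (e.trans (map_one ρ).symm)))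
      obtain ⟨y, hy0, hy⟩ := (Nat.card_eq_two_iff' (0 : ↥(cm (Additive ↥(modV 2 G)) (g : G ⧸ kerV 2 G)))).1
        (hcm B _ hg hg1)
      refine isSwap_of_displacement hne' (u := ψ y.1) fun i => ?_
      obtain ⟨v, hv⟩ := hsurj (holeVec i) (sum_holeVec hodd i)
      have he : (fun x => holeVec i ((ρ g)⁻¹ x) - holeVec i x) = ψ ((g : G ⧸ kerV 2 G) • v - v) := by
        funext x
        rw [map_sub, Pi.sub_apply, hψ, hv]
      rw [he]
      by_cases h0 : (⟨(g : G ⧸ kerV 2 G) • v - v, mem_cm.2 ⟨v, rfl⟩⟩ :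
          ↥(cm (Additive ↥(modV 2 G)) (g : G ⧸ kerV 2 G))) = 0
      · exact Or.inl (by rw [show (g : G ⧸ kerV 2 G) • v - v = 0 from congrArg Subtype.val h0, map_zero])
      · exact Or.inr (congrArg ψ (congrArg Subtype.val (hy _ h0)))
    choose pa pb hpq hρa using fun B : ClsMem T D => hsw B ⟨a B, hBC B (ha B)⟩ (ha B) (ha1 B)
    have hdisj : ∀ B B', B ≠ B' → pa B ≠ pa B' ∧ pa B ≠ pb B' ∧ pb B ≠ pa B' ∧ pb B ≠ pb B' := by
      intro B B' hne'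
      refine swaps_disjoint (hpq B) (hpq B') (fun e => hne' (Subtype.ext ?_)) ?_
      · rw [← hρa B, ← hρa B'] at e
        have e' := congrArg Subtype.val (hρ.1 e)
        refine eq_of_le_of_card_ge (fun g hg => ?_) (by rw [hcard B, hcard B'])
        by_cases hg1 : g = 1
        · rw [hg1]; exact one_mem _
        · rw [huniq B g hg hg1]
          exact (show a B = a B' from e') ▸ ha B'
      · rw [← hρa B, ← hρa B']
        exact (show Commute (⟨a B, hBC B (ha B)⟩ : ↥C) ⟨a B', hBC B' (ha B')⟩ from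
          Subtype.ext (hcomm B B' hne' _ (ha B) _ (ha B')).eq).map ρ
    refine ⟨n, m, ρ, ψ, pa, pb, hm.symm, ?_, hρ, hsum, hsurj, hψ, hpq, fun B g hg hg1 => ?_, hdisj⟩
    · obtain ⟨h1, h2', h3, h4⟩ := hdisj B₁ B₂ hB₁₂
      have h5 := hpq B₁
      have h6 := hpq B₂
      rw [Ne, Fin.ext_iff] at h1 h2' h3 h4 h5 h6
      omega
    · rw [← hρa B]
      congr 1
      exact Subtype.ext (huniq B _ hg hg1)

end CfsgLib.LocalEven.PushMin
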