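import Cfsg.Agent.Lib.LocalEven.PushMin.MemberDef
import Cfsg.Agent.Lib.LocalEven.PMinFF.Links
import Cfsg.Agent.Lib.LocalEven.BlockBaumann.Map
import Cfsg.Agent.Lib.LocalEven.SubBlock.Main
import Cfsg.Agent.Lib.LocalEven.PushUp.Coprime
import Cfsg.Agent.Lib.LocalEven.BlockBaumann.Conj
import Cfsg.Agent.S2987

/-!
Pushing up in a `p`-minimal group: from the classes to the block structure.
-/

set_option autoImplicit false
set_option linter.unusedSectionVars false

namespace CfsgLib.LocalEven.PushMin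

open Cfsg Subgroup
open CfsgLib.Fusion (conjSub mem_conjSub conj_mem_conjSub conjSub_conjSub conjSub_one conjSub_mono)
open CfsgLib.LocalEven.MinOffender (fx fx_anti)
open CfsgLib.LocalEven.PMinFF (InT Link blk cls mv)
open scoped commutatorElement

variable {G : Type*} [Group G] [Finite G] {p : ℕ} [Fact p.Prime] {T : Sylow p G} {M : Subgroup G}

theorem clsRes_le (D : Subgroup (G ⧸ kerV p G)) :
    clsRes T D ≤ (cls p (bT T) (Additive ↥(modV p G)) D).comap (pr p G) := map_subtype_le _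

theorem conjSub_comap (g : G) (Y : Subgroup (G ⧸ kerV p G)) :
    (Y.comap (pr p G)).map (MulAut.conj g).toMonoidHom = (conjSub (pr p G g) Y).comap (pr p G) := by
  ext x
  constructor
  · rintro ⟨y, hy, rfl⟩
    show pr p G (g * y * g⁻¹) ∈ conjSub (pr p G g) Y
    rw [map_mul, map_mul, map_inv]
    exact conj_mem_conjSub hy
  · intro hx
    refine ⟨g⁻¹ * x * g, ?_, by simp [mul_assoc]⟩
    show pr p G (g⁻¹ * x * g) ∈ Y
    rw [map_mul, map_mul, map_inv]
    exact mem_conjSub.1 hx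

theorem clsRes_normalized (D : Subgroup (G ⧸ kerV p G)) :
    (cls p (bT T) (Additive ↥(modV p G)) D).comap (pr p G) ≤ normalizer (clsRes T D : Set G) := by
  set X := (cls p (bT T) (Additive ↥(modV p G)) D).comap (pr p G)
  haveI := CfsgLib.Transfer.pResidual_characteristic (G := ↥X) (p := p)
  exact Subgroup.le_normalizer.trans
    (CfsgLib.OddLocal.normalizer_le_normalizer_map_characteristic (pResidual p ↥X))

variable (h : Hyps p T M)
include h

/-- The groups of two different classes commute. -/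
theorem cls_comm {B C : Subgroup (G ⧸ kerV p G)} (hB : InT p (bT T) (Additive ↥(modV p G)) B)
    (hC : InT p (bT T) (Additive ↥(modV p G)) C)
    (hne : cls p (bT T) (Additive ↥(modV p G)) B ≠ cls p (bT T) (Additive ↥(modV p G)) C) :
    ∀ g ∈ cls p (bT T) (Additive ↥(modV p G)) B, ∀ l ∈ cls p (bT T) (Additive ↥(modV p G)) C,
      g * l = l * g := by
  intro g hg l hl
  have hs := h.setting
  have h1 := PMinFF.cls_orth hs hB hC hne
  have h2 := PMinFF.cls_orth hs hC hB (Ne.symm hne)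
  refine inv_mul_eq_one.1 (hs.faithful _ fun m => ?_)
  rw [mul_smul, inv_smul_eq_iff, mul_smul, mul_smul]
  obtain ⟨x, hx, d, hd, rfl⟩ := AddSubgroup.mem_sup.1 ((PMinFF.cls_block hs hB).1 ▸ AddSubgroup.mem_top m)
  obtain ⟨y, hy, d', hd', rfl⟩ := AddSubgroup.mem_sup.1 ((PMinFF.cls_block hs hC).1 ▸ AddSubgroup.mem_top d)
  have hd'i : d' ∈ fx (Additive ↥(modV p G)) (cls p (bT T) (Additive ↥(modV p G)) B) := by
    rw [show d' = y + d' - y by abel]; exact sub_mem hd (h2 hy)
  simp only [smul_add]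
  rw [h1 hx l hl, h1 (PMinFF.smul_mem_mv (Subgroup.le_normalizer hg) hx) l hl,
    h2 (PMinFF.smul_mem_mv (Subgroup.le_normalizer hl) hy) g hg, h2 hy g hg,
    hd' l hl, hd'i g hg, hd' l hl]

theorem mem_cls_self {D : Subgroup (G ⧸ kerV p G)} (hD : InT p (bT T) (Additive ↥(modV p G)) D) :
    blk p (bT T) (Additive ↥(modV p G)) D ≤ cls p (bT T) (Additive ↥(modV p G)) D :=
  le_iSup (fun F : {F : Subgroup (G ⧸ kerV p G) // InT p (bT T) (Additive ↥(modV p G)) F ∧
    Link p (bT T) (Additive ↥(modV p G)) D F} => blk p (bT T) (Additive ↥(modV p G)) F.1) ⟨D, hD, Or.inl rfl⟩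

/-- The join of all overgroups of members is normal. -/
theorem allBlk_normal :
    (⨆ D : {D : Subgroup (G ⧸ kerV p G) // InT p (bT T) (Additive ↥(modV p G)) D},
      blk p (bT T) (Additive ↥(modV p G)) D.1).Normal := by
  set A := ⨆ D : {D : Subgroup (G ⧸ kerV p G) // InT p (bT T) (Additive ↥(modV p G)) D},
    blk p (bT T) (Additive ↥(modV p G)) D.1
  have hs := h.setting
  refine Subgroup.normalizer_eq_top_iff.1 (by_contra fun hne => ?_)
  have hT : ((bT T : Sylow p (G ⧸ kerV p G)) : Subgroup (G ⧸ kerV p G)) ≤ normalizer (A : Set (G ⧸ kerV p G)) :=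
    fun t ht => CfsgLib.LocalEven.mem_normalizer_of_conj_le (by
      rw [Subgroup.map_iSup]
      exact iSup_le fun D => (PMinFF.blk_conj hs ht).ge.trans (le_iSup
        (fun D : {D : Subgroup (G ⧸ kerV p G) // InT p (bT T) (Additive ↥(modV p G)) D} =>
          blk p (bT T) (Additive ↥(modV p G)) D.1) ⟨_, InT.conj hs D.2 ht⟩))
  obtain ⟨B, hB, -⟩ := h.exists_inT
  refine (InT.blk_min hs hB).notLe (le_trans ?_ (hs.uniq _ hT hne))
  exact (le_iSup (fun D : {D : Subgroup (G ⧸ kerV p G) // InT p (bT T) (Additive ↥(modV p G)) D} =>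
          blk p (bT T) (Additive ↥(modV p G)) D.1) ⟨B, hB⟩).trans Subgroup.le_normalizer

theorem clsRes_subnormal {D : Subgroup (G ⧸ kerV p G)} (hD : InT p (bT T) (Additive ↥(modV p G)) D) :
    (clsRes T D).IsSubnormal := by
  have hs := h.setting
  set A := ⨆ D : {D : Subgroup (G ⧸ kerV p G) // InT p (bT T) (Additive ↥(modV p G)) D},
    blk p (bT T) (Additive ↥(modV p G)) D.1
  haveI := allBlk_normal h
  set K := cls p (bT T) (Additive ↥(modV p G)) D
  have hKA : K ≤ A := iSup_le fun F => le_iSup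
    (fun D : {D : Subgroup (G ⧸ kerV p G) // InT p (bT T) (Additive ↥(modV p G)) D} =>
      blk p (bT T) (Additive ↥(modV p G)) D.1) ⟨F.1, F.2.1⟩
  have hAK : A ≤ normalizer (K : Set (G ⧸ kerV p G)) := iSup_le fun F => by
    by_cases e : cls p (bT T) (Additive ↥(modV p G)) F.1 = K
    · exact (mem_cls_self h F.2).trans (e.le.trans Subgroup.le_normalizer)
    · refine fun g hg => CfsgLib.Fusion.mem_normalizer_of_forall fun k hk => ?_
      rw [cls_comm h F.2 hD e g (mem_cls_self h F.2 hg) k hk, mul_inv_cancel_right]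
      exact hk
  have hA : (A.comap (pr p G)).IsSubnormal := Normal.isSubnormal (Normal.comap (allBlk_normal h) (pr p G))
  have hK : (K.comap (pr p G)).IsSubnormal := by
    refine IsSubnormal.step _ (A.comap (pr p G)) (comap_mono hKA) hA
      ((normal_subgroupOf_iff_le_normalizer (comap_mono hKA)).2 ?_)
    exact (comap_mono hAK).trans (le_normalizer_comap _)
  exact IsSubnormal.step _ _ (clsRes_le D) hK
    ((normal_subgroupOf_iff_le_normalizer (clsRes_le D)).2 (clsRes_normalized D))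

theorem clsRes_conj {D : Subgroup (G ⧸ kerV p G)} {t : G} (ht : t ∈ (T : Subgroup G)) :
    (clsRes T D).map (MulAut.conj t).toMonoidHom = clsRes T (conjSub (pr p G t) D) := by
  have h1 := BlockBaumann.map_pResidualOf (p := p) (MulAut.conj t)
    ((cls p (bT T) (Additive ↥(modV p G)) D).comap (pr p G))
  rw [clsRes, clsRes, h1, conjSub_comap, PMinFF.cls_conj h.setting ((coe_bT T).ge ⟨t, ht, rfl⟩)]

/-- The block structure from the classes. -/
theorem structure_of_members (hMB : ∀ D, InT p (bT T) (Additive ↥(modV p G)) D → MemberBlock T M D) :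
    ∃ 𝓑 : Set (Subgroup G), HasBaumannBlockStructure p (T : Subgroup G) 𝓑 ∧
      (∀ E ∈ 𝓑, ∀ m : ℕ, Nonempty (↥E ⧸ pCore p ↥E ≃* ↥(alternatingGroup (Fin (2 * m + 1)))) →
        ∃ n : ℕ, 2 * m + 1 = 2 ^ n + 1) ∧
      cStarOf p (T : Subgroup G) = (cStarOf p (T : Subgroup G) ⊓ sSup 𝓑) ⊔ (T : Subgroup G) := by
  classical
  have hs := h.setting
  set 𝓑 : Set (Subgroup G) := {E | ∃ D, InT p (bT T) (Additive ↥(modV p G)) D ∧ E = clsRes T D} with h𝓑
  set L := sSup 𝓑 with hLdef
  set CS := cStarOf p (T : Subgroup G) with hCS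
  have hblk : ∀ E ∈ 𝓑, IsBaumannBlock p (T : Subgroup G) E ∧ E.IsSubnormal := by
    rintro E ⟨D, hD, rfl⟩
    exact ⟨(hMB D hD).block, clsRes_subnormal h hD⟩
  have hcomm : ∀ E ∈ 𝓑, ∀ E' ∈ 𝓑, E ≠ E' → ⁅E, E'⁆ = ⊥ := fun E hE E' hE' hne =>
    (SubBlock.blocks_eq_or_commute h.cE (hblk E hE).1 (hblk E hE).2 (hblk E' hE').1 (hblk E' hE').2).resolve_left hne
  have hconjT : ∀ E ∈ 𝓑, ∀ t ∈ (T : Subgroup G), E.map (MulAut.conj t).toMonoidHom ∈ 𝓑 := by
    rintro E ⟨D, hD, rfl⟩ t ht
    exact ⟨_, InT.conj hs hD ((coe_bT T).ge ⟨t, ht, rfl⟩), clsRes_conj h ht⟩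
  have hLN : ∀ E ∈ 𝓑, L ≤ normalizer (E : Set G) := fun E hE => sSup_le fun E' hE' => by
    by_cases e : E' = E
    · exact e ▸ Subgroup.le_normalizer
    · intro g hg
      refine CfsgLib.Fusion.mem_normalizer_of_forall fun x hx => ?_
      rw [commutatorElement_eq_one_iff_mul_comm.1
        (mem_bot.1 ((hcomm E' hE' E hE e).le (commutator_mem_commutator hg hx))), mul_inv_cancel_right]
      exact hx
  obtain ⟨D₀, hD₀, -⟩ := h.exists_inT
  have hE₀ : clsRes T D₀ ∈ 𝓑 := ⟨D₀, hD₀, rfl⟩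
  have hLM : ¬ L ≤ M := fun hle => (hMB D₀ hD₀).notLe ((le_sSup hE₀).trans hle)
  have hTLn : (T : Subgroup G) ≤ normalizer (L : Set G) := fun t ht =>
    CfsgLib.LocalEven.mem_normalizer_of_conj_le (by
      rw [hLdef, map_le_iff_le_comap]
      exact sSup_le fun E hE => map_le_iff_le_comap.1 (le_sSup (hconjT E hE t ht)))
  have hLT : L ⊔ (T : Subgroup G) = ⊤ :=
    by_contra fun hne => hLM (le_sup_left.trans (h.uniq _ le_sup_right hne))
  haveI hLn : L.Normal := Subgroup.normalizer_eq_top_iff.1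
    (top_le_iff.1 (hLT.ge.trans (sup_le Subgroup.le_normalizer hTLn)))
  have hdecomp : ∀ g : G, ∃ l ∈ L, ∃ t ∈ (T : Subgroup G), g = l * t := fun g => by
    have h1 : g ∈ L ⊔ (T : Subgroup G) := hLT ▸ mem_top g
    rw [← SetLike.mem_coe, normal_mul] at h1
    obtain ⟨l, hl, t, ht, e⟩ := h1
    exact ⟨l, hl, t, ht, e.symm⟩
  have hconj : ∀ E ∈ 𝓑, ∀ g : G, E.map (MulAut.conj g).toMonoidHom ∈ 𝓑 := by
    intro E hE g
    obtain ⟨l, hl, t, ht, rfl⟩ := hdecomp g
    have e : E.map (MulAut.conj (l * t)).toMonoidHom =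
        (E.map (MulAut.conj t).toMonoidHom).map (MulAut.conj l).toMonoidHom := by
      rw [Subgroup.map_map]
      congr 1
      ext x
      simp [mul_assoc]
    have e2 : (E.map (MulAut.conj t).toMonoidHom).map (MulAut.conj l).toMonoidHom =
        E.map (MulAut.conj t).toMonoidHom :=
      mem_normalizer_iff_map_conj_eq.1 (hLN _ (hconjT E hE t ht) hl)
    rw [e, e2]
    exact hconjT E hE t ht
  have hTC : (T : Subgroup G) ≤ CS := (sylow_le_centralizer_omega T).trans le_sup_left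
  have hLres : ∀ g : G, (orderOf g).Coprime p → g ∈ L := by
    intro g hg
    have hq : IsPGroup p (G ⧸ L) := by
      refine (T.2.map (QuotientGroup.mk' L)).of_equiv ((MulEquiv.subgroupCongr ?_).trans topEquiv)
      rw [← Subgroup.map_top_of_surjective (QuotientGroup.mk' L) (QuotientGroup.mk'_surjective L), ← hLT,
        Subgroup.map_sup, QuotientGroup.map_mk'_self, bot_sup_eq]
    exact CfsgLib.Transfer.pResidual_le hq (CfsgLib.Transfer.mem_pResidual_of_coprime hg)
  -- blocks outside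
  have hout : ∀ F : Subgroup G, IsBaumannBlock p (T : Subgroup G) F → ¬ F ≤ CS → ∃ E ∈ 𝓑, F ≤ E := by
    intro F hF hFC
    by_contra hne
    push Not at hne
    have hFcomm : F ≤ centralizer (L : Set G) := by
      rw [Subgroup.le_centralizer_iff]
      refine sSup_le fun E hE => ?_
      have h1 := ((Cfsg.Agent.S2987.result h.cE E ⟨T, (hblk E hE).1⟩ (hblk E hE).2).2.2.2 F ⟨T, hF⟩).resolve_left
        (hne E hE)
      rw [commutator_eq_bot_iff_le_centralizer] at h1
      exact Subgroup.le_centralizer_iff.1 h1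
    have hFL : F ≤ L := by
      rw [← hF.1]
      exact Baumann.pResidualOf_le_iff.2 fun x _ hc => hLres x hc
    haveI hQn : (pCore p G).Normal := by
      haveI := CfsgLib.Cores.pCore_characteristic (G := G) p
      infer_instance
    have hN : ∀ x ∈ L ⊓ centralizer (L : Set G), (orderOf x).Coprime p → x = 1 := by
      intro x hx hxo
      have h1 : ∀ u ∈ pCore p G, ⁅x, u⁆ ∈ (L ⊓ centralizer (L : Set G)) ⊓ pCore p G := fun u hu => by
        haveI : (L ⊓ centralizer (L : Set G)).Normal := inferInstance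
        exact ⟨commutator_le_left _ (⊤ : Subgroup G) (commutator_mem_commutator hx (mem_top u)),
          commutator_le_right ⊤ (pCore p G) (commutator_mem_commutator (mem_top x) hu)⟩
      have h2 := PushUp.commute_of_step (CfsgLib.Cores.isPGroup_pCore p) inf_le_right hxo h1
        fun v hv => (mem_centralizer_iff.1 hx.2 v hv.1.1).symm
      have hxQ : x ∈ pCore p G := h.cE (mem_centralizer_iff.2 fun u hu => (h2 u hu).symm)
      exact congrArg Subtype.val (CfsgLib.Transfer.eq_one_of_coprime_of_isPGroup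
        (CfsgLib.Cores.isPGroup_pCore (G := G) p) (a := (⟨x, hxQ⟩ : ↥(pCore p G))) (by rwa [Subgroup.orderOf_mk]))
    have hbot : F = ⊥ := by
      rw [eq_bot_iff, ← hF.1]
      exact Baumann.pResidualOf_le_iff.2 fun x hx hc => mem_bot.2 (hN x ⟨hFL hx, hFcomm hx⟩ hc)
    exact hFC (hbot ▸ bot_le)
  -- decomposition of `M ∩ L`
  have hctrl : ∀ E ∈ 𝓑, ∀ e ∈ E, ∀ g ∈ sSup (𝓑 \ {E}), e * g ∈ M → e ∈ M := by
    rintro E ⟨D, hD, rfl⟩ e he g hg heg
    refine (hMB D hD).ctrl e he fun D' hD' hl => ?_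
    have hg' : ∀ d ∈ D', pr p G g * d = d * pr p G g := by
      have hle : sSup (𝓑 \ {clsRes T D}) ≤ (centralizer (D' : Set (G ⧸ kerV p G))).comap (pr p G) := by
        refine sSup_le ?_
        rintro _ ⟨⟨C, hC, rfl⟩, hne⟩ x hx
        have hne' : cls p (bT T) (Additive ↥(modV p G)) C ≠ cls p (bT T) (Additive ↥(modV p G)) D' := by
          intro e'
          refine hne ?_
          rw [Set.mem_singleton_iff, clsRes, clsRes, e', ← PMinFF.cls_eq hs hD hD' hl]
        refine mem_centralizer_iff.2 fun d hd => ?_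
        exact (cls_comm h hC hD' hne' _ (clsRes_le C hx) d
          (mem_cls_self h hD' ((InT.blk_min hs hD').aLe hd))).symm
      exact fun d hd => (mem_centralizer_iff.1 (hle hg) d hd).symm
    rintro _ ⟨d, hd, rfl⟩
    show pr p G e * d * (pr p G e)⁻¹ ∈ _
    rw [show pr p G e * d * (pr p G e)⁻¹ = pr p G (e * g) * d * (pr p G (e * g))⁻¹ by
      rw [map_mul, mul_inv_rev]
      calc pr p G e * d * (pr p G e)⁻¹ = pr p G e * (d * (pr p G g * (pr p G g)⁻¹)) * (pr p G e)⁻¹ := by group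
        _ = pr p G e * (pr p G g * d * (pr p G g)⁻¹) * (pr p G e)⁻¹ := by rw [hg' d hd]; group
        _ = _ := by group]
    exact mul_mem (mul_mem (mem_map_of_mem _ heg) (hD'.2.trans hs.sylLe hd)) (inv_mem (mem_map_of_mem _ heg))
  have hML : M ⊓ L ≤ ⨆ E ∈ 𝓑, (CS ⊓ E) := by
    haveI := Fintype.ofFinite (Subgroup G)
    have key : ∀ S : Finset (Subgroup G), ↑S ⊆ 𝓑 → ∀ x ∈ sSup (↑S : Set (Subgroup G)),
        ∀ g ∈ sSup (𝓑 \ ↑S), x * g ∈ M → x ∈ ⨆ E ∈ 𝓑, (CS ⊓ E) := by
      intro S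
      induction S using Finset.induction_on with
      | empty =>
        intro _ x hx g _ _
        rw [Finset.coe_empty, sSup_empty, mem_bot] at hx
        rw [hx]; exact one_mem _
      | insert k S hk ih =>
        intro hS x hx g hg hxg
        rw [Finset.coe_insert] at hS hx hg
        have hk𝓑 : k ∈ 𝓑 := hS (Set.mem_insert k _)
        have hS' : ↑S ⊆ 𝓑 := (Set.subset_insert _ _).trans hS
        rw [sSup_insert] at hx
        have hn : sSup (↑S : Set (Subgroup G)) ≤ normalizer (k : Set G) :=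
          (sSup_le_sSup hS').trans (hLN k hk𝓑)
        rw [← SetLike.mem_coe, Subgroup.coe_mul_of_right_le_normalizer_left k _ hn] at hx
        obtain ⟨e, he, y, hy, rfl⟩ := hx
        have hsub : 𝓑 \ insert k (↑S : Set (Subgroup G)) ⊆ 𝓑 \ {k} := fun E hE =>
          ⟨hE.1, fun e' => hE.2 (Set.mem_insert_iff.2 (Or.inl e'))⟩
        have hye : y * g ∈ sSup (𝓑 \ {k}) := mul_mem
          (sSup_le_sSup (fun E (hE : E ∈ (↑S : Set (Subgroup G))) => show E ∈ 𝓑 \ {k} from ⟨hS' hE, fun e' => hk (Finset.mem_coe.1 (Set.mem_singleton_iff.1 e' ▸ hE))⟩) hy)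
          (sSup_le_sSup hsub hg)
        have heM : e ∈ M := hctrl k hk𝓑 e he (y * g) hye (by rwa [← mul_assoc])
        have h1 : y * g ∈ M := by
          have := mul_mem (inv_mem heM) hxg
          simpa [mul_assoc] using this
        refine mul_mem ?_ (ih hS' y hy g (sSup_le_sSup (fun E hE => show E ∈ 𝓑 \ (↑S : Set (Subgroup G)) from
          ⟨hE.1, fun h' => hE.2 (Set.mem_insert_of_mem _ h')⟩) hg) h1)
        obtain ⟨D, hD, rfl⟩ := hk𝓑
        exact le_iSup₂_of_le (f := fun E (_ : E ∈ 𝓑) => CS ⊓ E) (clsRes T D) ⟨D, hD, rfl⟩ le_rfl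
          (show e ∈ CS ⊓ clsRes T D from ⟨(hMB D hD).inM ⟨heM, he⟩, he⟩)
    rintro x ⟨hxM, hxL⟩
    refine key 𝓑.toFinite.toFinset (Set.Finite.coe_toFinset _).le x (by simpa using hxL) 1 (one_mem _) (by simpa using hxM)
  have hCL : CS ⊓ L = ⨆ E ∈ 𝓑, (CS ⊓ E) :=
    le_antisymm ((inf_le_inf_right _ h.cs).trans hML)
      (iSup₂_le fun E hE => inf_le_inf_left _ (le_sSup hE))
  refine ⟨𝓑, ⟨fun E hE => (hblk E hE).1, hconj, hcomm, ?_, fun F hF hFC => hout F hF hFC, hCL, ?_⟩, ?_, ?_⟩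
  · exact top_le_iff.1 (hLT.ge.trans (sup_le le_sup_right (hTC.trans le_sup_left)))
  · rintro E ⟨D, hD, rfl⟩
    have e : CS ⊓ clsRes T D = M ⊓ clsRes T D :=
      le_antisymm (inf_le_inf_right _ h.cs) (le_inf (hMB D hD).inM inf_le_right)
    rw [e]
    exact (hMB D hD).shape
  · rintro E ⟨D, hD, rfl⟩
    exact (hMB D hD).degree
  · refine le_antisymm (fun g hg => ?_) (sup_le inf_le_left hTC)
    obtain ⟨l, hl, t, ht, rfl⟩ := hdecomp g
    have hlM : l ∈ M := by
      have := mul_mem (h.cs hg) (inv_mem (h.sylLe ht))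
      rwa [mul_inv_cancel_right] at this
    exact mul_mem (mem_sup_left (hCL.ge (hML ⟨hlM, hl⟩))) (mem_sup_right ht)

end CfsgLib.LocalEven.PushMin
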