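import Cfsg.Agent.Lib.LocalEven.PushUp.Case1
import Cfsg.Agent.Lib.LocalEven.ActKernel
import Cfsg.Agent.Lib.LocalEven.Kieler
import Cfsg.Agent.Lib.Transfer.Abelian
import Cfsg.Agent.Lib.LocalEven.RankOne.Final
import Cfsg.Agent.Lib.Classical.SL2Sylow
import Cfsg.Prelude.Def_BaumannBlocks

/-!
The residual of a group in the pushing-up situation with critical length one is a linear block.
-/

set_option autoImplicit false

namespace CfsgLib.LocalEven.PushMin

open Cfsg Subgroup
open CfsgLib.LocalEven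
open CfsgLib.LocalEven.RankOne
open CfsgLib.LocalEven.PushUp
open Matrix (SpecialLinearGroup)
open scoped commutatorElement

variable {G : Type*} [Group G] [Finite G] {p n : ℕ} [hp : Fact p.Prime]
variable {S : Sylow p G} {K : Subgroup G} [K.Normal]

/-- The shape of a linear block. -/
structure LinBlock (p : ℕ) (F : Type) [Field F] (E : Subgroup G) : Prop where
  core : ⁅pCoreOf p E, E⁆ = pCoreOf p E
  quot : Nonempty (↥E ⧸ pCore p ↥E ≃* ↥(commutator (SpecialLinearGroup (Fin 2) F)))
  acts : ActsAsSL2OnSection F (commutator (SpecialLinearGroup (Fin 2) F)) E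
    (omegaOneCenter p (pCoreOf p E)) (omegaOneCenter p (pCoreOf p E) ⊓ centralizer (E : Set G))
  eq : pCoreOf p E = omegaOneCenter p (pCoreOf p E)

theorem cop_eq_pResidual : cop p G = pResidual p G := by
  refine le_antisymm ((closure_le _).2 fun g hg => CfsgLib.Transfer.mem_pResidual_of_coprime
    (hp.out.coprime_iff_not_dvd.2 hg).symm) ((closure_le _).2 fun g hg => mem_cop ?_)
  exact hp.out.coprime_iff_not_dvd.1 (Nat.Coprime.symm hg)

omit [Finite G] in
theorem pResidualOf_pResidual : pResidualOf p (pResidual p G) = pResidual p G := by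
  refine le_antisymm (map_subtype_le _) ((closure_le _).2 fun g hg => ?_)
  refine ⟨⟨g, subset_closure hg⟩, CfsgLib.Transfer.mem_pResidual_of_coprime ?_, rfl⟩
  exact (Subgroup.orderOf_mk g (subset_closure hg)).symm ▸ hg

/-- The residual is generated by its commutators with the Sylow subgroup. -/
theorem residual_comm (h : Hyp n S K) :
    ⁅pResidual p G, (S : Subgroup G)⁆ = pResidual p G := by
  haveI : (pResidual p G).Normal := inferInstance
  set E := pResidual p G with hE
  have hES : E ⊔ (S : Subgroup G) = ⊤ := CfsgLib.Transfer.pResidual_sup_sylow S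
  set N := ⁅E, (S : Subgroup G)⁆ with hN
  have hNE : N ≤ E := commutator_le_left E (S : Subgroup G)
  haveI hNn : N.Normal := by
    refine Subgroup.normalizer_eq_top_iff.1 (top_le_iff.1 (hES.ge.trans (sup_le ?_ ?_)))
    · exact CfsgLib.Solvable.le_normalizer_commutator_left E _
    · rw [hN, commutator_comm]
      exact CfsgLib.Solvable.le_normalizer_commutator_left _ _
  have hNK : ¬ N ≤ K := by
    intro hle
    haveI hSK : ((S : Subgroup G) ⊔ K).Normal := by
      refine Subgroup.normalizer_eq_top_iff.1 (top_le_iff.1 (hES.ge.trans (sup_le (fun e he => ?_)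
        (le_sup_left.trans le_normalizer))))
      refine mem_normalizer_of_conj_le ?_
      rw [Subgroup.map_sup]
      refine sup_le ?_ ?_
      · rintro _ ⟨s, hs, rfl⟩
        show e * s * e⁻¹ ∈ _
        rw [show e * s * e⁻¹ = ⁅e, s⁆ * s by simp only [commutatorElement_def]; group]
        exact mul_mem (mem_sup_right (hle (commutator_mem_commutator he hs))) (mem_sup_left hs)
      · rintro _ ⟨k, hk, rfl⟩
        exact mem_sup_right ((inferInstance : K.Normal).conj_mem k hk e)
    have htop := h.gen hSK fun hle' => not_le_pCore h (le_sup_left.trans hle')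
    rw [sup_assoc, sup_comm K, ← sup_assoc, sup_idem] at htop
    refine not_cop_le h ?_
    rw [cop_eq_pResidual]
    refine CfsgLib.Transfer.pResidual_le ?_
    refine (S.2.map (QuotientGroup.mk' K)).of_equiv ((MulEquiv.subgroupCongr ?_).trans topEquiv)
    exact map_mk_eq_top.2 htop
  have htop := h.gen hNn hNK
  refine le_antisymm hNE (CfsgLib.Transfer.pResidual_le ?_)
  refine (S.2.map (QuotientGroup.mk' N)).of_equiv ((MulEquiv.subgroupCongr ?_).trans topEquiv)
  rw [← Subgroup.map_top_of_surjective (QuotientGroup.mk' N) (QuotientGroup.mk'_surjective N), ← htop,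
    Subgroup.map_sup, QuotientGroup.map_mk'_self, bot_sup_eq]

/-- A central `p`-subgroup of a group equal to its residual with abelian Sylow subgroups is trivial. -/
theorem center_inf_sylow_eq_bot (P : Sylow p G) (hP : IsMulCommutative ↥(P : Subgroup G))
    (hres : pResidual p G = ⊤) : (P : Subgroup G) ⊓ center G = ⊥ := by
  rw [eq_bot_iff]
  rintro z ⟨hzP, hzc⟩
  have hz' : z ∈ commutator G := by
    let U : Subgroup G :=
      { carrier := {g | (orderOf (Abelianization.of g)).Coprime p}
        one_mem' := by simp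
        mul_mem' := fun {a b} ha hb => by
          show (orderOf (Abelianization.of (a * b))).Coprime p
          rw [map_mul]
          exact Nat.Coprime.coprime_dvd_left (Commute.orderOf_mul_dvd_mul_orderOf (Commute.all _ _))
            (Nat.Coprime.mul_left ha hb)
        inv_mem' := fun {a} ha => by
          show (orderOf (Abelianization.of a⁻¹)).Coprime p
          rw [map_inv, orderOf_inv]
          exact ha }
    have hU : pResidual p G ≤ U := (closure_le _).2 fun g hg =>
      Nat.Coprime.coprime_dvd_left (orderOf_map_dvd Abelianization.of g) hg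
    have h1 : (orderOf (Abelianization.of z)).Coprime p := hU (hres ▸ mem_top z)
    obtain ⟨k, hk⟩ := IsPGroup.iff_orderOf.1 P.2 ⟨z, hzP⟩
    rw [Subgroup.orderOf_mk] at hk
    have h2 : Abelianization.of z = 1 := orderOf_eq_one_iff.1
      (Nat.eq_one_of_dvd_coprimes (h1.pow_right k) dvd_rfl (hk ▸ orderOf_map_dvd Abelianization.of z))
    rwa [← MonoidHom.mem_ker, Abelianization.ker_of] at h2
  exact (CfsgLib.Transfer.inf_commutator_inf_center (P : Subgroup G) hP P.card_coprime_index).le ⟨⟨hzP, hz'⟩, hzc⟩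

/-- The residual in critical length one. -/
theorem linBlock_of_case1 {A B : Subgroup G} (c : Case1 S A B) (m : MemHyp n S K) (F : Type) [Field F]
    [Fintype F] (hF : Fintype.card F = p ^ n) : LinBlock p F (pResidual p G) := by
  classical
  have f := m.facts F hF
  have h := m.hyp
  set E := pResidual p G with hE
  set Q := pCore p G with hQ
  set V := vS S with hV
  set Z₀ := vS S ⊓ center G with hZ₀
  haveI : Z₀.Normal := normal_of_le_center inf_le_right
  haveI hQn : Q.Normal := by
    haveI := CfsgLib.Cores.pCore_characteristic (G := G) p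
    infer_instance
  have hQS : Q ≤ (S : Subgroup G) := CfsgLib.Cores.pCore_le_sylow S
  have hVQ : V ≤ Q := h.vS_le.trans inf_le_left
  have hVp : IsPGroup p ↥V := h.vS_isPGroup
  have hVc : ∀ v ∈ V, ∀ q ∈ Q, Commute q v := fun v hv q hq => h.vS_comm hv hq
  have hES : E ⊔ (S : Subgroup G) = ⊤ := CfsgLib.Transfer.pResidual_sup_sylow S
  set W := ⁅V, E⁆ with hW
  haveI hWn : W.Normal := commutator_normal V E
  have hWV : W ≤ V := commutator_le_left V E
  have hWE : W ≤ E := commutator_le_right V E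
  have hW0 : ¬ W ≤ Z₀ := by
    intro hle
    have hq : 1 < Z₀.relIndex (fixMod (S : Subgroup G) V Z₀) := by
      rw [f.sec.index_bot]
      exact Nat.one_lt_pow (Nat.one_le_iff_ne_zero.1 h.pos) hp.out.one_lt
    obtain ⟨u, hu, hu0⟩ := SetLike.not_le_iff_exists.1 fun hle' => hq.ne' (relIndex_eq_one.2 hle')
    refine hu0 (f.hypS.nofix u hu.1 fun g => ?_)
    let U : Subgroup G :=
      { carrier := {g | ⁅g, u⁆ ∈ Z₀}
        one_mem' := by show ⁅(1 : G), u⁆ ∈ Z₀; rw [commutatorElement_one_left]; exact one_mem _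
        mul_mem' := fun {a b} ha hb => by
          show ⁅a * b, u⁆ ∈ Z₀
          rw [show ⁅a * b, u⁆ = a * ⁅b, u⁆ * a⁻¹ * ⁅a, u⁆ by simp only [commutatorElement_def]; group]
          exact mul_mem ((inferInstance : Z₀.Normal).conj_mem _ hb a) ha
        inv_mem' := fun {a} ha => by
          show ⁅a⁻¹, u⁆ ∈ Z₀
          rw [show ⁅a⁻¹, u⁆ = a⁻¹ * ⁅a, u⁆⁻¹ * a⁻¹⁻¹ by simp only [commutatorElement_def]; group]
          exact (inferInstance : Z₀.Normal).conj_mem _ (inv_mem ha) a⁻¹ }
    have hU : E ⊔ (S : Subgroup G) ≤ U := sup_le (fun e he => by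
      show ⁅e, u⁆ ∈ Z₀
      rw [← commutatorElement_inv]
      exact inv_mem (hle (commutator_mem_commutator hu.1 he))) fun s hs => hu.2 s hs
    exact hU (hES ▸ mem_top g)
  have hVW : V ≤ W ⊔ Z₀ :=
    f.sec.irred f.hypS le_sup_right (sup_le hWV inf_le_left) fun hle => hW0 (le_sup_left.trans hle)
  have hVdec : ∀ v ∈ V, ∃ w ∈ W, ∃ z ∈ Z₀, v = w * z := fun v hv => by
    have := hVW hv
    rw [← SetLike.mem_coe, normal_mul] at this
    obtain ⟨w, hw, z, hz, e⟩ := this
    exact ⟨w, hw, z, hz, e.symm⟩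
  -- modulo `W`
  set π := QuotientGroup.mk' W with hπ
  have hmk : ∀ {y}, π y = 1 ↔ y ∈ W := QuotientGroup.eq_one_iff _
  have hcomm1 : ∀ {x y : G}, ⁅x, y⁆ ∈ W → Commute (π x) (π y) := fun {x y} hxy => by
    have := hmk.2 hxy
    rwa [map_commutatorElement, commutatorElement_eq_one_iff_mul_comm] at this
  have hVmod : ∀ x : G, ∀ v ∈ V, Commute (π x) (π v) := fun x v hv => by
    obtain ⟨w, hw, z, hz, rfl⟩ := hVdec v hv
    rw [map_mul, hmk.2 hw, one_mul]
    exact (show Commute x z from (mem_center_iff.1 hz.2 x)).map π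
  have hEQ : ∀ e ∈ E, ∀ q ∈ Q, Commute (π e) (π q) := by
    have hle : E ≤ (centralizer (Q.map π : Set (G ⧸ W))).comap π := (closure_le _).2 fun y hy => by
      refine mem_centralizer_iff.2 ?_
      rintro _ ⟨q, hq, rfl⟩
      have hy' : (orderOf (π y)).Coprime p := Nat.Coprime.coprime_dvd_left (orderOf_map_dvd π y) hy
      refine (commute_of_step (N := Q.map π) (V := V.map π) ((CfsgLib.Cores.isPGroup_pCore p).map π)
        (map_mono hVQ) hy' ?_ ?_ (π q) (mem_map_of_mem π hq)).symm
      · rintro _ ⟨u, hu, rfl⟩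
        rw [← map_commutatorElement]
        exact mem_map_of_mem π (c.cop_trivial m f (cop_mem_of_coprime hy) u hu)
      · rintro _ ⟨v, hv, rfl⟩
        exact (hVmod y v hv).eq
    exact fun e he q hq => (mem_centralizer_iff.1 (hle he) _ (mem_map_of_mem π hq)).symm
  -- the Sylow subgroup of the residual
  obtain ⟨P, hP⟩ := exists_sylow_eq_subgroupOf (L := E) S rfl
  have hPab : ∀ x ∈ (S : Subgroup G) ⊓ E, ∀ y ∈ (S : Subgroup G) ⊓ E, Commute (π x) (π y) := by
    intro x hx y hy
    obtain ⟨a, ha, v, hv, b, hb, rfl⟩ := c.decomp hx.1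
    obtain ⟨a', ha', v', hv', b', hb', rfl⟩ := c.decomp hy.1
    have hb'Q : b' ∈ Q := c.B_le hb'
    have k1 : Commute (π a) (π b') := (show Commute a b' from c.AB a ha b' hb').map π
    have k2 : Commute (π v) (π b') := (show Commute b' v from hVc v hv b' hb'Q).symm.map π
    have k3 : Commute (π b) (π b') := by
      have h0 := hEQ _ hx.2 b' hb'Q
      rw [map_mul, map_mul] at h0
      have h2 := (k1.mul_left k2).inv_left.mul_left h0
      rwa [inv_mul_cancel_left] at h2
    have l1 : Commute (π a) (π a') := (show Commute a a' from c.A_comm a ha a' ha').map π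
    have l2 : Commute (π b) (π a') := (show Commute a' b from c.AB a' ha' b hb).symm.map π
    have l3 : Commute (π b) (π v') := (show Commute b v' from hVc v' hv' b (c.B_le hb)).map π
    simp only [map_mul]
    refine ((Commute.mul_left (Commute.mul_left ?_ ?_) ?_).mul_right ?_)
    · exact l1.mul_right (hVmod a v' hv')
    · exact ((hVmod a' v hv).symm).mul_right (hVmod v v' hv')
    · exact l2.mul_right l3
    · exact (k1.mul_left k2).mul_left k3
  have hEQW : E ⊓ Q ≤ W := by
    intro z hz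
    let f₁ : ↥E →* ↥(E.map π) := π.subgroupMap E
    have hf₁ : Function.Surjective f₁ := π.subgroupMap_surjective E
    let P₁ : Sylow p ↥(E.map π) := P.mapSurjective hf₁
    have hres : pResidual p ↥(E.map π) = ⊤ := by
      rw [← CfsgLib.Transfer.map_pResidual_of_surjective f₁ hf₁]
      rw [show pResidual p ↥E = ⊤ from map_injective E.subtype_injective (by
        rw [← MonoidHom.range_eq_map, range_subtype]; exact pResidualOf_pResidual),
        map_top_of_surjective f₁ hf₁]
    have hP₁ : IsMulCommutative ↥(P₁ : Subgroup ↥(E.map π)) := by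
      refine ⟨⟨?_⟩⟩
      rintro ⟨_, x, hx, rfl⟩ ⟨_, y, hy, rfl⟩
      refine Subtype.ext (Subtype.ext ?_)
      have hx' : (x : G) ∈ (S : Subgroup G) ⊓ E := hP.le hx
      have hy' : (y : G) ∈ (S : Subgroup G) ⊓ E := hP.le hy
      exact (hPab _ hx' _ hy').eq
    have hzP : f₁ ⟨z, hz.1⟩ ∈ (P₁ : Subgroup ↥(E.map π)) :=
      mem_map_of_mem f₁ (hP.ge (show z ∈ (S : Subgroup G) ⊓ E from ⟨hQS hz.2, hz.1⟩))
    have hzc : f₁ ⟨z, hz.1⟩ ∈ center ↥(E.map π) := mem_center_iff.2 fun e' => by
      obtain ⟨⟨e, he⟩, rfl⟩ := hf₁ e'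
      exact Subtype.ext (hEQ e he z hz.2).eq
    have h1 := (center_inf_sylow_eq_bot P₁ hP₁ hres).le ⟨hzP, hzc⟩
    exact hmk.1 (congrArg Subtype.val (mem_bot.1 h1))
  have hcore : pCoreOf p E = W := by
    refine le_antisymm (le_trans (le_inf (pCoreOf_le p E) ?_) hEQW) (le_pCoreOf hWE (hVp.to_le hWV) ?_)
    · have h1 := ActKer.pCoreOf_le_of_le_normalizer (p := p) (N := E) (L := (⊤ : Subgroup G)) le_top
        (by rw [Subgroup.normalizer_eq_top])
      haveI : (pCoreOf p (⊤ : Subgroup G)).Normal :=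
        Subgroup.normalizer_eq_top_iff.1 (top_le_iff.1 (le_normalizer_pCoreOf p ⊤))
      exact h1.trans (CfsgLib.Cores.le_pCore (isPGroup_pCoreOf p (⊤ : Subgroup G)))
    · rw [Subgroup.normalizer_eq_top]; exact le_top
  have hWom : omegaOneCenter p W = W := by
    refine le_antisymm (Oz.le_self W) fun w hw => Oz.mem_iff.2 ⟨hw, fun x hx => ?_, f.pow w (hWV hw)⟩
    exact (hVc w (hWV hw) x (hVQ (hWV hx))).eq
  have hWfix : W ⊓ centralizer (E : Set G) = W ⊓ Z₀ := by
    refine le_antisymm (fun u hu => ⟨hu.1, ?_⟩) fun u hu => ⟨hu.1, mem_centralizer_iff.2 fun e _ =>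
      mem_center_iff.1 hu.2.2 e⟩
    haveI : (centralizer (E : Set G)).Normal := inferInstance
    by_contra hu0
    have hle := f.sec.irred f.hypS (N := (W ⊓ centralizer (E : Set G)) ⊔ Z₀) le_sup_right
      (sup_le (inf_le_left.trans hWV) inf_le_left) fun hle => hu0 (hle (mem_sup_left hu))
    refine hW0 (le_trans (le_of_eq ?_) bot_le)
    rw [hW, commutator_eq_bot_iff_le_centralizer]
    exact hle.trans (sup_le inf_le_right fun z hz => mem_centralizer_iff.2 fun e _ => mem_center_iff.1 hz.2 e)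
  -- the action
  obtain ⟨⟨e₀⟩, -⟩ := (c.natural m F hF).1
  set π₀ := QuotientGroup.mk' Z₀ with hπ₀
  obtain ⟨-, ρn, ψn, hρn, hkn, hact⟩ := f.sec.natural
  let φ : G →* SpecialLinearGroup (Fin 2) F :=
    ρn.comp ((topEquiv : ↥(⊤ : Subgroup (G ⧸ Z₀)) ≃* G ⧸ Z₀).symm.toMonoidHom.comp π₀)
  have hφs : Function.Surjective φ := fun y => by
    obtain ⟨⟨x, hx⟩, rfl⟩ := hρn y
    obtain ⟨g, rfl⟩ := QuotientGroup.mk'_surjective Z₀ x
    exact ⟨g, rfl⟩
  have hφk : φ.ker = Q := by
    refine (eq_of_le_of_card_ge ?_ (le_of_eq ?_)).symm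
    · intro q hq
      have : (⟨π₀ q, mem_top _⟩ : ↥(⊤ : Subgroup (G ⧸ Z₀))) ∈ ρn.ker := by
        rw [hkn, mem_subgroupOf]
        refine mem_centralizer_iff.2 ?_
        rintro _ ⟨u, hu, rfl⟩
        rw [← map_mul, ← map_mul, (hVc u hu q hq).eq]
      exact this
    · have h1 := card_eq_card_quotient_mul_card_subgroup φ.ker
      have h2 := card_eq_card_quotient_mul_card_subgroup Q
      rw [Nat.card_congr (QuotientGroup.quotientKerEquivOfSurjective φ hφs).toEquiv] at h1
      rw [Nat.card_congr e₀.toEquiv, h1] at h2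
      exact Nat.eq_of_mul_eq_mul_left Nat.card_pos h2
  have hφE : E.map φ = commutator (SpecialLinearGroup (Fin 2) F) := by
    refine le_antisymm ?_ ?_
    · refine (congrArg (Subgroup.map φ) (residual_comm h)).ge.trans ?_
      rw [map_commutator, _root_.commutator_def]
      exact commutator_mono le_top le_top
    · rw [CfsgLib.Transfer.map_pResidual_of_surjective φ hφs]
      refine CfsgLib.Transfer.commutator_le_pResidual_of_abelian_sylow (S.mapSurjective hφs) ⟨⟨?_⟩⟩
      rintro ⟨_, x, hx, rfl⟩ ⟨_, y, hy, rfl⟩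
      refine Subtype.ext ?_
      obtain ⟨a, ha, v, hv, b, hb, rfl⟩ := c.decomp hx
      obtain ⟨a', ha', v', hv', b', hb', rfl⟩ := c.decomp hy
      have hk : ∀ q ∈ Q, φ q = 1 := fun q hq => hφk.ge hq
      show φ (a * v * b) * φ (a' * v' * b') = φ (a' * v' * b') * φ (a * v * b)
      simp only [map_mul, hk v (hVQ hv), hk v' (hVQ hv'), hk b (c.B_le hb), hk b' (c.B_le hb'), mul_one]
      rw [← map_mul, c.A_comm a ha a' ha', map_mul]
  have hρr : (φ.comp E.subtype).range = commutator (SpecialLinearGroup (Fin 2) F) := by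
    rw [MonoidHom.range_comp, range_subtype, hφE]
  refine ⟨?_, ?_, ?_, by rw [hcore, hWom]⟩
  · rw [hcore]
    refine le_antisymm (commutator_le_left W E) ?_
    show ⁅V, E⁆ ≤ ⁅W, E⁆
    refine commutator_le.2 fun v hv e he => ?_
    obtain ⟨w, hw, z, hz, rfl⟩ := hVdec v hv
    rw [show ⁅w * z, e⁆ = w * ⁅z, e⁆ * w⁻¹ * ⁅w, e⁆ by simp only [commutatorElement_def]; group,
      commutatorElement_eq_one_iff_mul_comm.2 (mem_center_iff.1 hz.2 e).symm, mul_one, mul_inv_cancel, one_mul]
    exact commutator_mem_commutator hw he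
  · have hk : (φ.comp E.subtype).ker = pCore p ↥E := by
      rw [← subgroupOf_pCoreOf p E, hcore]
      ext x
      rw [MonoidHom.mem_ker, mem_subgroupOf]
      exact ⟨fun hx => hEQW ⟨x.2, hφk.le hx⟩, fun hx => hφk.ge (hVQ (hWV hx))⟩
    exact ⟨((QuotientGroup.quotientMulEquivOfEq hk.symm).trans
      (QuotientGroup.quotientKerEquivRange _)).trans (MulEquiv.subgroupCongr hρr)⟩
  · rw [hcore, hWom, hWfix]
    let ψ : ↥W →* Multiplicative (Fin 2 → F) :=
      { toFun := fun w => Multiplicative.ofAdd (ψn (Additive.ofMul ⟨π₀ w, w, hWV w.2, rfl⟩))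
        map_one' := congrArg Multiplicative.ofAdd (map_zero ψn)
        map_mul' := fun a b => congrArg Multiplicative.ofAdd
          (map_add ψn (Additive.ofMul ⟨π₀ a, a, hWV a.2, rfl⟩) (Additive.ofMul ⟨π₀ b, b, hWV b.2, rfl⟩)) }
    refine ⟨by rw [Subgroup.normalizer_eq_top]; exact le_top, inf_le_left, φ.comp E.subtype, ψ, hρr, fun y => ?_,
      fun u => ?_, fun e u => ?_⟩
    · obtain ⟨⟨x, v, hv, rfl⟩, hx⟩ := ψn.surjective (Multiplicative.toAdd y)
      obtain ⟨w, hw, z, hz, rfl⟩ := hVdec v hv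
      refine ⟨⟨w, hw⟩, ?_⟩
      show Multiplicative.ofAdd (ψn _) = y
      rw [show y = Multiplicative.ofAdd (Multiplicative.toAdd y) from rfl, ← hx]
      congr 2
      refine Additive.toMul.injective (Subtype.ext ?_)
      show π₀ w = π₀ (w * z)
      rw [map_mul, show π₀ z = 1 from (QuotientGroup.eq_one_iff z).2 hz, mul_one]
    · show Multiplicative.ofAdd (ψn _) = 1 ↔ _
      rw [mem_inf, and_iff_right u.2]
      refine ⟨fun e => (QuotientGroup.eq_one_iff _).1 (congrArg (fun z : Additive ↥(V.map π₀) =>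
        ((Additive.toMul z : ↥(V.map π₀)) : G ⧸ Z₀)) (ψn.map_eq_zero_iff.1 (congrArg Multiplicative.toAdd e))),
        fun hu => congrArg Multiplicative.ofAdd (ψn.map_eq_zero_iff.2
          (congrArg Additive.ofMul (Subtype.ext ((QuotientGroup.eq_one_iff _).2 hu))))⟩
    · refine ⟨⟨(e : G) * u * (e : G)⁻¹, hWn.conj_mem _ u.2 _⟩, rfl, ?_⟩
      obtain ⟨w, hw, hw'⟩ := hact ⟨π₀ e, mem_top _⟩ ⟨π₀ u, u, hWV u.2, rfl⟩
      have key : (⟨π₀ ((e : G) * u * (e : G)⁻¹), _, hWV (hWn.conj_mem _ u.2 _), rfl⟩ : ↥(V.map π₀)) = w :=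
        Subtype.ext (by rw [hw]; simp)
      exact (congrArg (fun z => ψn (Additive.ofMul z)) key).trans hw'

end CfsgLib.LocalEven.PushMin
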