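import Cfsg.Agent.Lib.LocalEven.PushMin.Case2Setup

/-!
The configuration of critical length two: the core of `O^p`, its derived group and its order.
-/

set_option autoImplicit false

namespace CfsgLib.LocalEven.PushMin

open Cfsg Subgroup
open CfsgLib.LocalEven.RankOne
open CfsgLib.LocalEven.PushUp
open CfsgLib.Fusion (conjSub)
open scoped commutatorElement

variable {G : Type*} [Group G] [Finite G] {p n : ℕ} [hp : Fact p.Prime] {P : Sylow p G}
variable {K : Subgroup G} [K.Normal] {W A H C Y U : Subgroup G} [W.Normal] {F : Type} [Field F] [Fintype F]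

theorem BlockData.rSub_comm_x (c : BlockData n P W A H C Y U) (m : MemHyp n P K) (hF : Fintype.card F = p ^ n)
    {r x : G} (hr : r ∈ rSub p G) (hx : x ∈ xSub p P W) : r * x = x * r := by
  have hRW := c.rSub_le m hF
  have h1 : ⁅⁅cop p G, xSub p P W⁆, rSub p G⁆ = ⊥ := by
    rw [commutator_eq_bot_iff_le_centralizer]
    refine commutator_le.2 fun g hg u hu => mem_centralizer_iff.2 fun v hv => ?_
    exact m.hyp.vS_comm (hu.2 g hg) (rSub_le_core hv)
  have h2 : ⁅⁅xSub p P W, rSub p G⁆, cop p G⁆ = ⊥ := by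
    rw [commutator_eq_bot_iff_le_centralizer]
    refine commutator_le.2 fun u hu v hv => ?_
    exact (center_le_centralizer _) (c.comm u (c.W_le hu.1) v (hRW hv))
  have h3 := commutator_commutator_eq_bot_of_rotate h1 h2
  rw [rSub_comm, commutator_eq_bot_iff_le_centralizer] at h3
  exact (mem_centralizer_iff.1 (h3 hr) x hx).symm

theorem BlockData.derived_le (c : BlockData n P W A H C Y U) (m : MemHyp n P K) (hF : Fintype.card F = p ^ n) :
    ⁅rSub p G, rSub p G⁆ ≤ center G :=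
  commutator_le.2 fun u hu v hv => c.comm u (rSub_le_core hu) v (c.rSub_le m hF hv)

/-- The central part is the derived group. -/
theorem BlockData.derived_eq (c : BlockData n P W A H C Y U) (m : MemHyp n P K) (hF : Fintype.card F = p ^ n) :
    ⁅rSub p G, rSub p G⁆ = rSub p G ⊓ center G := by
  refine le_antisymm (le_inf (commutator_le_left _ _) (c.derived_le m hF)) ?_
  obtain ⟨t, it⟩ := c.exists_invol m hF
  set N := ⁅rSub p G, rSub p G⁆ with hN
  set π := QuotientGroup.mk' N with hπ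
  have hmk : ∀ {x}, π x = 1 ↔ x ∈ N := QuotientGroup.eq_one_iff _
  have hRR : ∀ u ∈ rSub p G, ∀ v ∈ rSub p G, Commute (π u) (π v) := fun u hu v hv => by
    rw [commute_iff_eq, ← commutatorElement_eq_one_iff_mul_comm, ← map_commutatorElement, hmk]
    exact commutator_mem_commutator hu hv
  have hQR : ∀ g ∈ pCore p G, ∀ v ∈ rSub p G, Commute (π g) (π v) := by
    have h1 : ⁅⁅(cop p G).map π, (pCore p G).map π⁆, (rSub p G).map π⁆ = ⊥ := by
      rw [← map_commutator, commutator_comm (cop p G), ← map_commutator, Subgroup.map_eq_bot_iff, QuotientGroup.ker_mk']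
    have h2 : ⁅⁅(pCore p G).map π, (rSub p G).map π⁆, (cop p G).map π⁆ = ⊥ := by
      rw [← map_commutator, ← map_commutator, Subgroup.map_eq_bot_iff, QuotientGroup.ker_mk']
      have h0 : ⁅⁅pCore p G, rSub p G⁆, cop p G⁆ = ⊥ := by
        rw [commutator_eq_bot_iff_le_centralizer]
        exact commutator_le.2 fun u hu v hv => (center_le_centralizer _) (c.comm u hu v (c.rSub_le m hF hv))
      exact h0.le.trans bot_le
    have h3 := commutator_commutator_eq_bot_of_rotate h1 h2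
    rw [← map_commutator (rSub p G), rSub_comm, commutator_eq_bot_iff_le_centralizer] at h3
    exact fun g hg v hv => mem_centralizer_iff.1 (h3 ⟨v, hv, rfl⟩) _ ⟨g, hg, rfl⟩
  let T : Subgroup G :=
    { carrier := {x | x ∈ rSub p G ∧ π (t * x * t⁻¹) = (π x)⁻¹}
      one_mem' := ⟨one_mem _, by simp⟩
      mul_mem' := fun {x y} hx hy => ⟨mul_mem hx.1 hy.1, by
        rw [show t * (x * y) * t⁻¹ = t * x * t⁻¹ * (t * y * t⁻¹) by group, map_mul π (t * x * t⁻¹), hx.2, hy.2,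
          map_mul, mul_inv_rev]
        exact ((hRR x hx.1 y hy.1).inv_left.inv_right).eq⟩
      inv_mem' := fun {x} hx => ⟨inv_mem hx.1, by
        rw [show t * x⁻¹ * t⁻¹ = (t * x * t⁻¹)⁻¹ by group, map_inv π (t * x * t⁻¹), hx.2, map_inv]⟩ }
  have hle : ⁅rSub p G, cop p G⁆ ≤ T := commutator_le.2 fun v hv g hg => by
    rw [← commutatorElement_inv]
    have hgv : ⁅g, v⁆ ∈ rSub p G := commutator_le_right ⊤ _ (commutator_mem_commutator (mem_top g) hv)
    refine inv_mem (show ⁅g, v⁆ ∈ T from ⟨hgv, ?_⟩)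
    set l := g⁻¹ * ⁅t, g⁆ * g with hl
    have hlQ : l ∈ pCore p G := by
      simpa using (inferInstance : (pCore p G).Normal).conj_mem _ (it.comm_core g) g⁻¹
    set e := t * v * t⁻¹ * v with he
    have hec : e ∈ center G := c.rSub_inverted m hF it hv
    have h1 : t * ⁅g, v⁆ * t⁻¹ = g * ⁅l, t * v * t⁻¹⁆ * g⁻¹ * ⁅g, t * v * t⁻¹⁆ := by
      simp only [hl, commutatorElement_def]
      group
    have h2 : π ⁅l, t * v * t⁻¹⁆ = 1 := by
      rw [map_commutatorElement, commutatorElement_eq_one_iff_mul_comm]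
      exact hQR l hlQ _ ((inferInstance : (rSub p G).Normal).conj_mem v hv t)
    have h3 : ⁅g, t * v * t⁻¹⁆ = v⁻¹ * ⁅g, v⁆⁻¹ * v := by
      have hg' : Commute g e := mem_center_iff.1 hec g
      rw [show t * v * t⁻¹ = e * v⁻¹ by rw [he, mul_inv_cancel_right]]
      rw [show ⁅g, e * v⁻¹⁆ = ⁅g, e⁆ * (e * ⁅g, v⁻¹⁆ * e⁻¹) by simp only [commutatorElement_def]; group,
        commutatorElement_eq_one_iff_mul_comm.2 hg'.eq, one_mul, ← mem_center_iff.1 hec, mul_inv_cancel_right]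
      simp only [commutatorElement_def]
      group
    have h4 : Commute (π v)⁻¹ (π ⁅g, v⁆)⁻¹ := (hRR v hv _ hgv).inv_left.inv_right
    rw [h1, h3]
    simp only [map_mul, map_inv, h2, mul_one, mul_inv_cancel, one_mul]
    rw [h4.eq, inv_mul_cancel_right]
  rintro z ⟨hz, hzc⟩
  have h1 := (hle (rSub_comm.ge hz)).2
  rw [mem_center_iff.1 hzc t, mul_inv_cancel_right, eq_inv_iff_mul_eq_one, ← map_mul, hmk] at h1
  exact c.mem_center_of_sq (c.rSub_le m hF hz) h1

/-- Commutators inside the Sylow subgroup of `cop` lie in the small core. -/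
theorem BlockData.cop_abelian (c : BlockData n P W A H C Y U) (m : MemHyp n P K) (hF : Fintype.card F = p ^ n)
    {x₁ x₂ : G} (h₁ : x₁ ∈ (P : Subgroup G)) (h₂ : x₂ ∈ (P : Subgroup G)) (k₁ : x₁ ∈ cop p G) (k₂ : x₂ ∈ cop p G) :
    ⁅x₁, x₂⁆ ∈ rSub p G := by
  set π := QuotientGroup.mk' (rSub p G) with hπ
  have hmk : ∀ {x}, π x = 1 ↔ x ∈ rSub p G := QuotientGroup.eq_one_iff _
  have hcm : ∀ {a b : G}, a * b = b * a → Commute (π a) (π b) := fun h => (show Commute _ _ from h).map π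
  have hcent : ∀ g ∈ pCore p G, ∀ x ∈ cop p G, Commute (π g) (π x) := fun g hg x hx => by
    rw [commute_iff_eq, ← commutatorElement_eq_one_iff_mul_comm, ← map_commutatorElement, hmk]
    exact commutator_mem_commutator hg hx
  obtain ⟨a₁, ha₁, g₁, hg₁, rfl⟩ := c.toCore2.mem_mul h₁
  obtain ⟨a₂, ha₂, g₂, hg₂, rfl⟩ := c.toCore2.mem_mul h₂
  have key : ∀ {a g : G}, a ∈ A → g ∈ pCore p G → a * g ∈ cop p G →
      (∀ y ∈ Y, Commute (π g) (π y)) ∧ ∀ z ∈ C, Commute (π g) (π z) := by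
    intro a g ha hg hag
    have h : ∀ z ∈ pCore p G, a * z = z * a → Commute (π g) (π z) := fun z hz haz => by
      have h1 := hcent z hz _ hag
      have h2 : Commute (π a) (π z) := hcm haz
      rw [map_mul] at h1
      have h3 : Commute (π z) ((π a)⁻¹ * (π a * π g)) := h2.symm.inv_right.mul_right h1
      rw [inv_mul_cancel_left] at h3
      exact h3.symm
    exact ⟨fun y hy => h y (c.W_le (c.Y_le hy)) (c.AY a ha y hy), fun z hz => h z (c.C_le hz) (c.AC a ha z hz)⟩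
  obtain ⟨hY₁, hC₁⟩ := key ha₁ hg₁ k₁
  obtain ⟨hY₂, hC₂⟩ := key ha₂ hg₂ k₂
  obtain ⟨u₁, hu₁, y₁, hy₁, v₁, hv₁, d₁, hd₁, e₁⟩ := c.decomp g₁ hg₁
  obtain ⟨u₂, hu₂, y₂, hy₂, v₂, hv₂, d₂, hd₂, e₂⟩ := c.decomp g₂ hg₂
  have hvc : ∀ v ∈ vS P, ∀ g ∈ pCore p G, Commute (π g) (π v) := fun v hv g hg => hcm (m.hyp.vS_comm hv hg)
  have hUQ : ∀ {u}, u ∈ U → u ∈ pCore p G := fun hu => c.W_le (c.U_le hu)
  have hYQ : ∀ {y}, y ∈ Y → y ∈ pCore p G := fun hy => c.W_le (c.Y_le hy)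
  -- `u₂` commutes with `Y`
  have hu₂Y : ∀ y ∈ Y, Commute (π u₂) (π y) := fun y hy => by
    have h1 : Commute (π g₂) (π y) := hY₂ y hy
    have h2 : Commute (π y₂) (π y) := hcm (c.Y_comm y₂ hy₂ y hy)
    have h3 : Commute (π v₂) (π y) := (hvc v₂ hv₂ y (hYQ hy)).symm
    have h4 : Commute (π d₂) (π y) := hcm (c.CY d₂ hd₂ y hy)
    have h5 := h1.mul_left ((h2.mul_left h3).mul_left h4).inv_left
    rwa [e₂, map_mul, map_mul, map_mul, show π u₂ * π y₂ * π v₂ * π d₂ * (π y₂ * π v₂ * π d₂)⁻¹ = π u₂ by group]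
      at h5
  have hgu : Commute (π g₁) (π u₂) := by
    rw [e₁, map_mul, map_mul, map_mul]
    exact (((hcm (c.U_comm u₁ hu₁ u₂ hu₂)).mul_left (hu₂Y y₁ hy₁).symm).mul_left
      (hvc v₁ hv₁ u₂ (hUQ hu₂)).symm).mul_left (hcm (c.CU d₁ hd₁ u₂ hu₂))
  have hgg : Commute (π g₁) (π g₂) := by
    rw [e₂, map_mul, map_mul, map_mul]
    exact (((hgu.mul_right (hY₁ y₂ hy₂)).mul_right (hvc v₂ hv₂ g₁ hg₁))).mul_right (hC₁ d₂ hd₂)
  have haa : Commute (π a₁) (π a₂) := hcm (c.A_comm a₁ ha₁ a₂ ha₂)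
  have f₁ : Commute (π g₁) (π a₂ * π g₂) := by rw [← map_mul]; exact hcent g₁ hg₁ _ k₂
  have f₂ : Commute (π g₂) (π a₁ * π g₁) := by rw [← map_mul]; exact hcent g₂ hg₂ _ k₁
  have f₁' : Commute (π g₁) (π a₂) := by
    have := f₁.mul_right hgg.inv_right
    rwa [mul_inv_cancel_right] at this
  have f₂' : Commute (π g₂) (π a₁) := by
    have := f₂.mul_right hgg.symm.inv_right
    rwa [mul_inv_cancel_right] at this
  rw [← hmk, map_commutatorElement, commutatorElement_eq_one_iff_mul_comm, map_mul, map_mul]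
  exact ((haa.mul_left f₁').mul_right (f₂'.symm.mul_left hgg)).eq

/-- The core of `cop`. -/
theorem BlockData.core_cop (c : BlockData n P W A H C Y U) (m : MemHyp n P K) (hF : Fintype.card F = p ^ n) :
    pCore p G ⊓ cop p G = rSub p G := by
  refine le_antisymm ?_ (le_inf rSub_le_core rSub_le_cop)
  rintro q ⟨hqQ, hqE⟩
  set E := cop p G with hE
  set N := (rSub p G).subgroupOf E with hN
  haveI : N.Normal := inferInstance
  set π := QuotientGroup.mk' N with hπ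
  have hmk : ∀ {x}, π x = 1 ↔ (x : G) ∈ rSub p G := fun {x} => QuotientGroup.eq_one_iff x
  obtain ⟨T⟩ : Nonempty (Sylow p ↥E) := inferInstance
  set T' := T.mapSurjective (QuotientGroup.mk'_surjective N) with hT'
  have hab : IsMulCommutative ↥(T' : Subgroup (↥E ⧸ N)) := by
    obtain ⟨P', hP'⟩ := (T.2.map E.subtype).exists_le_sylow
    obtain ⟨g, hg⟩ := exists_conj P P'
    have hin : ∀ x ∈ (T : Subgroup ↥E), g⁻¹ * (x : G) * g ∈ (P : Subgroup G) ∧ g⁻¹ * (x : G) * g ∈ E :=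
      fun x hx => ⟨CfsgLib.Fusion.mem_conjSub.1 (hg ▸ hP' ⟨x, hx, rfl⟩),
        by simpa using (cop_normal p G).conj_mem _ x.2 g⁻¹⟩
    refine ⟨⟨?_⟩⟩
    rintro ⟨_, x, hx, rfl⟩ ⟨_, y, hy, rfl⟩
    refine Subtype.ext ?_
    show π x * π y = π y * π x
    rw [← commutatorElement_eq_one_iff_mul_comm, ← map_commutatorElement, hmk]
    have h1 := c.cop_abelian m hF (hin x hx).1 (hin y hy).1 (hin x hx).2 (hin y hy).2
    have h2 := (inferInstance : (rSub p G).Normal).conj_mem _ h1 g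
    convert h2 using 1
    show ⁅(x : G), (y : G)⁆ = _
    simp only [commutatorElement_def]
    group
  have h0 := CfsgLib.Transfer.inf_commutator_inf_center (T' : Subgroup (↥E ⧸ N)) hab T'.card_coprime_index
  have hqc : (⟨q, hqE⟩ : ↥E) ∈ pCore p ↥E := by rw [pCore_cop, mem_subgroupOf]; exact hqQ
  have hq1 : π ⟨q, hqE⟩ ∈ (T' : Subgroup (↥E ⧸ N)) := ⟨_, CfsgLib.Cores.pCore_le_sylow T hqc, rfl⟩
  have hq2 : π ⟨q, hqE⟩ ∈ center (↥E ⧸ N) := mem_center_iff.2 fun y => by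
    obtain ⟨y, rfl⟩ := QuotientGroup.mk'_surjective N y
    refine (commutatorElement_eq_one_iff_mul_comm.1 ?_).symm
    rw [← map_commutatorElement, hmk]
    exact commutator_mem_commutator hqQ y.2
  have hq3 : π ⟨q, hqE⟩ ∈ commutator (↥E ⧸ N) := by
    let f : ↥E →* Abelianization (↥E ⧸ N) := Abelianization.of.comp π
    have hall : ∀ x : ↥E, x ∈ pResidual p ↥E → (orderOf (f x)).Coprime p := by
      intro x hx
      induction hx using closure_induction with
      | mem x hx => exact Nat.Coprime.coprime_dvd_left (orderOf_map_dvd f x) hx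
      | one => rw [map_one, orderOf_one]; exact Nat.coprime_one_left p
      | mul x y _ _ hx hy =>
        rw [map_mul]
        exact Nat.Coprime.coprime_dvd_left ((Commute.all _ _).orderOf_mul_dvd_mul_orderOf) (hx.mul_left hy)
      | inv x _ hx => rwa [map_inv, orderOf_inv]
    have h1 := hall ⟨q, hqE⟩ ((pResidual_cop (p := p) (G := G)).ge (mem_top _))
    obtain ⟨i, hi⟩ := (CfsgLib.Cores.isPGroup_pCore (p := p) (G := ↥E)) ⟨_, hqc⟩
    have h2 : f ⟨q, hqE⟩ = 1 := orderOf_eq_one_iff.1 (Nat.eq_one_of_dvd_coprimes (h1.symm.pow_left i)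
      (orderOf_dvd_of_pow_eq_one (by
        have hi' : (⟨q, hqE⟩ : ↥E) ^ p ^ i = 1 := congrArg Subtype.val hi
        rw [← map_pow, hi', map_one])) dvd_rfl)
    rw [← Abelianization.ker_of, MonoidHom.mem_ker]
    exact h2
  exact hmk.1 (mem_bot.1 (h0.le (⟨⟨hq1, hq3⟩, hq2⟩ : π ⟨q, hqE⟩ ∈ (T' : Subgroup (↥E ⧸ N)) ⊓
    commutator (↥E ⧸ N) ⊓ center (↥E ⧸ N))))

theorem BlockData.le_card_derived (c : BlockData n P W A H C Y U) (m : MemHyp n P K)
    (hF : Fintype.card F = p ^ n) : p ^ n ≤ Nat.card ↥⁅rSub p G, rSub p G⁆ := by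
  have s : SecondFacts F n P m.hyp W H := c.toCore2.second m hF
  obtain ⟨b, hb, hbV⟩ := SetLike.not_le_iff_exists.1 c.Y_not
  have hsup := c.rSub_sup_x m hF
  have hdec : ∀ w ∈ W, ∃ r ∈ rSub p G, ∃ x ∈ xSub p P W, r * x = w := fun w hw => by
    have : w ∈ rSub p G ⊔ xSub p P W := hsup.ge hw
    rwa [← SetLike.mem_coe, normal_mul] at this
  obtain ⟨rb, hrb, xb, hxb, eb⟩ := hdec b (c.Y_le hb)
  have hcv : ∀ w ∈ W, ⁅w, rb⁆ ∈ center G := fun w hw => c.comm w (c.W_le hw) rb (c.rSub_le m hF hrb)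
  let φ : ↥W →* G := MonoidHom.mk' (fun w => ⁅(w : G), rb⁆) fun u v => by
    show ⁅(u : G) * v, rb⁆ = _
    rw [show ⁅(u : G) * v, rb⁆ = (u : G) * ⁅(v : G), rb⁆ * (u : G)⁻¹ * ⁅(u : G), rb⁆ by
      simp only [commutatorElement_def]; group, mem_center_iff.1 (hcv v v.2), mul_inv_cancel_right]
    exact (mem_center_iff.1 (hcv v v.2) _).symm
  have hr : φ.range ≤ ⁅rSub p G, rSub p G⁆ := by
    rintro _ ⟨w, rfl⟩
    obtain ⟨r, hr, x, hx, e⟩ := hdec w w.2
    show ⁅(w : G), rb⁆ ∈ _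
    rw [← e, show ⁅r * x, rb⁆ = r * ⁅x, rb⁆ * r⁻¹ * ⁅r, rb⁆ by simp only [commutatorElement_def]; group,
      commutatorElement_eq_one_iff_mul_comm.2 (c.rSub_comm_x m hF hrb hx).symm, mul_one, mul_inv_cancel, one_mul]
    exact commutator_mem_commutator hr hrb
  have hk : φ.ker ≤ H.subgroupOf W := by
    intro w hw
    obtain ⟨r, hr, x, hx, e⟩ := hdec w w.2
    have h1 : (w : G) * rb = rb * w := commutatorElement_eq_one_iff_mul_comm.1 hw
    rw [mem_subgroupOf, ← e]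
    have h2 : r * rb = rb * r := by
      have h3 : x * rb = rb * x := (c.rSub_comm_x m hF hrb hx).symm
      rw [← e, mul_assoc, h3, ← mul_assoc, ← mul_assoc] at h1
      exact mul_right_cancel h1
    refine mul_mem (c.fix_Y r (c.rSub_le m hF hr) b hb hbV ?_) (s.X_le hx)
    rw [← eb, ← mul_assoc, h2, mul_assoc, c.rSub_comm_x m hF hr hxb, mul_assoc]
  calc p ^ n = H.relIndex W := by rw [← s.fix_eq, s.sec.index_fix]
    _ ≤ φ.ker.index := index_antitone (hk) |>.trans le_rfl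
    _ = Nat.card φ.range := index_ker φ
    _ ≤ _ := card_le_of_le hr

theorem BlockData.card_derived_le (c : BlockData n P W A H C Y U) (m : MemHyp n P K)
    (hF : Fintype.card F = p ^ n) : Nat.card ↥⁅rSub p G, rSub p G⁆ ≤ p ^ n := by
  classical
  have s : SecondFacts F n P m.hyp W H := c.toCore2.second m hF
  obtain ⟨ρ, ψ, hρ, -, hψ, hψk, hact⟩ := exists_action s.hypS s.sec (c.card_quot m hF)
  have hsup := c.rSub_sup_x m hF
  have hRW := c.rSub_le m hF
  have hlift : ∀ v : Fin 2 → F, ∃ r : ↥W, (r : G) ∈ rSub p G ∧ Multiplicative.toAdd (ψ r) = v := fun v => by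
    obtain ⟨⟨w, hw⟩, e⟩ := hψ (Multiplicative.ofAdd v)
    have hw' : w ∈ rSub p G ⊔ xSub p P W := hsup.ge hw
    rw [← SetLike.mem_coe, normal_mul] at hw'
    obtain ⟨r, hr, x, hx, rfl⟩ := hw'
    refine ⟨⟨r, hRW hr⟩, hr, ?_⟩
    rw [show (⟨r * x, hw⟩ : ↥W) = ⟨r, hRW hr⟩ * ⟨x, hx.1⟩ from rfl, map_mul, (hψk ⟨x, hx.1⟩).2 hx, mul_one] at e
    rw [e]
    rfl
  choose ℓ hℓ hℓψ using hlift
  -- well defined
  have hwd : ∀ (r r' : ↥W), (r : G) ∈ rSub p G → ψ r = ψ r' →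
      ∃ x ∈ xSub p P W, (r' : G) = r * x := fun r r' _ e =>
    ⟨(r : G)⁻¹ * r', (hψk (r⁻¹ * r')).1 (by rw [map_mul, map_inv, e, inv_mul_cancel]),
      (mul_inv_cancel_left _ _).symm⟩
  have hcv : ∀ u ∈ rSub p G, ∀ v ∈ rSub p G, ⁅u, v⁆ ∈ center G := fun u hu v hv =>
    c.comm u (rSub_le_core hu) v (hRW hv)
  have hval : ∀ (u v : ↥W), (u : G) ∈ rSub p G → (v : G) ∈ rSub p G →
      ⁅(u : G), (v : G)⁆ = ⁅(ℓ (Multiplicative.toAdd (ψ u)) : G), (ℓ (Multiplicative.toAdd (ψ v)) : G)⁆ := by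
    intro u v hu hv
    obtain ⟨x, hx, ex⟩ := hwd u (ℓ (Multiplicative.toAdd (ψ u))) hu
      (Multiplicative.toAdd.injective (hℓψ _).symm)
    obtain ⟨y, hy, ey⟩ := hwd v (ℓ (Multiplicative.toAdd (ψ v))) hv
      (Multiplicative.toAdd.injective (hℓψ _).symm)
    have hxv : Commute x (v : G) := (c.rSub_comm_x m hF hv hx).symm
    have hvy : (v : G) * y ∈ rSub p G := ey ▸ hℓ _
    have hxvy : Commute x ((v : G) * y) := (c.rSub_comm_x m hF hvy hx).symm
    have huy : Commute (u : G) y := c.rSub_comm_x m hF hu hy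
    rw [ex, ey, show ⁅(u : G) * x, (v : G) * y⁆ = u * ⁅x, (v : G) * y⁆ * (u : G)⁻¹ * ⁅(u : G), (v : G) * y⁆ by
      simp only [commutatorElement_def]; group, commutatorElement_eq_one_iff_mul_comm.2 hxvy.eq, mul_one,
      mul_inv_cancel, one_mul, show ⁅(u : G), (v : G) * y⁆ = ⁅(u : G), (v : G)⁆ * (v * ⁅(u : G), y⁆ * (v : G)⁻¹) by
      simp only [commutatorElement_def]; group, commutatorElement_eq_one_iff_mul_comm.2 huy.eq, mul_one,
      mul_inv_cancel, mul_one]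
  letI : CommGroup ↥(center G) :=
    { (inferInstance : Group ↥(center G)) with
      mul_comm := fun a b => Subtype.ext (mem_center_iff.1 b.2 a.1) }
  let B : (Fin 2 → F) → (Fin 2 → F) → Additive ↥(center G) := fun v w =>
    Additive.ofMul ⟨⁅(ℓ v : G), (ℓ w : G)⁆, hcv _ (hℓ v) _ (hℓ w)⟩
  have hB : ∀ (u v : ↥W), (u : G) ∈ rSub p G → (v : G) ∈ rSub p G →
      ((Additive.toMul (B (Multiplicative.toAdd (ψ u)) (Multiplicative.toAdd (ψ v))) : ↥(center G)) : G) =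
        ⁅(u : G), (v : G)⁆ := fun u v hu hv => (hval u v hu hv).symm
  have hBeq : ∀ {a b : Additive ↥(center G)},
      ((Additive.toMul a : ↥(center G)) : G) = ((Additive.toMul b : ↥(center G)) : G) → a = b := fun e =>
    Additive.toMul.injective (Subtype.ext e)
  obtain ⟨φ, hφ⟩ := exists_det_form B
    (fun u v w => hBeq (by
      have h := hB (ℓ u * ℓ v) (ℓ w) (mul_mem (hℓ u) (hℓ v)) (hℓ w)
      rw [map_mul, toAdd_mul, hℓψ, hℓψ, hℓψ] at h
      rw [h, toMul_add, Subgroup.coe_mul]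
      show ⁅(ℓ u : G) * ℓ v, (ℓ w : G)⁆ = _
      rw [show ⁅(ℓ u : G) * ℓ v, (ℓ w : G)⁆ = (ℓ u : G) * ⁅(ℓ v : G), (ℓ w : G)⁆ * (ℓ u : G)⁻¹ *
        ⁅(ℓ u : G), (ℓ w : G)⁆ by simp only [commutatorElement_def]; group,
        mem_center_iff.1 (hcv _ (hℓ v) _ (hℓ w)), mul_inv_cancel_right]
      exact (mem_center_iff.1 (hcv _ (hℓ v) _ (hℓ w)) _).symm))
    (fun u v w => hBeq (by
      have h := hB (ℓ u) (ℓ v * ℓ w) (hℓ u) (mul_mem (hℓ v) (hℓ w))
      rw [map_mul, toAdd_mul, hℓψ, hℓψ, hℓψ] at h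
      rw [h, toMul_add, Subgroup.coe_mul]
      show ⁅(ℓ u : G), (ℓ v : G) * ℓ w⁆ = _
      rw [show ⁅(ℓ u : G), (ℓ v : G) * ℓ w⁆ = ⁅(ℓ u : G), (ℓ v : G)⁆ *
        ((ℓ v : G) * ⁅(ℓ u : G), (ℓ w : G)⁆ * (ℓ v : G)⁻¹) by simp only [commutatorElement_def]; group,
        mem_center_iff.1 (hcv _ (hℓ u) _ (hℓ w)) (ℓ v : G), mul_inv_cancel_right]
      rfl))
    (fun v => hBeq (by show ⁅(ℓ v : G), (ℓ v : G)⁆ = 1; rw [commutatorElement_self]))
    (fun M v w => hBeq (by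
      obtain ⟨g, rfl⟩ := hρ M
      let a : ↥W := ⟨g * ℓ v * g⁻¹, ‹W.Normal›.conj_mem _ (ℓ v).2 g⟩
      let b : ↥W := ⟨g * ℓ w * g⁻¹, ‹W.Normal›.conj_mem _ (ℓ w).2 g⟩
      have h := hB a b ((inferInstance : (rSub p G).Normal).conj_mem _ (hℓ v) g)
        ((inferInstance : (rSub p G).Normal).conj_mem _ (hℓ w) g)
      rw [hact g (ℓ v) a rfl, hact g (ℓ w) b rfl, hℓψ, hℓψ] at h
      rw [h]
      show ⁅g * (ℓ v : G) * g⁻¹, g * (ℓ w : G) * g⁻¹⁆ = ⁅(ℓ v : G), (ℓ w : G)⁆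
      rw [show ⁅g * (ℓ v : G) * g⁻¹, g * (ℓ w : G) * g⁻¹⁆ = g * ⁅(ℓ v : G), (ℓ w : G)⁆ * g⁻¹ by
        simp only [commutatorElement_def]; group, mem_center_iff.1 (hcv _ (hℓ v) _ (hℓ w)), mul_inv_cancel_right]))
  let φm : Multiplicative F →* G :=
    ((center G).subtype).comp (AddMonoidHom.toMultiplicativeLeft φ)
  have hle : ⁅rSub p G, rSub p G⁆ ≤ φm.range := commutator_le.2 fun u hu v hv => by
    obtain ⟨z, hz⟩ := hφ (Multiplicative.toAdd (ψ ⟨u, hRW hu⟩)) (Multiplicative.toAdd (ψ ⟨v, hRW hv⟩))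
    refine ⟨Multiplicative.ofAdd z, ?_⟩
    rw [← hB ⟨u, hRW hu⟩ ⟨v, hRW hv⟩ hu hv, ← hz]
    rfl
  calc _ ≤ Nat.card φm.range := card_le_of_le hle
    _ ≤ Nat.card (Multiplicative F) := Nat.card_le_card_of_surjective _ φm.rangeRestrict_surjective
    _ = p ^ n := by rw [Nat.card_congr Multiplicative.toAdd, Nat.card_eq_fintype_card, hF]

theorem BlockData.card_derived (c : BlockData n P W A H C Y U) (m : MemHyp n P K)
    (hF : Fintype.card F = p ^ n) : Nat.card ↥⁅rSub p G, rSub p G⁆ = p ^ n :=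
  le_antisymm (c.card_derived_le m hF) (c.le_card_derived m hF)

theorem BlockData.centre_rSub (c : BlockData n P W A H C Y U) (m : MemHyp n P K)
    (hF : Fintype.card F = p ^ n) : rSub p G ⊓ centralizer (rSub p G : Set G) = rSub p G ⊓ vS P := by
  refine le_antisymm ?_ fun r hr => ⟨hr.1, mem_centralizer_iff.2 fun u hu => m.hyp.vS_comm hr.2 (rSub_le_core hu)⟩
  rw [← c.rSub_inf_x m hF]
  refine le_inf inf_le_left ?_
  have s : SecondFacts F n P m.hyp W H := c.toCore2.second m hF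
  haveI : (centralizer (rSub p G : Set G)).Normal := Subgroup.normal_centralizer
  set M := rSub p G ⊓ centralizer (rSub p G : Set G) with hM
  haveI : M.Normal := Subgroup.normal_inf_normal _ _
  have hc := s.sec.chief s.hypS
  rcases hc.2.2.2 (M ⊔ xSub p P W) inferInstance le_sup_right
    (sup_le (inf_le_left.trans (c.rSub_le m hF)) s.hypS.le) with e | e
  · exact le_sup_left.trans e.le
  · exfalso
    have hbot : ⁅rSub p G, rSub p G⁆ = ⊥ := by
      rw [commutator_eq_bot_iff_le_centralizer]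
      intro r hr
      have h1 : r ∈ M ⊔ xSub p P W := e.ge (c.rSub_le m hF hr)
      rw [← SetLike.mem_coe, normal_mul] at h1
      obtain ⟨a, ha, x, hx, rfl⟩ := h1
      refine mul_mem ha.2 (mem_centralizer_iff.2 fun u hu => ?_)
      exact c.rSub_comm_x m hF hu hx
    have h1 := c.le_card_derived m hF
    rw [hbot, card_bot] at h1
    exact absurd h1 (not_le.2 (Nat.one_lt_pow (Nat.one_le_iff_ne_zero.1 m.hyp.pos) hp.out.one_lt))

end CfsgLib.LocalEven.PushMin
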