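import Cfsg.Agent.Lib.LocalEven.PushUp.Pull

/-!
The configuration of critical length two with the two neighbouring modules kept.
-/

set_option autoImplicit false

namespace CfsgLib.LocalEven.PushMin

open Cfsg Subgroup
open CfsgLib.LocalEven.RankOne
open CfsgLib.LocalEven.PushUp
open CfsgLib.Fusion (conjSub)
open scoped commutatorElement

variable {G : Type*} [Group G] [Finite G] {p n : ℕ} [hp : Fact p.Prime] {K : Subgroup G} [K.Normal]

/-- The data of critical length two, with the neighbouring modules `Y` and `U`. -/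
structure BlockData (n : ℕ) (S : Sylow p G) (W A H C Y U : Subgroup G) : Prop extends Case2 n S W A H C where
  U_le : U ≤ W
  Y_le : Y ≤ W
  U_comm : ∀ u ∈ U, ∀ u' ∈ U, u * u' = u' * u
  Y_comm : ∀ y ∈ Y, ∀ y' ∈ Y, y * y' = y' * y
  AY : ∀ a ∈ A, ∀ y ∈ Y, a * y = y * a
  CY : ∀ c ∈ C, ∀ y ∈ Y, c * y = y * c
  CU : ∀ c ∈ C, ∀ u ∈ U, c * u = u * c
  decomp : ∀ g ∈ pCore p G, ∃ u ∈ U, ∃ y ∈ Y, ∃ v ∈ vS S, ∃ c ∈ C, g = u * y * v * c
  fix_Y : ∀ w ∈ W, ∀ y ∈ Y, y ∉ vS S → w * y = y * w → w ∈ H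
  Y_not : ¬ Y ≤ vS S
  crit_at : ∀ a ∈ A, a ∉ pCore p G → ∃ v ∈ W, ⁅a, ⁅a, v⁆⁆ ∉ center G

variable {𝕏 : Type*} [Group 𝕏] {ν : Type*} {Γ : Amal 𝕏 ν p (p ^ n)} {ι : G →* 𝕏}
variable {u x y z : ν} {f e e' : Subgroup 𝕏}

omit [Finite G] hp in
/-- The core is generated by three modules and the four cores. -/
theorem corner_decomp (h : Corner Γ u x y z f e e') {g : 𝕏} (hg : g ∈ Γ.core x) :
    ∃ a ∈ Γ.md u, ∃ b ∈ Γ.md y, ∃ c ∈ Γ.md x, ∃ r ∈ fourCore Γ u x y z, g = a * b * c * r := by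
  have hg1 : g ∈ Γ.md u ⊔ Γ.core y := h.fst.eq' ▸ Γ.core_le x e h.snd.mem h.snd.left hg
  obtain ⟨a, ha, s, hs, rfl⟩ := Γ.exists_mul
    (v := y) ((h.fst.eq' ▸ le_sup_left : Γ.md u ≤ e).trans h.fst.right) hg1
  have hsx : s ∈ Γ.core x := by
    have := mul_mem (inv_mem (h.md_le_of_adj h.near.1 ha)) hg
    rwa [inv_mul_cancel_left] at this
  have hs1 : s ∈ Γ.md y ⊔ Γ.core u := h.fst.eq ▸ Γ.core_le x f h.fst.mem h.fst.mid hsx
  obtain ⟨b, hb, t, ht, rfl⟩ := Γ.exists_mul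
    (v := u) ((h.fst.eq ▸ le_sup_left : Γ.md y ≤ f).trans h.fst.left) hs1
  have htx : t ∈ Γ.core x := by
    have := mul_mem (inv_mem (h.md_le_of_adj h.near.2.1 hb)) hsx
    rwa [inv_mul_cancel_left] at this
  have hty : t ∈ Γ.core y := by
    have := mul_mem (inv_mem (Γ.md_le y hb)) hs
    rwa [inv_mul_cancel_left] at this
  have ht1 : t ∈ Γ.md x ⊔ Γ.core z := h.snd.eq' ▸ Γ.core_le y e' h.snd.mem' h.snd.mid' hty
  obtain ⟨c, hc', r, hr, rfl⟩ := Γ.exists_mul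
    (v := z) ((h.snd.eq' ▸ le_sup_left : Γ.md x ≤ e').trans h.snd.right) ht1
  have hru : r ∈ Γ.core u := by
    have := mul_mem (inv_mem (h.md_le_of_adj (Γ.adj_symm h.near.1) hc')) ht
    rwa [inv_mul_cancel_left] at this
  have hrx : r ∈ Γ.core x := by
    have := mul_mem (inv_mem (Γ.md_le x hc')) htx
    rwa [inv_mul_cancel_left] at this
  have hry : r ∈ Γ.core y := by
    have := mul_mem (inv_mem (h.md_le_of_adj (Γ.adj_symm h.near.2.1) hc')) hty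
    rwa [inv_mul_cancel_left] at this
  exact ⟨a, ha, b, hb, c, hc', r, ⟨⟨⟨hru, hrx⟩, hry⟩, hr⟩, by group⟩

/-- The pairing is not central for any element outside the core. -/
theorem exists_crit_at (hy : Corner Γ z y x u e' e f) {w : ν} {g g' : Subgroup 𝕏}
    (hy' : Corner Γ x y z w e e' g) (S₂ : Sylow p G) (em : Emb p S₂ ι (Γ.grp y) (Γ.core y) (Γ.md y) Γ.edges)
    (m : ∀ P : Sylow p G, MemHyp n P K) (F : Type) [Field F] [Fintype F] (hF : Fintype.card F = p ^ n)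
    (hx : Corner Γ u x y z f e g') {a : 𝕏} (ha : a ∈ Γ.md z) (haQ : a ∉ Γ.core x) :
    ∃ v ∈ Γ.md u, ¬ ∀ k ∈ Γ.grp x, k * ⁅a, ⁅a, v⁆⁆ = ⁅a, ⁅a, v⁆⁆ * k := by
  by_contra hall
  push Not at hall
  obtain ⟨P, hP, hWn, c⟩ := hy.core2 em m
  obtain ⟨P', hP', -, c'⟩ := hy'.core2 em m
  rw [wMod_swap Γ y x z] at c'
  haveI := hWn
  obtain ⟨hz, hxm, hym⟩ := hy.md_le_mod
  apply haQ
  refine Γ.cent_md x e hx.snd.mem hx.snd.left a ((hx.snd.eq ▸ le_sup_left : Γ.md z ≤ e) ha) fun v hv => ?_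
  have hzr : Γ.md z ≤ ι.range := em.grp ▸ hz.trans (hy.mod_le.trans hy.grp_le)
  have hxr : Γ.md x ≤ ι.range := em.grp ▸ hxm.trans (hy.mod_le.trans hy.grp_le)
  obtain ⟨a', rfl⟩ := hzr ha
  obtain ⟨v', rfl⟩ := hxr hv
  have ha' : a' ∈ (wMod Γ y z x).comap ι := hz ha
  have haH : a' ∉ (wMod Γ y z x ⊓ Γ.core x).comap ι := fun h => haQ h.2
  have hvH : v' ∈ (wMod Γ y z x ⊓ Γ.core x).comap ι := ⟨hxm hv, Γ.md_le x hv⟩
  obtain ⟨b, hb, hbH⟩ := c.fill (F := F) c' (m P) (m P') hF ha' haH hvH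
  set r := ι b with hr
  have hk : ι (⁅b, a'⁆ * v'⁻¹) ∈ (wMod Γ y z x ⊓ Γ.core x) ⊓ (wMod Γ y z x ⊓ Γ.core z) := ⟨hbH.1, hbH.2⟩
  set t := ι (⁅b, a'⁆ * v'⁻¹) with ht
  have hta : Commute t (ι a') := Γ.md_comm z t hk.2.2 (ι a') ha
  have hv' : ι v' = t⁻¹ * ⁅r, ι a'⁆ := by
    rw [ht, hr, ← map_commutatorElement, ← map_inv, ← map_mul]
    congr 1
    group
  have hrW : r ∈ wMod Γ x u y := hx.md_le_mod.1 hb
  have hcen : ∀ k ∈ Γ.grp x, k * ⁅ι a', ι v'⁆ = ⁅ι a', ι v'⁆ * k := by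
    have e1 : ⁅ι a', ι v'⁆ = t⁻¹ * ⁅ι a', ⁅r, ι a'⁆⁆ * t := by
      rw [hv', show ⁅ι a', t⁻¹ * ⁅r, ι a'⁆⁆ = ⁅ι a', t⁻¹⁆ * (t⁻¹ * ⁅ι a', ⁅r, ι a'⁆⁆ * t⁻¹⁻¹) by
        simp only [commutatorElement_def]; group,
        commutatorElement_eq_one_iff_mul_comm.2 hta.inv_left.symm.eq, one_mul, inv_inv]
    set Y := ⁅ι a', r⁆ with hY
    have hYW : Y ∈ wMod Γ x u y := (hx.near_part.2.1 (ι a') ha r hrW).1
    have hYG : Y ∈ Γ.grp x := hx.grp_le (hx.mod_le hYW)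
    set Φ := ⁅ι a', Y⁆ with hΦ
    have hΦc : ∀ k ∈ Γ.grp x, k * Φ = Φ * k := hall r hb
    have e2 : ⁅ι a', ⁅r, ι a'⁆⁆ = Φ⁻¹ := by
      rw [← commutatorElement_inv (ι a') r, ← hY, show ⁅ι a', Y⁻¹⁆ = Y⁻¹ * ⁅ι a', Y⁆⁻¹ * Y by
        simp only [commutatorElement_def]; group, ← hΦ, mul_assoc, ← (show Commute Y Φ⁻¹ from
          (show Commute Y Φ from hΦc Y hYG).inv_right).eq, inv_mul_cancel_left]
    have htG : t ∈ Γ.grp x := hx.grp_le hk.1.2
    intro k hk'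
    rw [e1, e2, mul_assoc, ← (show Commute t Φ⁻¹ from (show Commute t Φ from hΦc t htG).inv_right).eq,
      inv_mul_cancel_left]
    exact (show Commute k Φ from hΦc k hk').inv_right
  exact commutatorElement_eq_one_iff_mul_comm.1 (Γ.not_center x e hx.snd.mem hx.snd.left _
    ((hx.snd.eq ▸ le_sup_left : Γ.md z ≤ e) ha) _ hv hcen)

/-- The configurations, with the neighbouring modules. -/
theorem block_of_amal {S : Sylow p G} (hbad : Γ.Bad)
    (hemb : ∀ v, ∃ ι : G →* 𝕏, Emb p S ι (Γ.grp v) (Γ.core v) (Γ.md v) Γ.edges)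
    (hm : ∀ P : Sylow p G, MemHyp n P K) (F : Type) [Field F] [Fintype F] (hF : Fintype.card F = p ^ n) :
    ∃ P : Sylow p G, (Γ.b = 1 ∧ ∃ A B, Case1 P A B) ∨ ∃ W A H C Y U, W.Normal ∧ BlockData n P W A H C Y U := by
  have hb0 := Γ.b_pos hbad
  obtain ⟨g⟩ := Γ.exists_geo hbad 2
  have hb2 := Γ.b_le_two hbad
  by_cases hb1 : Γ.b = 1
  · have hle : 0 + Γ.b ≤ 2 + Γ.b := by omega
    have hc := g.crit 0 (by omega)
    have e1 := Γ.first_eq g.toPath hb0 hle hc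
    have e2 := Γ.last_eq g.toPath hb0 hle hc
    rw [show 0 + Γ.b = 1 by omega] at e1 e2
    rw [show 1 - 1 = 0 from rfl] at e2
    obtain ⟨ι, em⟩ := hemb (g.w 0)
    have hP0 := g.left 0 (by omega)
    have hP1 : g.e 0 ≤ Γ.grp (g.w 1) := g.right 0 (by omega)
    obtain ⟨P, hP⟩ := em.edge _ (g.mem 0 (by omega)) hP0
    have hinj := em.inj
    have hA : Γ.md (g.w 1) ≤ g.e 0 := e1 ▸ le_sup_left
    have hQ : ∀ a, a ∈ pCore p G ↔ ι a ∈ Γ.core (g.w 0) := fun a => by rw [em.core, mem_map_iff_mem hinj]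
    refine ⟨P, Or.inl ⟨hb1, (Γ.md (g.w 1)).comap ι, (Γ.core (g.w 0) ⊓ Γ.core (g.w 1)).comap ι,
      fun a ha => (mem_map_iff_mem hinj).1 (hP ▸ hA ha), ?_,
      fun a ha => hinj (by rw [map_pow, map_one]; exact Γ.md_pow _ _ ha),
      fun a ha a' ha' => hinj (by rw [map_mul, map_mul]; exact Γ.md_comm _ _ (Γ.md_le _ ha) _ ha'),
      fun b hb => (hQ b).2 hb.1,
      fun a ha b hb => hinj (by rw [map_mul, map_mul]; exact (Γ.md_comm _ _ hb.2 _ ha).symm), ?_⟩⟩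
    · intro a ha
      have h1 : ι a ∈ Γ.md (g.w 1) ⊔ Γ.core (g.w 0) := e1 ▸ hP ▸ ⟨a, ha, rfl⟩
      obtain ⟨b, hb, c, hc, e⟩ := Γ.exists_mul (hA.trans hP0) h1
      obtain ⟨b', rfl⟩ : b ∈ ι.range := em.grp ▸ hP0 (hA hb)
      have h2 : b'⁻¹ * a ∈ pCore p G := (hQ _).2 (by rwa [map_mul, map_inv, e, inv_mul_cancel_left])
      have := mul_mem (mem_sup_left (T := pCore p G) (show b' ∈ (Γ.md (g.w 1)).comap ι from hb))
        (mem_sup_right (S := (Γ.md (g.w 1)).comap ι) h2)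
      rwa [mul_inv_cancel_left] at this
    · intro a ha
      have hq := (hQ a).1 ha
      have h1 : ι a ∈ Γ.md (g.w 0) ⊔ Γ.core (g.w 1) := e2 ▸ Γ.core_le _ _ (g.mem 0 (by omega)) hP0 hq
      obtain ⟨v, hv, c, hc, e⟩ := Γ.exists_mul
        ((e2 ▸ le_sup_left : Γ.md (g.w 0) ≤ g.e 0).trans hP1) h1
      have hv' := hv
      rw [em.md] at hv'
      obtain ⟨v', hv'', rfl⟩ := hv'
      have hvP : v' ∈ vS P := by rw [vS_conj S P]; exact hv''
      have h2 : v'⁻¹ * a ∈ (Γ.core (g.w 0) ⊓ Γ.core (g.w 1)).comap ι := by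
        refine ⟨?_, ?_⟩
        · show ι (v'⁻¹ * a) ∈ Γ.core (g.w 0)
          rw [map_mul, map_inv]
          exact mul_mem (inv_mem (Γ.md_le _ hv)) hq
        · show ι (v'⁻¹ * a) ∈ Γ.core (g.w 1)
          rwa [map_mul, map_inv, e, inv_mul_cancel_left]
      have := mul_mem (mem_sup_left (T := (Γ.core (g.w 0) ⊓ Γ.core (g.w 1)).comap ι) hvP)
        (mem_sup_right (S := vS P) h2)
      rwa [mul_inv_cancel_left] at this
  · have hb : Γ.b = 2 := by omega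
    have W0 := g.win hb (i := 0) (by omega)
    have W1 := g.win hb (i := 1) (by omega)
    have W2 := g.win hb (i := 2) (by omega)
    have t0 : ctr (g.e 0) ≠ ctr (g.e 1) := g.turn 0 (by omega)
    have t1 : ctr (g.e 1) ≠ ctr (g.e 2) := g.turn 1 (by omega)
    have hx : Corner Γ (g.w 0) (g.w 1) (g.w 2) (g.w 3) (g.e 0) (g.e 1) (g.e 2) := ⟨hb, W0, W1, t0⟩
    have hy : Corner Γ (g.w 3) (g.w 2) (g.w 1) (g.w 0) (g.e 2) (g.e 1) (g.e 0) := ⟨hb, W1.symm, W0.symm, t1.symm⟩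
    have hy' : Corner Γ (g.w 1) (g.w 2) (g.w 3) (g.w 4) (g.e 1) (g.e 2) (g.e 3) := ⟨hb, W1, W2, t1⟩
    obtain ⟨ι', em'⟩ := hemb (g.w 2)
    obtain ⟨ι, em⟩ := hemb (g.w 1)
    obtain ⟨P, hP, hWn, c⟩ := hx.core2 em hm
    have hinj := em.inj
    have hQ : ∀ k, k ∈ pCore p G ↔ ι k ∈ Γ.core (g.w 1) := fun k => by rw [em.core, mem_map_iff_mem hinj]
    have hV : ∀ k, k ∈ vS P ↔ ι k ∈ Γ.md (g.w 1) := fun k => by
      rw [em.md, mem_map_iff_mem hinj, vS_conj S P]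
    set C := fourCore Γ (g.w 0) (g.w 1) (g.w 2) (g.w 3)
    have hWr : wMod Γ (g.w 1) (g.w 0) (g.w 2) ≤ ι.range := em.grp ▸ hx.mod_le.trans hx.grp_le
    have hCr : C ≤ ι.range := em.grp ▸ fun t ht => hx.grp_le ht.1.1.2
    obtain ⟨hu0, hy0, hx0⟩ := hx.md_le_mod
    have hcrit : ∀ a ∈ (Γ.md (g.w 3)).comap ι, a ∉ pCore p G →
        ∃ v ∈ (wMod Γ (g.w 1) (g.w 0) (g.w 2)).comap ι, ⁅a, ⁅a, v⁆⁆ ∉ center G := by
      intro a ha haQ
      obtain ⟨v, hv, hne⟩ := exists_crit_at hy hy' S em' hm F hF hx ha fun h => haQ ((hQ a).2 h)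
      obtain ⟨v', rfl⟩ : v ∈ ι.range := hWr (hu0 hv)
      refine ⟨v', hu0 hv, fun hc => hne fun k hk => ?_⟩
      have := (mem_center_pull hinj em.grp).1 hc k hk
      rwa [map_commutatorElement, map_commutatorElement] at this
    refine ⟨P, Or.inr ⟨_, _, _, C.comap ι, (Γ.md (g.w 2)).comap ι, (Γ.md (g.w 0)).comap ι, hWn,
      { toCore2 := c
        out := fun b hb' k hk => by
          show ι ⁅b, k⁆ ∈ wMod Γ (g.w 1) (g.w 0) (g.w 2)
          rw [map_commutatorElement]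
          exact hx.near_part.2.2 (ι b) hb' (ι k) ((hQ k).1 hk)
        powW := fun h2 w hw => hinj (by
          rw [map_pow, map_one]
          exact (hx.pow_mod (ι w) hw).2 (hp.out.odd_of_ne_two h2))
        C_le := fun k hk => (hQ k).2 hk.1.1.2
        AC := fun b hb' k hk => hinj (by rw [map_mul, map_mul]; exact (Γ.md_comm _ _ hk.2 _ hb').symm)
        gen := ?_
        crit := ?_
        U_le := fun k hk => hu0 hk
        Y_le := fun k hk => hy0 hk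
        U_comm := fun k hk k' hk' => hinj (by
          rw [map_mul, map_mul]; exact Γ.md_comm _ _ (Γ.md_le _ hk) _ hk')
        Y_comm := fun k hk k' hk' => hinj (by
          rw [map_mul, map_mul]; exact Γ.md_comm _ _ (Γ.md_le _ hk) _ hk')
        AY := fun b hb' k hk => hinj (by
          rw [map_mul, map_mul]
          exact (Γ.md_comm _ _ (hx.md_le_of_adj (Γ.adj_symm hx.near.2.2) hk) _ hb').symm)
        CY := fun k hk k' hk' => hinj (by rw [map_mul, map_mul]; exact Γ.md_comm _ _ hk.1.2 _ hk')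
        CU := fun k hk k' hk' => hinj (by rw [map_mul, map_mul]; exact Γ.md_comm _ _ hk.1.1.1 _ hk')
        decomp := ?_
        fix_Y := ?_
        Y_not := ?_
        crit_at := hcrit }⟩⟩
    · intro k hk
      have h1 := hx.gen ((hQ k).1 hk)
      have hle : (wMod Γ (g.w 1) (g.w 0) (g.w 2) ⊓ centralizer (C : Set 𝕏)) ⊔ C ≤
          (((wMod Γ (g.w 1) (g.w 0) (g.w 2)).comap ι ⊓ centralizer (C.comap ι : Set G)) ⊔ C.comap ι).map ι := by
        refine sup_le (fun t ht => ?_) (fun t ht => ?_)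
        · obtain ⟨t', rfl⟩ := hWr ht.1
          refine ⟨t', mem_sup_left ⟨ht.1, mem_centralizer_iff.2 fun s hs => hinj ?_⟩, rfl⟩
          rw [map_mul, map_mul]
          exact mem_centralizer_iff.1 ht.2 (ι s) hs
        · obtain ⟨t', rfl⟩ := hCr ht
          exact ⟨t', mem_sup_right ht, rfl⟩
      exact (mem_map_iff_mem hinj).1 (hle h1)
    · obtain ⟨a, ha, haQ⟩ := c.exists_out (hm P).hyp
      exact ⟨a, ha, hcrit a ha haQ⟩
    · intro k hk
      obtain ⟨a, ha, b, hb', v, hv, r, hr, e⟩ := corner_decomp hx ((hQ k).1 hk)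
      obtain ⟨a', rfl⟩ := hWr (hu0 ha)
      obtain ⟨b', rfl⟩ := hWr (hy0 hb')
      obtain ⟨v', rfl⟩ := hWr (hx0 hv)
      obtain ⟨r', rfl⟩ := hCr hr
      exact ⟨a', ha, b', hb', v', (hV v').2 hv, r', hr, hinj (by rw [e]; simp only [map_mul])⟩
    · intro w hw k hk hkV hwk
      refine ⟨hw, ?_⟩
      show ι w ∈ Γ.core (g.w 2)
      by_contra hwc
      have hwe : ι w ∈ g.e 1 := Γ.core_le _ _ hx.snd.mem hx.snd.left (hx.mod_le hw)
      have h1 := Γ.fix_le _ _ hx.snd.mem hx.snd.mid (ι w) hwe hwc (ι k) hk (by rw [← map_mul, hwk, map_mul])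
      rw [hP.symm, ctr_map hinj, mem_map_iff_mem hinj] at h1
      exact hkV (zS_le_vS P h1)
    · intro hle
      refine hx.not_all_le fun a ha => ?_
      obtain ⟨a', rfl⟩ : a ∈ ι.range := em.grp ▸ ha
      rintro _ ⟨w, hw, rfl⟩
      obtain ⟨w', rfl⟩ := hWr (hy0 hw)
      refine mem_sup_right ?_
      show ι a' * ι w' * (ι a')⁻¹ ∈ _
      rw [← map_inv, ← map_mul, ← map_mul]
      exact (hV _).1 ((vS_normal P).conj_mem w' (hle hw) a')

/-- One of the two configurations occurs, with the neighbouring modules kept. -/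
theorem exists_data {S : Sylow p G} (h : Hyp n S K) (hT : TorusComm p (G ⧸ K)) (hd : NoChar S) (F : Type) [Field F]
    [Fintype F] (hF : Fintype.card F = p ^ n) :
    ∃ P : Sylow p G, (∃ A B, Case1 P A B) ∨ ∃ W A H C Y U, W.Normal ∧ BlockData n P W A H C Y U := by
  classical
  let τ : Unit → (↥(S : Subgroup G) →* G) := fun _ => (S : Subgroup G).subtype
  have M : Members (G := fun _ : Unit => G) τ n (fun _ => S) (fun _ => K) :=
    ⟨fun _ => Subtype.coe_injective, fun _ => (Subgroup.range_subtype _).symm, fun _ P => memHyp_all h hT hd P,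
      fun _ => hd⟩
  let Γ := amalOf M F hF
  have hbad : Γ.Bad := amalOf_bad M F hF
  have hm : ∀ P : Sylow p G, MemHyp n P K := fun P => memHyp_all h hT hd P
  have hemb : ∀ v : Vtx τ, ∃ ι : G →* Over τ, Emb p S ι (Γ.grp v) (Γ.core v) (Γ.md v) Γ.edges := fun v => by
    obtain ⟨g, hg⟩ := vertex_rep v
    rw [hg]
    exact ⟨vHom v.1 g, emb_vertex M v.1 g⟩
  obtain ⟨P, hP⟩ := block_of_amal hbad hemb hm F hF
  exact ⟨P, hP.imp And.right id⟩

end CfsgLib.LocalEven.PushMin
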