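import Cfsg.Agent.Lib.Classical.SmallIso.PSL2
import Cfsg.Agent.Lib.LocalEven.FaithfulBound.ModelL2

/-!
Facts on `SL₂(F)` and its invariant forms on the natural module.
-/

set_option autoImplicit false

namespace CfsgLib.LocalEven.PushMin

open Subgroup Matrix
open CfsgLib.LocalEven.FaithfulBound (upper lower upper00 upper01 upper10 upper11 lower00 lower01 lower10 lower11)
open scoped commutatorElement

variable {F : Type} [Field F]

theorem sl_two_sq {M : SpecialLinearGroup (Fin 2) F} (h2 : (2 : F) ≠ 0) (h : M * M = 1) :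
    M = 1 ∨ M = -1 := by
  have e := congrArg Subtype.val h
  have e00 := congrFun (congrFun e 0) 0
  have e01 := congrFun (congrFun e 0) 1
  have e10 := congrFun (congrFun e 1) 0
  have e11 := congrFun (congrFun e 1) 1
  have hd : M.1 0 0 * M.1 1 1 - M.1 0 1 * M.1 1 0 = 1 := by rw [← Matrix.det_fin_two]; exact M.2
  simp [Matrix.mul_apply, Fin.sum_univ_two] at e00 e01 e10 e11
  set a := M.1 0 0 with ha
  set b := M.1 0 1 with hb
  set c := M.1 1 0 with hc
  set d := M.1 1 1 with hd'
  have hs : a + d ≠ 0 := fun hs => h2 (by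
    have : d = -a := by linear_combination hs
    rw [this] at hd
    linear_combination -hd - e00)
  have hb0 : b = 0 := by
    have : b * (a + d) = 0 := by linear_combination e01
    exact (mul_eq_zero.1 this).resolve_right hs
  have hc0 : c = 0 := by
    have : c * (a + d) = 0 := by linear_combination e10
    exact (mul_eq_zero.1 this).resolve_right hs
  rw [hb0, hc0] at hd e00
  have hsq : a * a = 1 := by linear_combination e00
  rcases mul_self_eq_one_iff.1 hsq with e | e
  · refine Or.inl (Subtype.ext (Matrix.ext fun i j => ?_))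
    have hd1 : d = 1 := by rw [e] at hd; linear_combination hd
    fin_cases i <;> fin_cases j <;> simp [← ha, ← hb, ← hc, ← hd', e, hb0, hc0, hd1]
  · refine Or.inr (Subtype.ext (Matrix.ext fun i j => ?_))
    have hd1 : d = -1 := by rw [e] at hd; linear_combination -hd
    fin_cases i <;> fin_cases j <;> simp [← ha, ← hb, ← hc, ← hd', e, hb0, hc0, hd1]

/-- An invariant alternating biadditive form on the natural module factors through the determinant. -/
theorem exists_det_form {M : Type*} [AddCommGroup M] (B : (Fin 2 → F) → (Fin 2 → F) → M)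
    (hl : ∀ u v w, B (u + v) w = B u w + B v w) (hr : ∀ u v w, B u (v + w) = B u v + B u w)
    (halt : ∀ v, B v v = 0)
    (hinv : ∀ (g : SpecialLinearGroup (Fin 2) F) v w, B ((g : Matrix (Fin 2) (Fin 2) F).mulVec v)
      ((g : Matrix (Fin 2) (Fin 2) F).mulVec w) = B v w) :
    ∃ φ : F →+ M, ∀ v w, B v w ∈ φ.range := by
  set e1 : F → (Fin 2 → F) := fun a => ![a, 0] with he1
  set e2 : F → (Fin 2 → F) := fun a => ![0, a] with he2
  have h10 : ∀ w, B 0 w = 0 := fun w => by
    have h := hl 0 0 w
    rw [add_zero] at h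
    exact left_eq_add.1 h
  have hnull1 : ∀ a c : F, B (e1 a) (e1 c) = 0 := by
    intro a c
    have h := hinv (upper c) (e1 a) (e2 1)
    have k1 : (upper c : SpecialLinearGroup (Fin 2) F).1.mulVec (e1 a) = e1 a := by
      ext i; fin_cases i <;> simp [he1, Matrix.mulVec, dotProduct, Fin.sum_univ_two, upper00, upper10]
    have k2 : (upper c : SpecialLinearGroup (Fin 2) F).1.mulVec (e2 1) = e1 c + e2 1 := by
      ext i; fin_cases i <;> simp [he1, he2, Matrix.mulVec, dotProduct, Fin.sum_univ_two, upper01, upper11]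
    rw [k1, k2, hr] at h
    exact add_eq_right.1 h
  have hnull2 : ∀ b c : F, B (e2 c) (e2 b) = 0 := by
    intro b c
    have h := hinv (lower c) (e1 1) (e2 b)
    have k1 : (lower c : SpecialLinearGroup (Fin 2) F).1.mulVec (e1 1) = e1 1 + e2 c := by
      ext i; fin_cases i <;> simp [he1, he2, Matrix.mulVec, dotProduct, Fin.sum_univ_two, lower00, lower10]
    have k2 : (lower c : SpecialLinearGroup (Fin 2) F).1.mulVec (e2 b) = e2 b := by
      ext i; fin_cases i <;> simp [he2, Matrix.mulVec, dotProduct, Fin.sum_univ_two, lower01, lower11]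
    rw [k1, k2, hl] at h
    exact add_left_cancel (h.trans (add_zero _).symm)
  let φ : F →+ M := AddMonoidHom.mk' (fun b => B (e1 1) (e2 b)) fun b b' => by
    rw [← hr]
    congr 1
    ext i; fin_cases i <;> simp [he2]
  have htor : ∀ a b : F, B (e1 a) (e2 b) = φ (a * b) := by
    intro a b
    by_cases ha : a = 0
    · subst ha
      rw [zero_mul, map_zero, show e1 0 = 0 by ext i; fin_cases i <;> simp [he1]]
      exact h10 _
    let g : SpecialLinearGroup (Fin 2) F := ⟨!![a, 0; 0, a⁻¹], by simp [Matrix.det_fin_two, ha]⟩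
    have h := hinv g (e1 1) (e2 (a * b))
    have k1 : g.1.mulVec (e1 1) = e1 a := by
      ext i; fin_cases i <;> simp [g, he1, Matrix.mulVec, dotProduct, Fin.sum_univ_two]
    have k2 : g.1.mulVec (e2 (a * b)) = e2 b := by
      ext i; fin_cases i <;> simp [g, he2, Matrix.mulVec, dotProduct, Fin.sum_univ_two, ha]
    rw [k1, k2] at h
    exact h
  have hskew : ∀ a b : F, B (e2 b) (e1 a) = -φ (a * b) := by
    intro a b
    have h := halt (e1 a + e2 b)
    rw [hl, hr, hr, hnull1, hnull2, htor, zero_add, add_zero] at h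
    exact (neg_eq_of_add_eq_zero_right h).symm
  refine ⟨φ, fun v w => ?_⟩
  have hv : ∀ v : Fin 2 → F, v = e1 (v 0) + e2 (v 1) := fun v => by
    ext i; fin_cases i <;> simp [he1, he2]
  rw [hv v, hv w, hl, hr, hr, hnull1, hnull2, htor, hskew, zero_add, add_zero]
  exact add_mem ⟨_, rfl⟩ (neg_mem ⟨_, rfl⟩)

/-- A normal subgroup supplemented by an abelian one contains the derived group. -/
theorem commutator_le_of_supplement {X : Type*} [Group X] {N T : Subgroup X} [N.Normal] (h : N ⊔ T = ⊤)
    (hT : ∀ x ∈ T, ∀ y ∈ T, x * y = y * x) : commutator X ≤ N := by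
  rw [commutator_def]
  refine commutator_le.2 fun x _ y _ => (QuotientGroup.eq_one_iff _).1 ?_
  set π := QuotientGroup.mk' N
  have hmem : ∀ z : X, ∃ t ∈ T, π z = π t := fun z => by
    have hz : z ∈ (N ⊔ T : Subgroup X) := h ▸ mem_top z
    rw [← SetLike.mem_coe, normal_mul] at hz
    obtain ⟨a, ha, t, ht, rfl⟩ := hz
    exact ⟨t, ht, by
      show π (a * t) = π t
      rw [map_mul, show π a = 1 from (QuotientGroup.eq_one_iff a).2 ha, one_mul]⟩
  obtain ⟨s, hs, es⟩ := hmem x
  obtain ⟨t, ht, et⟩ := hmem y
  show π ⁅x, y⁆ = 1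
  rw [map_commutatorElement, es, et, ← map_commutatorElement, commutatorElement_eq_one_iff_mul_comm.2 (hT s hs t ht),
    map_one]

/-- The elements of order prime to the characteristic lie in the derived group. -/
theorem mem_commutator_of_coprime [Fintype F] {p : ℕ} [CharP F p] {g : SpecialLinearGroup (Fin 2) F}
    (hg : (orderOf g).Coprime p) : g ∈ commutator (SpecialLinearGroup (Fin 2) F) := by
  let f := Abelianization.of (G := SpecialLinearGroup (Fin 2) F)
  let H : Subgroup (SpecialLinearGroup (Fin 2) F) := ((powMonoidHom p).comp f).ker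
  have htop : H = ⊤ := CfsgLib.Classical.SL_le_of_transvections _ fun i j hij c => by
    show f _ ^ p = 1
    rw [← map_pow, CfsgLib.Classical.SmallIso.transvection_pow p hij c, map_one]
  have h1 : f g ^ p = 1 := (htop.ge (mem_top g) : g ∈ H)
  have h2 : f g = 1 := orderOf_eq_one_iff.1 (Nat.eq_one_of_dvd_coprimes hg.symm
    (orderOf_dvd_of_pow_eq_one h1) (orderOf_map_dvd f g))
  rwa [← MonoidHom.mem_ker, Abelianization.ker_of] at h2

end CfsgLib.LocalEven.PushMin
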