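import Cfsg.Agent.Lib.LocalEven.PushMin.Case2Data
import Cfsg.Agent.Lib.LocalEven.PushMin.ExcSL
import Cfsg.Agent.Lib.LocalEven.PushUp.NearComp
import Cfsg.Agent.Lib.Transfer.Abelian

/-!
The configuration of critical length two: the commutator of the core with `O^p`.
-/

set_option autoImplicit false

namespace CfsgLib.LocalEven.PushMin

open Cfsg Subgroup
open CfsgLib.LocalEven.RankOne
open CfsgLib.LocalEven.PushUp
open scoped commutatorElement

variable {G : Type*} [Group G] [Finite G] {p n : ℕ} [hp : Fact p.Prime] {P : Sylow p G}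
variable {K : Subgroup G} [K.Normal] {W A H C Y U : Subgroup G} [W.Normal] {F : Type} [Field F] [Fintype F]

/-- The commutator of the core with the elements of order prime to `p`. -/
abbrev rSub (p : ℕ) (G : Type*) [Group G] : Subgroup G := ⁅pCore p G, cop p G⁆

/-- The action on a natural section, as a pair of homomorphisms. -/
theorem exists_action {h : Hyp n P K} {U₁ Y₁ : Subgroup G} [U₁.Normal] [Y₁.Normal] (hs : SecHyp n P U₁ Y₁)
    (hf : SecFacts F n P h U₁ Y₁)
    (hc : Nat.card (G ⧸ pCore p G) = Nat.card (Matrix.SpecialLinearGroup (Fin 2) F)) :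
    ∃ (ρ : G →* Matrix.SpecialLinearGroup (Fin 2) F) (ψ : ↥U₁ →* Multiplicative (Fin 2 → F)),
      Function.Surjective ρ ∧ ρ.ker = pCore p G ∧ Function.Surjective ψ ∧ (∀ u : ↥U₁, ψ u = 1 ↔ (u : G) ∈ Y₁) ∧
      ∀ (g : G) (u w : ↥U₁), (w : G) = g * (u : G) * g⁻¹ → Multiplicative.toAdd (ψ w) =
        ((ρ g : Matrix.SpecialLinearGroup (Fin 2) F) : Matrix (Fin 2) (Fin 2) F).mulVec
          (Multiplicative.toAdd (ψ u)) := by
  set π := QuotientGroup.mk' Y₁ with hπ
  obtain ⟨-, ρb, ψ0, hρb, -, hact⟩ := hf.natural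
  let ρ : G →* Matrix.SpecialLinearGroup (Fin 2) F :=
    (ρb.comp (Subgroup.topEquiv (G := G ⧸ Y₁)).symm.toMonoidHom).comp π
  let ψ : ↥U₁ →* Multiplicative (Fin 2 → F) :=
    MonoidHom.mk' (fun u => Multiplicative.ofAdd (ψ0 (Additive.ofMul ⟨π u, u, u.2, rfl⟩))) fun u v => by
      rw [← ofAdd_add, ← map_add]
      congr 2
  have hψs : Function.Surjective ψ := fun x => by
    obtain ⟨m, hm⟩ := ψ0.surjective (Multiplicative.toAdd x)
    obtain ⟨u, hu, e⟩ := (Additive.toMul m).2
    refine ⟨⟨u, hu⟩, ?_⟩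
    show Multiplicative.ofAdd _ = x
    rw [show (Additive.ofMul ⟨π u, u, hu, rfl⟩ : Additive ↥(U₁.map π)) = m from
      congrArg Additive.ofMul (Subtype.ext e), hm]
    rfl
  have hψk : ∀ u : ↥U₁, ψ u = 1 ↔ (u : G) ∈ Y₁ := fun u => by
    rw [← QuotientGroup.eq_one_iff (N := Y₁)]
    show Multiplicative.ofAdd _ = 1 ↔ π (u : G) = 1
    rw [ofAdd_eq_one, map_eq_zero_iff ψ0 ψ0.injective, ofMul_eq_zero]
    exact ⟨fun e => congrArg Subtype.val e, fun e => Subtype.ext e⟩
  have heq : ∀ (g : G) (u w : ↥U₁), (w : G) = g * (u : G) * g⁻¹ → Multiplicative.toAdd (ψ w) =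
      ((ρ g : Matrix.SpecialLinearGroup (Fin 2) F) : Matrix (Fin 2) (Fin 2) F).mulVec
        (Multiplicative.toAdd (ψ u)) := by
    intro g u w hw
    obtain ⟨w', hw', e⟩ := hact ⟨π g, mem_top _⟩ ⟨π u, u, u.2, rfl⟩
    show ψ0 (Additive.ofMul _) = _
    rw [show (⟨π w, w, w.2, rfl⟩ : ↥(U₁.map π)) = w' from Subtype.ext (by
      rw [hw']
      show π w = π g * π u * (π g)⁻¹
      rw [hw, map_mul, map_mul, map_inv])]
    exact e
  have hρs : Function.Surjective ρ := by
    intro x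
    obtain ⟨⟨y, hy⟩, e⟩ := hρb x
    obtain ⟨g, rfl⟩ := QuotientGroup.mk'_surjective Y₁ y
    exact ⟨g, e⟩
  refine ⟨ρ, ψ, hρs, ?_, hψs, hψk, heq⟩
  have hle : pCore p G ≤ ρ.ker := fun g hg => by
    refine MonoidHom.mem_ker.2 (Subtype.ext (Matrix.toLin'.injective (LinearMap.ext fun v => ?_)))
    obtain ⟨u, hu⟩ := hψs (Multiplicative.ofAdd v)
    let w : ↥U₁ := ⟨g * u * g⁻¹, ‹U₁.Normal›.conj_mem u u.2 g⟩
    have h1 : ψ w = ψ u := by
      have h0 : w = ⟨⁅g, (u : G)⁆, commutator_le_right ⊤ U₁ (commutator_mem_commutator (mem_top g) u.2)⟩ * u :=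
        Subtype.ext (by simp [w, commutatorElement_def])
      rw [h0, map_mul, (hψk _).2 (hs.triv g hg u u.2), one_mul]
    have h2 := heq g u w rfl
    rw [h1, hu, toAdd_ofAdd] at h2
    simp only [Matrix.SpecialLinearGroup.coe_one, Matrix.toLin'_apply, Matrix.one_mulVec]
    exact h2.symm
  refine (eq_of_le_of_card_ge hle ?_).symm
  have e1 := (pCore p G).card_mul_index
  have e2 := ρ.ker.card_mul_index
  rw [← Nat.card_congr (QuotientGroup.quotientKerEquivOfSurjective ρ hρs).toEquiv] at hc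
  rw [index_eq_card, ← hc, ← index_eq_card] at e2
  rw [index_eq_card, ← index_eq_card] at e1
  exact (Nat.eq_of_mul_eq_mul_right (Nat.pos_of_ne_zero index_ne_zero_of_finite) (e1.trans e2.symm)).ge

theorem BlockData.card_quot (c : BlockData n P W A H C Y U) (m : MemHyp n P K) (hF : Fintype.card F = p ^ n) :
    Nat.card (G ⧸ pCore p G) = Nat.card (Matrix.SpecialLinearGroup (Fin 2) F) := by
  obtain ⟨e⟩ := (c.toCase2.natural m F hF).1
  exact Nat.card_congr e.toEquiv

/-- An element acting as minus one on both sections. -/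
structure Invol (p : ℕ) {G : Type*} [Group G] [Finite G] (P : Sylow p G) (W : Subgroup G) (t : G) : Prop where
  mem_cop : t ∈ cop p G
  comm_core : ∀ g : G, ⁅t, g⁆ ∈ pCore p G
  sq : t * t ∈ pCore p G
  onV : ∀ v ∈ vS P, t * v * t⁻¹ * v ∈ center G
  onW : ∀ w ∈ W, t * w * t⁻¹ * w ∈ xSub p P W

theorem BlockData.exists_invol (c : BlockData n P W A H C Y U) (m : MemHyp n P K) (hF : Fintype.card F = p ^ n) :
    ∃ t, Invol p P W t := by
  have f := m.facts F hF
  have s : SecondFacts F n P m.hyp W H := c.toCore2.second m hF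
  have hc := c.card_quot m hF
  have h3 := c.toCase2.eq_three m F hF
  haveI : CharP F p := charP_of_card_eq_prime_pow hF
  have h2 : (2 : F) ≠ 0 := by
    intro e
    have := (CharP.cast_eq_zero_iff F p 2).1 (by exact_mod_cast e)
    have h' := Nat.le_of_dvd (by norm_num) this
    omega
  haveI : (vS P ⊓ center G).Normal := normal_of_le_center inf_le_right
  obtain ⟨ρ, ψ, hρ, hk, hψ, hψk, hact⟩ := exists_action f.hypS f.sec hc
  obtain ⟨ρ', ψ', hρ', hk', hψ', hψk', hact'⟩ := exists_action s.hypS s.sec hc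
  obtain ⟨t₀, ht₀⟩ := hρ (-1)
  obtain ⟨i, l, hl, he⟩ := Nat.exists_eq_pow_mul_and_not_dvd (orderOf_pos t₀).ne' p hp.out.ne_one
  set t := t₀ ^ p ^ i with ht
  have hneg : (-1 : Matrix.SpecialLinearGroup (Fin 2) F) * -1 = 1 := by
    apply Subtype.ext
    simp
  have hρt : ρ t = -1 := by
    rw [ht, map_pow, ht₀]
    obtain ⟨k, hk⟩ := (hp.out.odd_of_ne_two (by omega)).pow (n := i)
    rw [hk, pow_add, pow_mul, pow_two, hneg, one_pow, one_mul, pow_one]
  have hcent : ∀ g, ρ t * ρ g = ρ g * ρ t := fun g => by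
    rw [hρt]
    apply Subtype.ext
    simp
  have hsq : t * t ∈ pCore p G := by rw [← hk, MonoidHom.mem_ker, map_mul, hρt, hneg]
  have htQ : t ∉ pCore p G := by
    rw [← hk, MonoidHom.mem_ker, hρt]
    intro e
    have := congrFun (congrFun (congrArg Subtype.val e) 0) 0
    simp at this
    exact h2 (by linear_combination -this)
  have hρ't : ρ' t = -1 := by
    refine (sl_two_sq h2 ?_).resolve_left fun e => htQ ?_
    · rwa [← map_mul, ← MonoidHom.mem_ker, hk']
    · rwa [← hk', MonoidHom.mem_ker]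
  refine ⟨t, mem_cop ?_, fun g => ?_, hsq, fun v hv => ?_, fun w hw => ?_⟩
  · rw [ht, orderOf_pow, he, Nat.gcd_eq_right (dvd_mul_right _ _), Nat.mul_div_cancel_left _ (pow_pos hp.out.pos i)]
    exact hl
  · rw [← hk, MonoidHom.mem_ker, map_commutatorElement, commutatorElement_eq_one_iff_mul_comm]
    exact hcent g
  · refine ((hψk (⟨t * v * t⁻¹, (vS_normal P).conj_mem v hv t⟩ * ⟨v, hv⟩)).1 ?_).2
    refine Multiplicative.toAdd.injective ?_
    rw [map_mul, toAdd_mul, hact t ⟨v, hv⟩ _ rfl, hρt]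
    simp [Matrix.neg_mulVec]
  · refine (hψk' (⟨t * w * t⁻¹, ‹W.Normal›.conj_mem w hw t⟩ * ⟨w, hw⟩)).1 ?_
    refine Multiplicative.toAdd.injective ?_
    rw [map_mul, toAdd_mul, hact' t ⟨w, hw⟩ _ rfl, hρ't]
    simp [Matrix.neg_mulVec]

omit [W.Normal] in
theorem BlockData.mod_comm (c : BlockData n P W A H C Y U) {g w : G} (hg : g ∈ pCore p G) (hw : w ∈ W) :
    Commute (QuotientGroup.mk' (center G) g) (QuotientGroup.mk' (center G) w) := by
  rw [commute_iff_eq, ← commutatorElement_eq_one_iff_mul_comm, ← map_commutatorElement]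
  exact (QuotientGroup.eq_one_iff _).2 (c.comm g hg w hw)

theorem BlockData.mem_center_of_sq (c : BlockData n P W A H C Y U) {r : G} (hr : r ∈ W) {Z : Subgroup G}
    (h : r * r ∈ Z) : r ∈ Z := by
  obtain ⟨k, hk⟩ := hp.out.odd_of_ne_two c.toCase2.ne_two
  have h1 : r = ((r * r) ^ k)⁻¹ := by
    rw [eq_inv_iff_mul_eq_one, ← pow_two, ← pow_mul, ← pow_succ', ← hk]
    exact c.powW c.toCase2.ne_two r hr
  rw [h1]
  exact inv_mem (pow_mem h k)

/-- Commutators with `cop` are inverted by the involution modulo the centre. -/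
theorem BlockData.inverted (c : BlockData n P W A H C Y U) (m : MemHyp n P K) {t : G} (it : Invol p P W t)
    {g w : G} (hg : g ∈ cop p G) (hw : w ∈ W) : t * ⁅g, w⁆ * t⁻¹ * ⁅g, w⁆ ∈ center G := by
  set π := QuotientGroup.mk' (center G) with hπ
  have hmk : ∀ {x}, π x = 1 ↔ x ∈ center G := QuotientGroup.eq_one_iff _
  have hwQ := c.W_le hw
  set k := g⁻¹ * t * g * t⁻¹ with hk'
  have hk : k ∈ pCore p G := by
    rw [hk', show g⁻¹ * t * g * t⁻¹ = g⁻¹ * ⁅t, g⁆ * g by simp only [commutatorElement_def]; group]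
    simpa using (inferInstance : (pCore p G).Normal).conj_mem _ (it.comm_core g) g⁻¹
  have hct : t * g * t⁻¹ = g * (g⁻¹ * ⁅t, g⁆ * g) := by simp only [commutatorElement_def]; group
  have hk2 : g⁻¹ * ⁅t, g⁆ * g ∈ pCore p G := by
    simpa using (inferInstance : (pCore p G).Normal).conj_mem _ (it.comm_core g) g⁻¹
  set l := g⁻¹ * ⁅t, g⁆ * g with hl
  have hconjl : ∀ x ∈ W, π ⁅g * l, x⁆ = π ⁅g, x⁆ := fun x hx => by
    rw [show ⁅g * l, x⁆ = g * ⁅l, x⁆ * g⁻¹ * ⁅g, x⁆ by simp only [commutatorElement_def]; group]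
    simp only [map_mul, map_inv, hmk.2 (c.comm l hk2 x hx), mul_one, mul_inv_cancel, one_mul]
  have hcW : ∀ x ∈ W, ⁅g, x⁆ ∈ W := fun x hx =>
    commutator_le_right ⊤ W (commutator_mem_commutator (mem_top g) hx)
  set e := t * w * t⁻¹ * w with he
  have heX := it.onW w hw
  have heW : e ∈ W := heX.1
  have hadd : ∀ x ∈ W, ∀ y ∈ W, π ⁅g, x * y⁆ = π ⁅g, x⁆ * π ⁅g, y⁆ := fun x hx y hy => by
    rw [show ⁅g, x * y⁆ = ⁅g, x⁆ * (x * ⁅g, y⁆ * x⁻¹) by simp only [commutatorElement_def]; group, map_mul,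
      map_mul, map_mul, map_inv, (c.mod_comm (c.W_le hx) (hcW y hy)).eq, mul_inv_cancel_right]
  -- the commutator of the sum
  have e1 : π (t * ⁅g, w⁆ * t⁻¹) * π ⁅g, w⁆ = π ⁅g, e⁆ := by
    rw [show t * ⁅g, w⁆ * t⁻¹ = ⁅t * g * t⁻¹, t * w * t⁻¹⁆ by simp only [commutatorElement_def]; group, hct,
      hconjl _ (‹W.Normal›.conj_mem w hw t), he, hadd _ (‹W.Normal›.conj_mem w hw t) _ hw]
  -- the commutator of the sum is fixed and inverted
  set r := ⁅g, e⁆ with hr
  have hrV : r ∈ vS P := heX.2 g hg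
  have hte : π (t * e * t⁻¹) = π e := by
    rw [he, show t * (t * w * t⁻¹ * w) * t⁻¹ = t * t * w * (t * t)⁻¹ * (t * w * t⁻¹) by group]
    simp only [map_mul, map_inv]
    have h1 := c.mod_comm it.sq hw
    rw [map_mul] at h1
    rw [h1.eq, mul_inv_cancel_right]
    have h2 := (c.mod_comm hwQ (‹W.Normal›.conj_mem w hw t)).eq
    rw [map_mul, map_mul, map_inv] at h2
    exact h2
  have e2 : π (t * r * t⁻¹) = π r := by
    rw [hr, show t * ⁅g, e⁆ * t⁻¹ = ⁅t * g * t⁻¹, t * e * t⁻¹⁆ by simp only [commutatorElement_def]; group, hct,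
      hconjl _ (‹W.Normal›.conj_mem e heW t), map_commutatorElement, map_commutatorElement, hte]
  have hrc : r ∈ center G := by
    refine c.mem_center_of_sq (c.toCore2.V_le_W hrV) (hmk.1 ?_)
    have h3 := hmk.2 (it.onV r hrV)
    rwa [map_mul, e2, ← map_mul] at h3
  rw [← hmk, map_mul, e1]
  exact hmk.2 hrc

omit [Finite G] hp in
theorem rSub_le_cop : rSub p G ≤ cop p G := commutator_le_right _ _

omit [Finite G] hp in
theorem rSub_le_core : rSub p G ≤ pCore p G := commutator_le_left _ _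

/-- Coprime action: commuting twice is commuting once. -/
theorem rSub_comm : ⁅rSub p G, cop p G⁆ = rSub p G := by
  refine le_antisymm (commutator_le_left _ _) ?_
  set N := ⁅rSub p G, cop p G⁆ with hN
  suffices hle : cop p G ≤ actKer (pCore p G) N by
    refine commutator_le.2 fun u hu g hg => ?_
    rw [← commutatorElement_inv]
    exact inv_mem (hle hg u hu)
  refine (closure_le _).2 fun g hg u hu => ?_
  set π := QuotientGroup.mk' N with hπ
  have hmk : ∀ {x}, π x = 1 ↔ x ∈ N := QuotientGroup.eq_one_iff _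
  have h1 := commute_of_step (G := G ⧸ N) (N := (pCore p G).map π) (V := (rSub p G).map π)
    ((CfsgLib.Cores.isPGroup_pCore p).map π) (Subgroup.map_mono rSub_le_core) (x := π g)
    ((hp.out.coprime_iff_not_dvd.2 (fun h => hg (h.trans (orderOf_map_dvd π g)))).symm) ?_ ?_
    (π u) ⟨u, hu, rfl⟩
  · rwa [← commutatorElement_eq_one_iff_mul_comm, ← map_commutatorElement, hmk] at h1
  · rintro _ ⟨v, hv, rfl⟩
    rw [← map_commutatorElement]
    refine ⟨_, ?_, rfl⟩
    rw [← commutatorElement_inv]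
    exact inv_mem (commutator_mem_commutator hv (mem_cop hg))
  · rintro _ ⟨v, hv, rfl⟩
    rw [← commutatorElement_eq_one_iff_mul_comm, ← map_commutatorElement, hmk, ← commutatorElement_inv]
    exact inv_mem (commutator_mem_commutator hv (mem_cop hg))

theorem BlockData.rSub_le (c : BlockData n P W A H C Y U) (m : MemHyp n P K) (hF : Fintype.card F = p ^ n) :
    rSub p G ≤ W := by
  have hk := (c.toCase2.kills_le m (m.facts F hF)).2
  refine commutator_le.2 fun u hu g hg => ?_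
  rw [← commutatorElement_inv]
  exact inv_mem (hk hg u hu)

theorem BlockData.rSub_inverted (c : BlockData n P W A H C Y U) (m : MemHyp n P K) (hF : Fintype.card F = p ^ n)
    {t : G} (it : Invol p P W t) {r : G} (hr : r ∈ rSub p G) : t * r * t⁻¹ * r ∈ center G := by
  set π := QuotientGroup.mk' (center G) with hπ
  have hmk : ∀ {x}, π x = 1 ↔ x ∈ center G := QuotientGroup.eq_one_iff _
  let T : Subgroup G :=
    { carrier := {x | x ∈ W ∧ π (t * x * t⁻¹) = (π x)⁻¹}
      one_mem' := ⟨one_mem W, by simp⟩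
      mul_mem' := fun {x y} hx hy => ⟨mul_mem hx.1 hy.1, by
        rw [show t * (x * y) * t⁻¹ = t * x * t⁻¹ * (t * y * t⁻¹) by group, map_mul π (t * x * t⁻¹), hx.2, hy.2,
          map_mul, mul_inv_rev]
        exact ((c.mod_comm (c.W_le hx.1) hy.1).inv_left.inv_right).eq⟩
      inv_mem' := fun {x} hx => ⟨inv_mem hx.1, by
        rw [show t * x⁻¹ * t⁻¹ = (t * x * t⁻¹)⁻¹ by group, map_inv π (t * x * t⁻¹), hx.2, map_inv]⟩ }
  have hle : ⁅rSub p G, cop p G⁆ ≤ T := commutator_le.2 fun w hw g hg => by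
    rw [← commutatorElement_inv]
    refine inv_mem (show ⁅g, w⁆ ∈ T from
      ⟨commutator_le_right ⊤ W (commutator_mem_commutator (mem_top g) (c.rSub_le m hF hw)), ?_⟩)
    rw [eq_inv_iff_mul_eq_one, ← map_mul, hmk]
    exact c.inverted m it hg (c.rSub_le m hF hw)
  have h1 := (hle (rSub_comm.ge hr)).2
  rwa [eq_inv_iff_mul_eq_one, ← map_mul, hmk] at h1

theorem BlockData.rSub_inf_x (c : BlockData n P W A H C Y U) (m : MemHyp n P K) (hF : Fintype.card F = p ^ n) :
    rSub p G ⊓ xSub p P W = rSub p G ⊓ vS P := by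
  refine le_antisymm (fun r hr => ⟨hr.1, ?_⟩) (fun r hr => ⟨hr.1, c.toCore2.V_le_W hr.2, fun g _ =>
    commutator_le_right ⊤ (vS P) (commutator_mem_commutator (mem_top g) hr.2)⟩)
  obtain ⟨t, it⟩ := c.exists_invol m hF
  have hrW := c.rSub_le m hF hr.1
  have h1 : ⁅t, r⁆ ∈ vS P := hr.2.2 t it.mem_cop
  have h2 : t * r * t⁻¹ * r ∈ vS P := zS_le_vS P (c.toCore2.zS_of_center
    (mul_mem (‹W.Normal›.conj_mem r hrW t) hrW) (c.rSub_inverted m hF it hr.1))
  refine c.mem_center_of_sq hrW ?_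
  have h3 := mul_mem (inv_mem h1) h2
  convert h3 using 1
  simp only [commutatorElement_def]
  group

theorem BlockData.rSub_fixed (c : BlockData n P W A H C Y U) (m : MemHyp n P K) (hF : Fintype.card F = p ^ n)
    {r : G} (hr : r ∈ rSub p G) (hfix : ∀ g ∈ cop p G, g * r = r * g) : r ∈ center G := by
  obtain ⟨t, it⟩ := c.exists_invol m hF
  have h1 := c.rSub_inverted m hF it hr
  rw [hfix t it.mem_cop, mul_inv_cancel_right] at h1
  exact c.mem_center_of_sq (c.rSub_le m hF hr) h1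

theorem BlockData.rSub_sup_x (c : BlockData n P W A H C Y U) (m : MemHyp n P K) (hF : Fintype.card F = p ^ n) :
    rSub p G ⊔ xSub p P W = W := by
  have s : SecondFacts F n P m.hyp W H := c.toCore2.second m hF
  have hc := s.sec.chief s.hypS
  rcases hc.2.2.2 (rSub p G ⊔ xSub p P W) inferInstance le_sup_right
    (sup_le (c.rSub_le m hF) s.hypS.le) with e | e
  · refine absurd (fun g hg u hu => e.le ?_) (chief_not_cop m.hyp hc c.W_le s.hypS.noncentral)
    rw [← commutatorElement_inv]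
    exact inv_mem (mem_sup_left (commutator_mem_commutator (c.W_le hu) hg))
  · exact e

theorem BlockData.rSub_sup_z (c : BlockData n P W A H C Y U) (m : MemHyp n P K) (hF : Fintype.card F = p ^ n) :
    (rSub p G ⊓ vS P) ⊔ (vS P ⊓ center G) = vS P := by
  have f := m.facts F hF
  haveI : (vS P ⊓ center G).Normal := normal_of_le_center inf_le_right
  have hc := f.sec.chief f.hypS
  haveI : (rSub p G ⊓ vS P).Normal := Subgroup.normal_inf_normal _ _
  have hVQ : vS P ≤ pCore p G := m.hyp.vS_le.trans inf_le_left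
  rcases hc.2.2.2 ((rSub p G ⊓ vS P) ⊔ (vS P ⊓ center G)) inferInstance le_sup_right
    (sup_le inf_le_right inf_le_left) with e | e
  · refine absurd (fun g hg u hu => e.le ?_) (chief_not_cop m.hyp hc hVQ f.hypS.noncentral)
    rw [← commutatorElement_inv]
    exact inv_mem (mem_sup_left ⟨commutator_mem_commutator (hVQ hu) hg,
      commutator_le_left (vS P) ⊤ (commutator_mem_commutator hu (mem_top g))⟩)
  · exact e

end CfsgLib.LocalEven.PushMin
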