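import Cfsg.Agent.Lib.LocalEven.PushMin.MemberDef
import Cfsg.Agent.Lib.LocalEven.PushUp.Coprime
import Cfsg.Agent.Lib.LocalEven.ChainStab

/-!
Coprime elements on a section, and the kernel of the action on the module.
-/

set_option autoImplicit false

namespace CfsgLib.LocalEven.PushMin

open Cfsg Subgroup
open CfsgLib.LocalEven.PushUp (actKer commute_of_step)
open scoped commutatorElement

section Coprime

variable {G : Type*} [Group G] {p : ℕ} [hp : Fact p.Prime]

omit hp in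
/-- A power of a twisted product. -/
theorem pow_comm_mem {W : Subgroup G} {x q c : G} (hc : ⁅x, q⁆ = c) (hxW : ∀ w ∈ W, x * w * x⁻¹ ∈ W)
    (hxc : ⁅x, c⁆ ∈ W) (hcW : ∀ w ∈ W, Commute c w) :
    ∀ k : ℕ, x ^ k * q * (x ^ k)⁻¹ * q⁻¹ * (c ^ k)⁻¹ ∈ W
  | 0 => by simp [one_mem]
  | k + 1 => by
    have ih := pow_comm_mem hc hxW hxc hcW k
    set w := x ^ k * q * (x ^ k)⁻¹ * q⁻¹ * (c ^ k)⁻¹ with hw
    set u := ⁅x, c⁆ with hu
    have e1 : x * c * x⁻¹ = u * c := by rw [hu, commutatorElement_def]; group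
    have e2 : x * q * x⁻¹ = c * q := by rw [← hc, commutatorElement_def]; group
    have e3 : x * c ^ k * x⁻¹ = u ^ k * c ^ k := by
      rw [← conj_pow, e1, (hcW u hxc).symm.mul_pow]
    have e4 : x ^ (k + 1) * q * (x ^ (k + 1))⁻¹ = x * w * x⁻¹ * (u ^ k * c ^ (k + 1) * q) := by
      calc x ^ (k + 1) * q * (x ^ (k + 1))⁻¹
          = x * (w * (c ^ k * q)) * x⁻¹ := by rw [hw, pow_succ']; group
        _ = x * w * x⁻¹ * (x * c ^ k * x⁻¹ * (x * q * x⁻¹)) := by group
        _ = x * w * x⁻¹ * (u ^ k * c ^ k * (c * q)) := by rw [e2, e3]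
        _ = _ := by rw [pow_succ]; group
    rw [e4, show x * w * x⁻¹ * (u ^ k * c ^ (k + 1) * q) * q⁻¹ * (c ^ (k + 1))⁻¹ = x * w * x⁻¹ * u ^ k by group]
    exact mul_mem (hxW w ih) (pow_mem hxc k)

/-- An element of order prime to `p` whose commutator is central modulo `W` commutes modulo `W`. -/
theorem coprime_comm_mem {W : Subgroup G} {x q c : G} (hx : (orderOf x).Coprime p) (hc : ⁅x, q⁆ = c)
    (hcp : ∃ i : ℕ, c ^ p ^ i = 1) (hxW : ∀ w ∈ W, x * w * x⁻¹ ∈ W) (hxc : ⁅x, c⁆ ∈ W)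
    (hcW : ∀ w ∈ W, Commute c w) : c ∈ W := by
  have h1 := pow_comm_mem hc hxW hxc hcW (orderOf x)
  rw [pow_orderOf_eq_one, inv_one, mul_one, one_mul, mul_inv_cancel, one_mul, inv_mem_iff] at h1
  obtain ⟨i, hi⟩ := hcp
  obtain ⟨a, b, hab⟩ : ∃ a b : ℤ, a * (orderOf x : ℤ) + b * (p ^ i : ℕ) = 1 := by
    have h2 := (hx.pow_right i)
    obtain ⟨a, b, e⟩ := Int.isCoprime_iff_nat_coprime.2
      (show Nat.Coprime (Int.natAbs (orderOf x : ℤ)) (Int.natAbs ((p ^ i : ℕ) : ℤ)) from h2)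
    exact ⟨a, b, e⟩
  have e : c = (c ^ (orderOf x)) ^ a := by
    conv_lhs => rw [← zpow_one c, ← hab, zpow_add, mul_comm a, zpow_mul, zpow_natCast, mul_comm b, zpow_mul,
      zpow_natCast, hi, one_zpow, mul_one]
  rw [e]
  exact zpow_mem h1 a

end Coprime

variable {G : Type*} [Group G] [Finite G] {p : ℕ} [Fact p.Prime]

/-- The kernel of the action on the module is the core, as soon as a normal subgroup outside `M` acts trivially on
the core modulo the module. -/
theorem Hyps.kerV_eq_of {T : Sylow p G} {M : Subgroup G} (h : Hyps p T M) {N : Subgroup G} [N.Normal]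
    (hN : ¬ N ≤ M) (hc : ∀ g ∈ N, ∀ q ∈ pCore p G, ⁅g, q⁆ ∈ modV p G) : kerV p G = pCore p G := by
  refine le_antisymm (CfsgLib.Cores.le_pCore ?_) core_le_ker
  refine CfsgLib.LocalEven.Chain.isPGroup_of_coprime_eq_one fun k hk hko => ?_
  have htop : N ⊔ (T : Subgroup G) = ⊤ := by_contra fun hne => hN (le_sup_left.trans (h.uniq _ le_sup_right hne))
  have hres : pResidual p G ≤ N := by
    refine CfsgLib.Transfer.pResidual_le ?_
    refine (T.2.map (QuotientGroup.mk' N)).of_equiv ((MulEquiv.subgroupCongr ?_).trans topEquiv)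
    rw [← Subgroup.map_top_of_surjective (QuotientGroup.mk' N) (QuotientGroup.mk'_surjective N), ← htop,
      Subgroup.map_sup, QuotientGroup.map_mk'_self, bot_sup_eq]
  have hkQ : ∀ q ∈ pCore p G, k * q = q * k :=
    commute_of_step (CfsgLib.Cores.isPGroup_pCore p) Hyps.modV_le hko
      (fun q hq => hc k (hres (CfsgLib.Transfer.mem_pResidual_of_coprime hko)) q hq)
      (fun v hv => (mem_centralizer_iff.1 hk v hv).symm)
  have hkc : k ∈ pCore p G := h.cE (mem_centralizer_iff.2 fun q hq => (hkQ q hq).symm)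
  obtain ⟨i, hi⟩ := (CfsgLib.Cores.isPGroup_pCore (p := p) (G := G)) ⟨k, hkc⟩
  exact orderOf_eq_one_iff.1 (Nat.eq_one_of_dvd_coprimes (hko.symm.pow_left i)
    (orderOf_dvd_of_pow_eq_one (by simpa using congrArg Subtype.val hi)) dvd_rfl)

end CfsgLib.LocalEven.PushMin
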