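import Mathlib
import Cfsg.Agent.Lib.LocalEven.SubBlock.SL3
import Cfsg.Agent.Lib.Classical.SL2Sylow
import Cfsg.Agent.Lib.Classical.SmallIso.PSL2

/-!
Small facts on `SL₂` over a finite field and alternating groups.
-/

set_option autoImplicit false

namespace CfsgLib.LocalEven.PushMin.Shape

open Matrix Subgroup

variable {F : Type*} [Field F] [Fintype F]

omit [Fintype F] in
/-- No elements of order four in characteristic two. -/
theorem sq_eq_one_of_pow_four (h2 : (2 : F) = 0) {M : SpecialLinearGroup (Fin 2) F} (h4 : M * M * (M * M) = 1) :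
    M * M = 1 := by
  have hd := M.2
  rw [Matrix.det_fin_two] at hd
  have e : ∀ i j, ((M * M * (M * M) : SpecialLinearGroup (Fin 2) F) : Matrix (Fin 2) (Fin 2) F) i j =
      (1 : Matrix (Fin 2) (Fin 2) F) i j := by rw [h4]; simp
  have e00 := e 0 0; have e01 := e 0 1; have e10 := e 1 0; have e11 := e 1 1
  simp [Matrix.mul_apply, Fin.sum_univ_two] at e00 e01 e10 e11
  set a := M.1 0 0; set b := M.1 0 1; set c := M.1 1 0; set d := M.1 1 1
  have t0 : a + d = 0 := by
    by_contra ht
    have hb : (a + d) ^ 3 * b = 0 := by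
      linear_combination e01 + ((a + d) * b) * (2 * hd) + ((a + d) * b) * h2
    have hc : (a + d) ^ 3 * c = 0 := by
      linear_combination e10 + ((a + d) * c) * (2 * hd) + ((a + d) * c) * h2
    have ha : (a + d) ^ 3 * (a - d) = 0 := by
      linear_combination e00 - e11 + ((a + d) * (a - d)) * (2 * hd) + ((a + d) * (a - d)) * h2
    have hb0 := (mul_eq_zero.1 hb).resolve_left (pow_ne_zero _ ht)
    have hc0 := (mul_eq_zero.1 hc).resolve_left (pow_ne_zero _ ht)
    have had := sub_eq_zero.1 ((mul_eq_zero.1 ha).resolve_left (pow_ne_zero _ ht))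
    exact ht (by linear_combination -had + a * h2)
  ext i j
  fin_cases i <;> fin_cases j <;> simp [Matrix.mul_apply, Fin.sum_univ_two]
  · show a * a + b * c = 1
    linear_combination a * t0 - hd - h2
  · show a * b + b * d = 0
    linear_combination b * t0
  · show c * a + d * c = 0
    linear_combination c * t0
  · show c * b + d * d = 1
    linear_combination d * t0 - hd - h2

/-- The degree of an alternating group isomorphic to the derived group of `SL₂`. -/
theorem alt_degree (m : ℕ)
    (f : ↥(commutator (SpecialLinearGroup (Fin 2) F)) ≃* ↥(alternatingGroup (Fin (2 * m + 1)))) :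
    ∃ k : ℕ, 2 * m + 1 = 2 ^ k + 1 := by
  classical
  rcases Nat.lt_or_ge m 3 with hm | hm
  · obtain rfl | rfl | rfl : m = 0 ∨ m = 1 ∨ m = 2 := by omega
    · exfalso
      haveI : Subsingleton ↥(alternatingGroup (Fin (2 * 0 + 1))) :=
        ⟨fun a b => Subtype.ext (Equiv.ext fun x => Fin.ext (by omega))⟩
      have h1 : Subsingleton ↥(commutator (SpecialLinearGroup (Fin 2) F)) := f.toEquiv.subsingleton
      have hne : commutator (SpecialLinearGroup (Fin 2) F) ≠ ⊥ := by
        rcases Nat.lt_or_ge (Fintype.card F) 4 with hq | hq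
        · intro e
          have h2 := Fintype.one_lt_card (α := F)
          rcases (show Fintype.card F = 2 ∨ Fintype.card F = 3 by omega) with h | h
          · have := SubBlock.SL3.card_commutator_two h
            rw [e, Subgroup.card_bot] at this; omega
          · have := SubBlock.SL3.card_commutator h
            rw [e, Subgroup.card_bot] at this; omega
        · rw [CfsgLib.Classical.SmallIso.commutator_sl_two hq]
          haveI : Nontrivial (SpecialLinearGroup (Fin 2) F) :=
            ⟨⟨1, ⟨!![1, 1; 0, 1], by simp [Matrix.det_fin_two]⟩, fun e => by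
              simpa using congrArg (fun N : SpecialLinearGroup (Fin 2) F => (N : Matrix (Fin 2) (Fin 2) F) 0 1) e⟩⟩
          exact top_ne_bot
      exact hne (Subgroup.eq_bot_of_subsingleton _)
    · exact ⟨1, rfl⟩
    · exact ⟨2, rfl⟩
  exfalso
  have hn : 7 ≤ Nat.card (Fin (2 * m + 1)) := by simp; omega
  haveI : Nontrivial (Fin (2 * m + 1)) := Fin.nontrivial_iff_two_le.2 (by omega)
  rcases Nat.lt_or_ge (Fintype.card F) 4 with hq | hq
  · have h2 := Fintype.one_lt_card (α := F)
    have h1 := Nat.card_congr f.toEquiv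
    have h60 : 60 ≤ Nat.card ↥(alternatingGroup (Fin (2 * m + 1))) := by
      rw [nat_card_alternatingGroup (α := Fin (2 * m + 1))]
      have := Nat.factorial_le (show 5 ≤ Nat.card (Fin (2 * m + 1)) by omega)
      rw [show Nat.factorial 5 = 120 by rfl] at this
      omega
    rcases (show Fintype.card F = 2 ∨ Fintype.card F = 3 by omega) with h | h
    · rw [SubBlock.SL3.card_commutator_two h] at h1; omega
    · rw [SubBlock.SL3.card_commutator h] at h1; omega
  have htop := CfsgLib.Classical.SmallIso.commutator_sl_two (F := F) hq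
  let g : SpecialLinearGroup (Fin 2) F ≃* ↥(alternatingGroup (Fin (2 * m + 1))) :=
    (Subgroup.topEquiv.symm.trans (MulEquiv.subgroupCongr htop.symm)).trans f
  by_cases h2 : (2 : F) = 0
  · let ι : Fin 6 ↪ Fin (2 * m + 1) := Fin.castLEEmb (by omega)
    let s₀ : Equiv.Perm (Fin 6) := Equiv.swap 0 1 * Equiv.swap 1 2 * Equiv.swap 2 3 * Equiv.swap 4 5
    have hs4 : s₀ * s₀ * (s₀ * s₀) = 1 := by decide
    have hs2 : s₀ * s₀ ≠ 1 := by decide
    have hsgn : Equiv.Perm.sign s₀ = 1 := by decide
    let φ := Equiv.Perm.viaEmbeddingHom ι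
    have hσ : φ s₀ ∈ alternatingGroup (Fin (2 * m + 1)) := by
      rw [Equiv.Perm.mem_alternatingGroup]
      rw [Equiv.Perm.viaEmbeddingHom_apply, Equiv.Perm.viaEmbedding]
      convert Equiv.Perm.sign_extendDomain s₀ _ using 1
      exact hsgn.symm
    have h1 := sq_eq_one_of_pow_four h2 (M := g.symm ⟨φ s₀, hσ⟩) (by
      rw [← map_mul, ← map_mul, ← map_one g.symm]
      congr 1
      refine Subtype.ext ?_
      simp only [Subgroup.coe_mul, Subgroup.coe_one, ← map_mul, hs4, map_one])
    rw [← map_mul, ← map_one g.symm, g.symm.injective.eq_iff] at h1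
    refine hs2 (Equiv.Perm.viaEmbeddingHom_injective ι ?_)
    rw [map_mul, map_one]
    exact congrArg Subtype.val h1
  · have hz : g (-1) ∈ Subgroup.center ↥(alternatingGroup (Fin (2 * m + 1))) := by
      refine Subgroup.mem_center_iff.2 fun a => ?_
      obtain ⟨b, rfl⟩ := g.surjective a
      rw [← map_mul, ← map_mul]
      simp
    rw [alternatingGroup.center_eq_bot (by omega), Subgroup.mem_bot, ← map_one g, g.injective.eq_iff] at hz
    have h1 := congrArg (fun N : SpecialLinearGroup (Fin 2) F => (N : Matrix (Fin 2) (Fin 2) F) 0 0) hz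
    simp at h1
    exact h2 (by linear_combination -h1)

theorem three_pairs : ∀ r u : SpecialLinearGroup (Fin 2) (ZMod 3),
    r * r = -1 → r * u = u * r → u * u * u = 1 → u ≠ 1 → False := by
  decide +kernel

/-- In the derived group of `SL₂(3)` only the centre commutes with an element of order three. -/
theorem three_centralizer (hF : Fintype.card F = 3) {r u : SpecialLinearGroup (Fin 2) F}
    (hr : r ∈ commutator (SpecialLinearGroup (Fin 2) F)) (hu3 : u * u * u = 1) (hu : u ≠ 1)
    (hru : r * u = u * r) : r = 1 ∨ r = -1 := by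
  rcases (SubBlock.SL3.mem_commutator_iff hF r).1 hr with h | h | h
  · exact Or.inl h
  · exact Or.inr h
  exfalso
  obtain ⟨r, rfl⟩ := (SubBlock.SL3.iso hF).surjective r
  obtain ⟨u, rfl⟩ := (SubBlock.SL3.iso hF).surjective u
  rw [← SubBlock.SL3.iso_neg_one hF, ← map_mul, (SubBlock.SL3.iso hF).injective.eq_iff] at h
  rw [← map_mul, ← map_mul, ← map_one (SubBlock.SL3.iso hF), (SubBlock.SL3.iso hF).injective.eq_iff] at hu3
  rw [← map_one (SubBlock.SL3.iso hF), ne_eq, (SubBlock.SL3.iso hF).injective.eq_iff] at hu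
  rw [← map_mul, ← map_mul, (SubBlock.SL3.iso hF).injective.eq_iff] at hru
  exact three_pairs r u h hru hu3 hu

theorem three_partner : ∀ r : SpecialLinearGroup (Fin 2) (ZMod 3),
    r * r = -1 → ∃ y : SpecialLinearGroup (Fin 2) (ZMod 3), y * y = -1 ∧ r * y ≠ y * r := by
  decide +kernel

/-- The centre of the derived group of `SL₂(3)`. -/
theorem three_center (hF : Fintype.card F = 3) {r : SpecialLinearGroup (Fin 2) F}
    (hr : r ∈ commutator (SpecialLinearGroup (Fin 2) F))
    (hc : ∀ y ∈ commutator (SpecialLinearGroup (Fin 2) F), r * y = y * r) : r = 1 ∨ r = -1 := by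
  rcases (SubBlock.SL3.mem_commutator_iff hF r).1 hr with h | h | h
  · exact Or.inl h
  · exact Or.inr h
  exfalso
  obtain ⟨r, rfl⟩ := (SubBlock.SL3.iso hF).surjective r
  rw [← SubBlock.SL3.iso_neg_one hF, ← map_mul, (SubBlock.SL3.iso hF).injective.eq_iff] at h
  obtain ⟨y, hy, hne⟩ := three_partner r h
  refine hne ((SubBlock.SL3.iso hF).injective ?_)
  rw [map_mul, map_mul]
  exact hc _ ((SubBlock.SL3.mem_commutator_iff hF _).2 (Or.inr (Or.inr (by
    rw [← map_mul, hy, SubBlock.SL3.iso_neg_one hF]))))

end CfsgLib.LocalEven.PushMin.Shape
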