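import Cfsg.Agent.Lib.LocalEven.PushMin.Single
import Cfsg.Agent.Lib.LocalEven.PushMin.SingleShape

/-!
Classes with one member: everything the assembly needs.
-/

set_option autoImplicit false
set_option linter.unusedSectionVars false

namespace CfsgLib.LocalEven.PushMin

open Cfsg Subgroup
open CfsgLib.Fusion (conjSub mem_conjSub conj_mem_conjSub conjSub_conjSub conjSub_one conjSub_mono
  conjSub_eq_iff_mem_normalizer)
open CfsgLib.LocalEven.PMinFF (InT Link blk others)
open Matrix (SpecialLinearGroup)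
open scoped commutatorElement

variable {G : Type*} [Group G] [Finite G] {p : ℕ} [Fact p.Prime]
variable {T : Sylow p G} {M : Subgroup G} (h : Hyps p T M)
variable {D : Subgroup (G ⧸ kerV p G)} (hD : InT p (bT T) (Additive ↥(modV p G)) D)

omit [Finite G] [Fact p.Prime] in
theorem charP_of_card {F : Type*} [Field F] [Fintype F] [hp : Fact p.Prime] {n : ℕ}
    (hF : Fintype.card F = p ^ n) : CharP F p := by
  obtain ⟨q, hq⟩ := CharP.exists F
  obtain ⟨k, hqp, hk⟩ := FiniteField.card F q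
  have h1 : q ∣ p ^ n := hF ▸ hk ▸ dvd_pow_self q k.pos.ne'
  exact (Nat.prime_dvd_prime_iff_eq hqp hp.out).1 (hqp.dvd_of_dvd_pow h1) ▸ hq

include h hD

theorem exists_pow : ∃ n, 0 < n ∧ Nat.card ↥D = p ^ n := by
  haveI : Nontrivial ↥D := (Subgroup.nontrivial_iff_ne_bot D).2 hD.1.ne
  obtain ⟨n, hn0, hn⟩ := hD.1.pA.nontrivial_iff_card.1 inferInstance
  exact ⟨n, hn0, hn⟩

/-- A member is a Sylow subgroup of its overgroup. -/
theorem eq_of_pgroup {R : Subgroup (G ⧸ kerV p G)} (hR : IsPGroup p ↥R)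
    (hRL : R ≤ blk p (bT T) (Additive ↥(modV p G)) D) (hDR : D ≤ R) : R = D := by
  obtain ⟨F, iF, iFF, hF, ρ, ψ, hρ, -, -, -⟩ := InT.natural h.setting hD
  obtain ⟨n, hn0, hn⟩ := exists_pow h hD
  refine (eq_of_le_of_card_ge hDR ?_).symm
  obtain ⟨k, hk⟩ := IsPGroup.iff_card.1 hR
  have h1 : p ^ k ∣ p ^ n * ((p ^ n - 1) * (p ^ n + 1)) := by
    rw [← hk, ← hn, ← hF, ← CfsgLib.Classical.card_SL_two rfl,
      ← Nat.card_congr (MulEquiv.ofBijective ρ hρ).toEquiv]
    exact Subgroup.card_dvd_of_le hRL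
  rw [hk, hn]
  have hpn : p ∣ p ^ n := dvd_pow_self p (by omega)
  have hco : Nat.Coprime (p ^ k) ((p ^ n - 1) * (p ^ n + 1)) := by
    refine Nat.Coprime.pow_left k ((Nat.Prime.coprime_iff_not_dvd Fact.out).2 fun hd => ?_)
    rcases (Fact.out : p.Prime).dvd_mul.1 hd with hd | hd
    · have h2 := Nat.dvd_sub hpn hd
      rw [Nat.sub_sub_self (Nat.one_le_pow _ _ (Fact.out : p.Prime).pos)] at h2
      exact (Fact.out : p.Prime).not_dvd_one h2
    · exact (Fact.out : p.Prime).not_dvd_one ((Nat.dvd_add_right hpn).1 hd)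
  exact Nat.le_of_dvd (pow_pos (Fact.out : p.Prime).pos n) (hco.dvd_of_dvd_mul_right h1)

theorem MemBlock.map_le {E : Subgroup G} (m : MemBlock T M D E) :
    E.map (pr p G) ≤ blk p (bT T) (Additive ↥(modV p G)) D := m.img.le.trans (map_subtype_le _)

/-- The elements of `M` in the block are those normalising the member. -/
theorem MemBlock.mem_iff {E : Subgroup G} (m : MemBlock T M D E) {e : G} (he : e ∈ E) :
    e ∈ M ↔ conjSub (pr p G e) D = D := by
  have hs := h.setting
  have heN := InT.blk_le hs hD (m.map_le h hD (mem_map_of_mem _ he))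
  refine ⟨fun heM => PMinFF.Top.conj_eq hs (InT.piece hs hD) (InT.top hs hD) heN (mem_map_of_mem _ heM),
    fun e' => h.pr_mem_map.1 (PMinFF.Top.control hs (InT.piece hs hD) (InT.top hs hD) heN ?_)⟩
  rw [e']
  exact hD.2.trans hs.sylLe

theorem MemBlock.inM {E : Subgroup G} (m : MemBlock T M D E) (hQ : kerV p G = pCore p G) :
    M ⊓ E ≤ cStarOf p (T : Subgroup G) := by
  have hs := h.setting
  rintro e ⟨heM, heE⟩
  set B := baumannSubgroupOf p (T : Subgroup G) with hBdef
  set R := (B.map (pr p G)).comap (pr p G) with hR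
  have hBR : B ≤ R := le_comap_map _ _
  have hRT : R ≤ (T : Subgroup G) := by
    rw [hR, comap_map_eq, ker_pr, hQ]
    exact sup_le (Baumann.baumann_le _) h.core_le
  have heR : e ∈ normalizer (R : Set G) := by
    refine le_normalizer_comap (pr p G) ?_
    show pr p G e ∈ normalizer ((B.map (pr p G) : Subgroup (G ⧸ kerV p G)) : Set (G ⧸ kerV p G))
    refine conjSub_eq_iff_mem_normalizer.1 ?_
    rw [hBdef, h.map_baumann, ← others_sup h hD, PMinFF.conjSub_sup, (m.mem_iff h hD heE).1 heM,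
      conjSub_eq_iff_mem_normalizer.2 (InT.blk_le hs hD (m.map_le h hD (mem_map_of_mem _ heE)))]
  have hJ : thompsonSubgroupOf p R = thompsonSubgroupOf p (T : Subgroup G) :=
    Baumann.thompson_eq_of_pGroup (T := T) (R := R) (T.2.to_le hRT)
      ((Baumann.thompson_le_baumann _).trans hBR)
  have heJ : e ∈ normalizer (thompsonSubgroupOf p (T : Subgroup G) : Set G) := by
    rw [← hJ]
    haveI := CfsgLib.Transfer.thompsonSubgroup_characteristic (G := ↥R) p
    exact CfsgLib.OddLocal.normalizer_le_normalizer_map_characteristic (thompsonSubgroup p ↥R) heR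
  have heB : e ∈ normalizer (B : Set G) := by
    have hBeq : B = R ⊓ centralizer (zJ p (T : Subgroup G) : Set G) :=
      le_antisymm (le_inf hBR fun b hb => ((baumann_eq (p := p) (T : Subgroup G)).le hb).2)
        fun r hr => (baumann_eq (p := p) (T : Subgroup G)).ge ⟨hRT hr.1, hr.2⟩
    rw [hBeq]
    exact Baumann.normalizer_inf_le _ _
      ⟨heR, CfsgLib.LocalEven.Oz.mem_normalizer_centralizer (Baumann.normalizer_le_omegaCentre _ heJ)⟩
  have hne : B ≠ ⊥ := fun e' => h.zT_ne (le_bot_iff.1 (e' ▸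
    (Block.le_of_omegaCentre.trans ((Baumann.omegaCentre_thompson_le _).trans (Baumann.thompson_le_baumann _)))))
  refine (le_trans (le_iSup (fun C : {C : Subgroup G // C ≤ B ∧ C ≠ ⊥ ∧ (C.subgroupOf B).Characteristic} =>
    normalizer ((C : Subgroup G) : Set G)) ⟨B, le_rfl, hne, ?_⟩) le_sup_right) heB
  rw [subgroupOf_self]
  infer_instance

/-- The block modulo its core is its image. -/
theorem MemBlock.mk_eq_one_iff {E : Subgroup G} (m : MemBlock T M D E) (hone : OneClasses T)
    [(pCore p ↥E).Normal] (e : ↥E) :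
    (QuotientGroup.mk e : ↥E ⧸ pCore p ↥E) = 1 ↔ pr p G (e : G) = 1 := by
  rw [← SubBlock.mem_core_iff, pr_eq_one]
  refine ⟨fun he => Hyps.core_le_ker (SubBlock.core_le_pCore (m.subnormal h hD hone) he),
    fun he => mem_core_of_centralizes h m.block e.2 ?_⟩
  exact centralizer_le (Cfsg.Agent.S2984.result h.cE T E m.block).2.1 he

theorem MemBlock.quot_img {E : Subgroup G} (m : MemBlock T M D E) (hone : OneClasses T) [(pCore p ↥E).Normal] :
    Nonempty (↥E ⧸ pCore p ↥E ≃* ↥(E.map (pr p G))) := by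
  refine ⟨(QuotientGroup.quotientMulEquivOfEq ?_).trans
    (QuotientGroup.quotientKerEquivOfSurjective ((pr p G).subgroupMap E) ((pr p G).subgroupMap_surjective E))⟩
  ext e
  rw [MonoidHom.mem_ker, ← QuotientGroup.eq_one_iff, m.mk_eq_one_iff h hD hone, ← Subtype.val_inj]
  rfl

/-- The case of more than three elements. -/
theorem MemBlock.inf_eq {E : Subgroup G} (m : MemBlock T M D E) (hone : OneClasses T) (hq : 3 < Nat.card ↥D) :
    M ⊓ E = E ⊓ normalizer (((T : Subgroup G) ⊓ E : Subgroup G) : Set G) := by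
  classical
  have hs := h.setting
  have hQ := kerV_eq_of_one h hone
  haveI := CfsgLib.Cores.pCore_characteristic (G := ↥E) p
  obtain ⟨F, iF, iFF, hF, ⟨f⟩⟩ := m.quot
  obtain ⟨g⟩ := m.quot_img h hD hone
  set L := blk p (bT T) (Additive ↥(modV p G)) D with hL
  obtain ⟨F', iF', iFF', hF', ρ, ψ, hρ, -, -, -⟩ := InT.natural hs hD
  have hDL : D ≤ L := (InT.blk_min hs hD).aLe
  have himg : E.map (pr p G) = L := by
    refine eq_of_le_of_card_ge (m.map_le h hD) (le_of_eq ?_)
    rw [← Nat.card_congr g.toEquiv, Nat.card_congr f.toEquiv,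
      CfsgLib.Classical.SmallIso.commutator_sl_two (F := F) (by omega), Subgroup.card_top,
      Nat.card_congr (MulEquiv.ofBijective ρ hρ).toEquiv, CfsgLib.Classical.card_SL_two hF,
      CfsgLib.Classical.card_SL_two hF']
  have hTE : (T : Subgroup G) ⊓ E = E ⊓ D.comap (pr p G) := by
    refine le_antisymm ?_ ?_
    · intro x hx
      refine ⟨hx.2, ?_⟩
      have h1 := eq_of_pgroup h hD (R := L ⊓ (bT T : Subgroup (G ⧸ kerV p G))) ((bT T).2.to_le inf_le_right)
        inf_le_left (le_inf hDL hD.2)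
      exact h1.le ⟨himg.le (mem_map_of_mem _ hx.2), (coe_bT T).ge (mem_map_of_mem _ hx.1)⟩
    · intro x hx
      refine ⟨?_, hx.1⟩
      obtain ⟨j, hj, e⟩ := (map_liftJ h hD).ge hx.2
      have h1 : j⁻¹ * x ∈ kerV p G := pr_eq_one.1 (by rw [map_mul, map_inv, e, inv_mul_cancel])
      rw [hQ] at h1
      have := mul_mem (CfsgLib.Transfer.thompsonSubgroupOf_le p _ hj.1) (h.core_le h1)
      rwa [mul_inv_cancel_left] at this
  have hmapTE : ((T : Subgroup G) ⊓ E).map (pr p G) = D := by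
    rw [hTE]; exact pr_map_inf_comap (hDL.trans himg.ge)
  ext x
  refine ⟨fun hx => ⟨hx.2, ?_⟩, fun hx => ⟨(m.mem_iff h hD hx.1).2 ?_, hx.1⟩⟩
  · rw [hTE]
    exact Baumann.normalizer_inf_le _ _ ⟨Subgroup.le_normalizer hx.2,
      le_normalizer_comap (pr p G) (conjSub_eq_iff_mem_normalizer.1 ((m.mem_iff h hD hx.2).1 hx.1))⟩
  · refine conjSub_eq_iff_mem_normalizer.2 ?_
    have h1 := le_normalizer_map (H := (T : Subgroup G) ⊓ E) (pr p G) (mem_map_of_mem (pr p G) hx.2)
    rwa [hmapTE] at h1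

/-- The case of three elements. -/
theorem MemBlock.map_eq_center {E : Subgroup G} (m : MemBlock T M D E) (hone : OneClasses T)
    (h3 : Nat.card ↥D = 3) (hp : p = 3) [(pCore p ↥E).Normal] :
    ((M ⊓ E).subgroupOf E).map (QuotientGroup.mk' (pCore p ↥E)) = center (↥E ⧸ pCore p ↥E) := by
  classical
  have hs := h.setting
  obtain ⟨F, iF, iFF, hF, ⟨f⟩⟩ := m.quot
  obtain ⟨g⟩ := m.quot_img h hD hone
  set L := blk p (bT T) (Additive ↥(modV p G)) D with hL
  obtain ⟨F', iF', iFF', hF', ρ, ψ, hρ, -, -, -⟩ := InT.natural hs hD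
  rw [h3] at hF hF'
  haveI : CharP F' p := charP_of_card (n := 1) (by rw [hF', hp, pow_one])
  have hDL : D ≤ L := (InT.blk_min hs hD).aLe
  have hEL := m.map_le h hD
  have h8 : Nat.card ↥(E.map (pr p G)) = 8 := by
    rw [← Nat.card_congr g.toEquiv, Nat.card_congr f.toEquiv, SubBlock.SL3.card_commutator hF]
  have hρE : ((E.map (pr p G)).subgroupOf L).map ρ = commutator (SpecialLinearGroup (Fin 2) F') := by
    refine eq_of_le_of_card_ge ?_ (le_of_eq ?_)
    · rintro _ ⟨⟨x, hxL⟩, hx, rfl⟩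
      have hle : pResidualOf p L ≤ ((commutator (SpecialLinearGroup (Fin 2) F')).comap ρ).map L.subtype :=
        Baumann.pResidualOf_le_iff.2 fun y hy hco => ⟨⟨y, hy⟩,
          mem_commutator_of_coprime (Nat.Coprime.coprime_dvd_left (orderOf_map_dvd ρ _)
            (by rwa [Subgroup.orderOf_mk])), rfl⟩
      obtain ⟨y, hy, e⟩ := hle (m.img.le hx)
      rwa [show (⟨x, hxL⟩ : ↥L) = y from (Subtype.ext e).symm]
    · rw [card_map_of_injective hρ.1, Nat.card_congr (subgroupOfEquivOfLe hEL).toEquiv, h8,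
        SubBlock.SL3.card_commutator hF']
  have hDn : D ≤ normalizer (E.map (pr p G) : Set (G ⧸ kerV p G)) :=
    (map_liftJ h hD).ge.trans ((map_mono m.liftNorm).trans (le_normalizer_map _))
  haveI : Nontrivial ↥D := (Subgroup.nontrivial_iff_ne_bot D).2 hD.1.ne
  obtain ⟨⟨d, hd⟩, hd1⟩ := exists_ne (1 : ↥D)
  have hd1' : d ≠ 1 := fun e => hd1 (Subtype.ext e)
  have hd3 : (⟨d, hd⟩ : ↥D) ^ 3 = 1 := h3 ▸ pow_card_eq_one'
  have hdisj : ∀ x ∈ D, x ∈ E.map (pr p G) → x = 1 := fun x hx hx' => by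
    have k1 : orderOf x ∣ 3 := h3 ▸ (Subgroup.orderOf_mk x hx ▸ orderOf_dvd_natCard (⟨x, hx⟩ : ↥D))
    have k2 : orderOf x ∣ 8 := h8 ▸ (Subgroup.orderOf_mk x hx' ▸ orderOf_dvd_natCard (⟨x, hx'⟩ : ↥(E.map (pr p G))))
    exact orderOf_eq_one_iff.1 (Nat.dvd_one.1 (by simpa using Nat.dvd_gcd k1 k2))
  -- the elements of `M` are those whose image is scalar
  have hkey : ∀ e (he : e ∈ E), e ∈ M ↔ (ρ ⟨pr p G e, hEL (mem_map_of_mem _ he)⟩ = 1 ∨
      ρ ⟨pr p G e, hEL (mem_map_of_mem _ he)⟩ = -1) := by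
    intro e he
    rw [m.mem_iff h hD he]
    set x : ↥L := ⟨pr p G e, hEL (mem_map_of_mem _ he)⟩ with hx
    constructor
    · intro hconj
      have hcm : pr p G e * d = d * pr p G e := by
        rw [← commutatorElement_eq_one_iff_mul_comm]
        refine hdisj _ ?_ ?_
        · rw [commutatorElement_def]
          exact mul_mem (hconj.le (conj_mem_conjSub hd)) (inv_mem hd)
        · rw [commutatorElement_def, mul_assoc, mul_assoc]
          refine mul_mem (mem_map_of_mem _ he) ?_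
          have h1 := (mem_normalizer_iff.1 (hDn hd) (pr p G e)⁻¹).1 (inv_mem (mem_map_of_mem _ he))
          rwa [mul_assoc] at h1
      refine Shape.three_centralizer hF' (hρE.le (mem_map_of_mem ρ (show x ∈ (E.map (pr p G)).subgroupOf L from
        mem_map_of_mem _ he))) (u := ρ ⟨d, hDL hd⟩) ?_ (fun e' => hd1' ?_) ?_
      · rw [← map_mul, ← map_mul, ← map_one ρ]
        congr 1
        refine Subtype.ext ?_
        show d * d * d = 1
        have := congrArg Subtype.val hd3
        rw [← pow_three']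
        exact this
      · exact congrArg Subtype.val (hρ.1 (e'.trans (map_one ρ).symm))
      · rw [← map_mul, ← map_mul]
        exact congrArg ρ (Subtype.ext hcm)
    · intro hsc
      have hc : ∀ y : ↥L, x * y = y * x := fun y => hρ.1 (by
        rw [map_mul, map_mul]
        rcases hsc with e' | e' <;> simp [e'])
      refine conjSub_eq_iff_mem_normalizer.2 (CfsgLib.Fusion.mem_normalizer_of_forall fun k hk => ?_)
      rw [show pr p G e * k = k * pr p G e from congrArg Subtype.val (hc ⟨k, hDL hk⟩), mul_inv_cancel_right]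
      exact hk
  have hcen : ∀ (e : ↥E), (QuotientGroup.mk e : ↥E ⧸ pCore p ↥E) ∈ center (↥E ⧸ pCore p ↥E) ↔
      ∀ y ∈ commutator (SpecialLinearGroup (Fin 2) F'),
        ρ ⟨pr p G e, hEL (mem_map_of_mem _ e.2)⟩ * y = y * ρ ⟨pr p G e, hEL (mem_map_of_mem _ e.2)⟩ := by
    intro e
    rw [mem_center_iff]
    constructor
    · intro hc y hy
      obtain ⟨⟨x, hxL⟩, ⟨u, hu, rfl⟩, rfl⟩ := hρE.ge hy
      rw [← map_mul, ← map_mul]
      refine congrArg ρ (Subtype.ext ?_)
      have h1 := hc (QuotientGroup.mk (⟨u, hu⟩ : ↥E))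
      rw [← QuotientGroup.mk_mul, ← QuotientGroup.mk_mul, ← inv_mul_eq_one, ← QuotientGroup.mk_inv,
        ← QuotientGroup.mk_mul, m.mk_eq_one_iff h hD hone] at h1
      simp only [Subgroup.coe_mul, Subgroup.coe_inv, map_mul, map_inv, inv_mul_eq_one] at h1
      exact h1.symm
    · intro hc q
      obtain ⟨⟨u, hu⟩, rfl⟩ := QuotientGroup.mk_surjective q
      rw [← QuotientGroup.mk_mul, ← QuotientGroup.mk_mul, ← inv_mul_eq_one, ← QuotientGroup.mk_inv,
        ← QuotientGroup.mk_mul, m.mk_eq_one_iff h hD hone]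
      simp only [Subgroup.coe_mul, Subgroup.coe_inv, map_mul, map_inv, inv_mul_eq_one]
      have h1 := hc _ (hρE.le (mem_map_of_mem ρ (show (⟨pr p G u, hEL (mem_map_of_mem _ hu)⟩ : ↥L) ∈
        (E.map (pr p G)).subgroupOf L from mem_map_of_mem _ hu)))
      rw [← map_mul, ← map_mul] at h1
      exact (congrArg Subtype.val (hρ.1 h1)).symm
  ext q
  obtain ⟨e, rfl⟩ := QuotientGroup.mk_surjective q
  rw [hcen]
  have hmem : (QuotientGroup.mk e : ↥E ⧸ pCore p ↥E) ∈
      ((M ⊓ E).subgroupOf E).map (QuotientGroup.mk' (pCore p ↥E)) ↔ (e : G) ∈ M := by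
    constructor
    · rintro ⟨u, hu, e'⟩
      rw [QuotientGroup.mk'_apply, QuotientGroup.eq, ← QuotientGroup.eq_one_iff, m.mk_eq_one_iff h hD hone] at e'
      have h1 : ((u⁻¹ * e : ↥E) : G) ∈ M := h.ker_le (pr_eq_one.1 e')
      simpa using mul_mem hu.1 h1
    · exact fun he => ⟨e, ⟨he, e.2⟩, rfl⟩
  rw [hmem, hkey _ e.2]
  refine ⟨fun hsc y _ => by rcases hsc with e' | e' <;> simp [e'], fun hc => ?_⟩
  exact Shape.three_center hF' (hρE.le (mem_map_of_mem ρ
    (show (⟨pr p G e, hEL (mem_map_of_mem _ e.2)⟩ : ↥L) ∈ (E.map (pr p G)).subgroupOf L from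
      mem_map_of_mem _ e.2))) hc

/-- The facts on a class with one member. -/
theorem memberBlock_single (hone : OneClasses T) : MemberBlock T M D := by
  classical
  have hs := h.setting
  obtain ⟨E, m⟩ := exists_memBlock h hD
  have hQ := kerV_eq_of_one h hone
  have hE : clsRes T D = E := m.eq_clsRes h hD hone
  haveI := CfsgLib.Cores.pCore_characteristic (G := ↥E) p
  obtain ⟨F, iF, iFF, hF, ⟨f⟩⟩ := m.quot
  obtain ⟨n, hn0, hn⟩ := exists_pow h hD
  refine ⟨?_, ?_, ?_, ?_, ?_, ?_⟩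
  · rw [hE]; exact m.block
  · rw [hE]; exact m.notLe
  · rw [hE]
    intro e he hc
    exact h.pr_mem_map.1 (PMinFF.Top.control hs (InT.piece hs hD) (InT.top hs hD)
      (InT.blk_le hs hD (m.map_le h hD (mem_map_of_mem _ he))) (hc D hD (Or.inl rfl)))
  · rw [hE]; exact m.inM h hD hQ
  · rw [hE]
    by_cases hq : 3 < Nat.card ↥D
    · refine Or.inl ⟨F, iF, iFF, n, hn ▸ hq, hF.trans hn, ⟨f.trans ((MulEquiv.subgroupCongr
        (CfsgLib.Classical.SmallIso.commutator_sl_two (F := F) (by omega))).trans Subgroup.topEquiv)⟩,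
        m.inf_eq h hD hone hq⟩
    have hF1 := Fintype.one_lt_card (α := F)
    rcases (show Nat.card ↥D = 2 ∨ Nat.card ↥D = 3 by omega) with h2 | h3
    · refine Or.inr (Or.inl ⟨PMinFF.two_of_card hs hD h2, 1, ?_, ?_⟩)
      · haveI : Fact (Nat.Prime 3) := ⟨Nat.prime_three⟩
        refine ⟨mulEquivOfPrimeCardEq (p := 3) ?_ ?_⟩
        · rw [Nat.card_congr f.toEquiv, SubBlock.SL3.card_commutator_two (hF.trans h2)]
        · rw [nat_card_alternatingGroup]; simp [Nat.factorial]
      · haveI : Fact (Nat.Prime 3) := ⟨Nat.prime_three⟩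
        have h3 : Nat.card (↥E ⧸ pCore p ↥E) = 3 := by
          rw [Nat.card_congr f.toEquiv, SubBlock.SL3.card_commutator_two (hF.trans h2)]
        set Y := ((M ⊓ E).subgroupOf E).map (QuotientGroup.mk' (pCore p ↥E)) with hY
        have hY1 : Y = ⊥ := by
          haveI : Fact (Nat.card (↥E ⧸ pCore p ↥E)).Prime := ⟨h3 ▸ Nat.prime_three⟩
          refine (Subgroup.eq_bot_or_eq_top_of_prime_card Y).resolve_right fun e => m.notLe ?_
          intro x hx
          obtain ⟨u, hu, e'⟩ := e.ge (mem_top (QuotientGroup.mk (⟨x, hx⟩ : ↥E)))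
          rw [QuotientGroup.mk'_apply, QuotientGroup.eq, ← QuotientGroup.eq_one_iff, m.mk_eq_one_iff h hD hone] at e'
          have h1 : ((u⁻¹ * ⟨x, hx⟩ : ↥E) : G) ∈ M := h.ker_le (pr_eq_one.1 e')
          simpa using mul_mem hu.1 h1
        haveI : Subsingleton ↥Y := by rw [hY1]; infer_instance
        haveI : Subsingleton ↥(alternatingGroup (Fin (2 * 1))) := Finite.card_le_one_iff_subsingleton.1 (by
          rw [nat_card_alternatingGroup]; simp [Nat.factorial])
        exact ⟨{ toFun := fun _ => 1, invFun := fun _ => 1, left_inv := fun _ => Subsingleton.elim _ _,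
                 right_inv := fun _ => Subsingleton.elim _ _, map_mul' := fun _ _ => Subsingleton.elim _ _ }⟩
    · have hp : p = 3 := (Nat.prime_dvd_prime_iff_eq Fact.out Nat.prime_three).1
        (h3 ▸ hn ▸ dvd_pow_self p (by omega))
      let i : SpecialLinearGroup (Fin 2) F ≃* SpecialLinearGroup (Fin 2) (ZMod 3) :=
        (SubBlock.SL3.iso (hF.trans h3)).symm
      have hi : (commutator (SpecialLinearGroup (Fin 2) F)).map i.toMonoidHom =
          commutator (SpecialLinearGroup (Fin 2) (ZMod 3)) := by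
        rw [map_commutator_eq, MonoidHom.range_eq_top_of_surjective i.toMonoidHom i.surjective, _root_.commutator_def]
      exact Or.inr (Or.inr ⟨hp, ⟨f.trans ((i.subgroupMap _).trans (MulEquiv.subgroupCongr hi))⟩,
        m.map_eq_center h hD hone h3 hp⟩)
  · rw [hE]
    rintro k ⟨g⟩
    exact Shape.alt_degree k (f.symm.trans g)

end CfsgLib.LocalEven.PushMin
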