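import Cfsg.Agent.Lib.LocalEven.PushMin.Setup

/-!
The residual of a class of minimal offenders, and what the assembly needs to know about it.
-/

set_option autoImplicit false

namespace CfsgLib.LocalEven.PushMin

open Cfsg Subgroup
open CfsgLib.Fusion (conjSub)
open CfsgLib.LocalEven.PMinFF (InT Link blk cls)

variable {G : Type*} [Group G] [Finite G] {p : ℕ} [Fact p.Prime]

/-- `O^p` of the preimage of the overgroup of a member. -/
noncomputable def memRes (T : Sylow p G) (D : Subgroup (G ⧸ kerV p G)) : Subgroup G :=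
  pResidualOf p ((blk p (bT T) (Additive ↥(modV p G)) D).comap (pr p G))

/-- `O^p` of the preimage of the group of a class. -/
noncomputable def clsRes (T : Sylow p G) (D : Subgroup (G ⧸ kerV p G)) : Subgroup G :=
  pResidualOf p ((cls p (bT T) (Additive ↥(modV p G)) D).comap (pr p G))

/-- The facts on one class used in the assembly. -/
structure MemberBlock (T : Sylow p G) (M : Subgroup G) (D : Subgroup (G ⧸ kerV p G)) : Prop where
  block : IsBaumannBlock p (T : Subgroup G) (clsRes T D)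
  notLe : ¬ clsRes T D ≤ M
  ctrl : ∀ e ∈ clsRes T D, (∀ D' : Subgroup (G ⧸ kerV p G), InT p (bT T) (Additive ↥(modV p G)) D' →
    Link p (bT T) (Additive ↥(modV p G)) D D' → conjSub (pr p G e) D' ≤ M.map (pr p G)) → e ∈ M
  inM : M ⊓ clsRes T D ≤ cStarOf p (T : Subgroup G)
  shape : (∃ (F : Type) (_ : Field F) (_ : Fintype F) (m : ℕ), 3 < p ^ m ∧ Fintype.card F = p ^ m ∧
      Nonempty (↥(clsRes T D) ⧸ pCore p ↥(clsRes T D) ≃* Matrix.SpecialLinearGroup (Fin 2) F) ∧
      M ⊓ clsRes T D = clsRes T D ⊓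
        Subgroup.normalizer (((T : Subgroup G) ⊓ clsRes T D : Subgroup G) : Set G)) ∨
    (p = 2 ∧ ∃ m : ℕ, Nonempty (↥(clsRes T D) ⧸ pCore p ↥(clsRes T D) ≃* ↥(alternatingGroup (Fin (2 * m + 1)))) ∧
      Nonempty (↥(((M ⊓ clsRes T D).subgroupOf (clsRes T D)).map (QuotientGroup.mk' (pCore p ↥(clsRes T D)))) ≃*
        ↥(alternatingGroup (Fin (2 * m))))) ∨
    (p = 3 ∧ Nonempty (↥(clsRes T D) ⧸ pCore p ↥(clsRes T D) ≃*
        ↥(commutator (Matrix.SpecialLinearGroup (Fin 2) (ZMod 3)))) ∧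
      ((M ⊓ clsRes T D).subgroupOf (clsRes T D)).map (QuotientGroup.mk' (pCore p ↥(clsRes T D))) =
        Subgroup.center (↥(clsRes T D) ⧸ pCore p ↥(clsRes T D)))
  degree : ∀ m : ℕ, Nonempty (↥(clsRes T D) ⧸ pCore p ↥(clsRes T D) ≃* ↥(alternatingGroup (Fin (2 * m + 1)))) →
    ∃ n : ℕ, 2 * m + 1 = 2 ^ n + 1

end CfsgLib.LocalEven.PushMin
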