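import Cfsg.Agent.Lib.LocalEven.PushMin.KerV
import Cfsg.Agent.Lib.LocalEven.PushMin.Block
import Cfsg.Agent.Lib.LocalEven.PushMin.Member

/-!
The group above a member, when its critical length is one: the residual acts trivially on the core of the whole
group modulo its module commutator.
-/

set_option autoImplicit false
set_option linter.unusedSectionVars false

namespace CfsgLib.LocalEven.PushMin

open Cfsg Subgroup
open CfsgLib.LocalEven.RankOne (Hyp vS zS zS_le_vS vS_normal)
open CfsgLib.LocalEven.PushUp (TorusComm NoChar MemHyp Case1 actKer cop memHyp_all vS_conj)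
open CfsgLib.LocalEven.PMinFF (InT others blk)
open scoped commutatorElement

variable {G : Type*} [Group G] [Finite G] {p n : ℕ} [Fact p.Prime]

/-- A minimal group outside `M` over the Baumann subgroup, in the pushing-up situation. -/
structure Over (T : Sylow p G) (M H : Subgroup G) (S : Sylow p ↥H) (n : ℕ) (K : Subgroup ↥H) [K.Normal] : Prop where
  le : baumannSubgroupOf p (T : Subgroup G) ≤ H
  syl : (S : Subgroup ↥H) = (baumannSubgroupOf p (T : Subgroup G)).subgroupOf H
  notLe : ¬ H ≤ M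
  least : ∀ K' : Subgroup G, baumannSubgroupOf p (T : Subgroup G) ≤ K' → K' ≤ H → ¬ K' ≤ M → H ≤ K'
  hyp : Hyp n S K
  torus : TorusComm p (↥H ⧸ K)
  noChar : NoChar S

/-- `O^p(H)` in the whole group. -/
def resH (p : ℕ) (H : Subgroup G) : Subgroup G := (pResidual p ↥H).map H.subtype

/-- `[⟨Z(S)^H⟩, O^p(H)]` in the whole group. -/
def modH {H : Subgroup G} (S : Sylow p ↥H) : Subgroup G := (⁅vS S, pResidual p ↥H⁆).map H.subtype

variable {T : Sylow p G} {M H : Subgroup G} {S : Sylow p ↥H} {K : Subgroup ↥H} [K.Normal]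

theorem Over.memHyp (o : Over T M H S n K) (P : Sylow p ↥H) : MemHyp n P K := memHyp_all o.hyp o.torus o.noChar P

theorem resH_le (H : Subgroup G) : resH p H ≤ H := map_subtype_le _

theorem le_normalizer_resH : H ≤ normalizer (resH p H : Set G) := by
  have h1 := le_normalizer_map (H := pResidual p ↥H) H.subtype
  rwa [normalizer_eq_top, ← MonoidHom.range_eq_map, range_subtype] at h1

theorem le_normalizer_modH : H ≤ normalizer (modH S : Set G) := by
  have h1 := le_normalizer_map (H := ⁅vS S, pResidual p ↥H⁆) H.subtype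
  rwa [normalizer_eq_top, ← MonoidHom.range_eq_map, range_subtype] at h1

theorem modH_le_resH : modH S ≤ resH p H := map_mono (commutator_le_right _ _)

theorem modH_le_vS : modH S ≤ (vS S).map H.subtype := map_mono (commutator_le_left _ _)

variable (h : Hyps p T M) (o : Over T M H S n K)
include h o

omit h in
theorem Over.sup_eq : resH p H ⊔ baumannSubgroupOf p (T : Subgroup G) = H := by
  have h1 := congrArg (Subgroup.map H.subtype) (CfsgLib.Transfer.pResidual_sup_sylow S)
  rwa [Subgroup.map_sup, o.syl, map_subgroupOf_eq_of_le o.le, ← MonoidHom.range_eq_map, range_subtype] at h1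

theorem Over.resH_notLe : ¬ resH p H ≤ M := fun hle =>
  o.notLe (o.sup_eq.ge.trans (sup_le hle ((Baumann.baumann_le _).trans h.sylLe)))

/-- A normal subgroup over the Baumann subgroup contains the group. -/
theorem Over.le_of_normal (N : Subgroup G) [N.Normal] (hB : baumannSubgroupOf p (T : Subgroup G) ≤ N) : H ≤ N := by
  by_contra hne
  set B := baumannSubgroupOf p (T : Subgroup G) with hBdef
  have hBne : B ≠ ⊥ := fun e => PushUp.not_le_pCore o.hyp (by
    rw [o.syl, ← hBdef, e, Subgroup.bot_subgroupOf]; exact bot_le)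
  have hchar : (B.subgroupOf B).Characteristic := by
    rw [subgroupOf_self]; infer_instance
  have hNB := h.baumann_char_ne (C := B) le_rfl hBne hchar
  have hNM : N ⊓ H ≤ M := by
    by_contra hle
    exact hne ((o.least _ (le_inf hB o.le) inf_le_right hle).trans inf_le_left)
  have htop := Sylow.normalizer_sup_eq_top' (N := N.subgroupOf H) S fun x hx => hB (o.syl.le hx)
  refine o.notLe fun g hg => ?_
  have hle : normalizer ((S : Subgroup ↥H) : Set ↥H) ⊔ N.subgroupOf H ≤ M.subgroupOf H := by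
    refine sup_le (fun x hx => hNB (CfsgLib.Solvable.mem_normalizer_of_conj_mem fun b hb => ?_))
      fun x hx => hNM ⟨hx, x.2⟩
    have h1 := (mem_normalizer_iff.1 hx ⟨b, o.le hb⟩).1 (o.syl.ge hb)
    exact o.syl.le h1
  exact hle (htop ▸ mem_top (⟨g, hg⟩ : ↥H))

/-- The group acts trivially on `modV · Ω₁Z(J(T))` modulo `modV`. -/
theorem Over.comm_wSub {g : G} (hg : g ∈ H) {y : G} (hy : y ∈ modV p G ⊔ zJ p (T : Subgroup G)) :
    ⁅g, y⁆ ∈ modV p G := by
  haveI := h.wSub_normal
  refine (o.le_of_normal h (actKer (modV p G ⊔ zJ p (T : Subgroup G)) (modV p G)) fun b hb w hw => ?_) hg y hy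
  obtain ⟨v, hv, z, hz, rfl⟩ := h.mem_wSub.1 hw
  rw [show ⁅b, v * z⁆ = ⁅b, v⁆ * (v * ⁅b, z⁆ * v⁻¹) by simp only [commutatorElement_def]; group,
    (commutatorElement_eq_one_iff_mul_comm (g₁ := b) (g₂ := z)).2 (mem_centralizer_iff.1 hb.2 z hz).symm, mul_one,
    mul_inv_cancel, mul_one, commutatorElement_def]
  exact mul_mem ((modV_normal p G).conj_mem v hv b) (inv_mem hv)

/-- The group centralises the commutator of `modV · Ω₁Z(J(T))` with the core. -/
theorem Over.cent_comm : H ≤ centralizer ((⁅modV p G ⊔ zJ p (T : Subgroup G), pCore p G⁆ : Subgroup G) : Set G) := by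
  haveI := h.wSub_normal
  refine o.le_of_normal h _ ((le_centralizer_iff.1 ?_))
  have hle : ⁅modV p G ⊔ zJ p (T : Subgroup G), pCore p G⁆ ≤ zJ p (T : Subgroup G) := by
    refine commutator_le.2 fun w hw q hq => ?_
    obtain ⟨v, hv, z, hz, rfl⟩ := h.mem_wSub.1 hw
    have h1 : ⁅z, q⁆ ∈ zJ p (T : Subgroup G) := by
      have hqn : q ∈ normalizer (zJ p (T : Subgroup G) : Set G) := by
        haveI := CfsgLib.Transfer.thompsonSubgroup_characteristic (G := ↥(T : Subgroup G)) p
        exact Baumann.normalizer_le_omegaCentre _ (CfsgLib.OddLocal.normalizer_le_normalizer_map_characteristic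
          (thompsonSubgroup p ↥(T : Subgroup G)) (Subgroup.le_normalizer (h.core_le hq)))
      rw [show ⁅z, q⁆ = z * (q * z⁻¹ * q⁻¹) by simp only [commutatorElement_def]; group]
      exact mul_mem hz ((mem_normalizer_iff.1 hqn _).1 (inv_mem hz))
    have hcv : Commute v ⁅z, q⁆ := ((Oz.mem_iff.1 hv).2.1 _ (h.zJ_le_core h1)).symm
    have hvq : Commute v q := ((Oz.mem_iff.1 hv).2.1 q hq).symm
    rw [show ⁅v * z, q⁆ = v * ⁅z, q⁆ * v⁻¹ * ⁅v, q⁆ by simp only [commutatorElement_def]; group,
      commutatorElement_eq_one_iff_mul_comm.2 hvq.eq, mul_one, hcv.eq, mul_inv_cancel_right]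
    exact h1
  exact fun x hx => mem_centralizer_iff.2 fun b hb => (mem_centralizer_iff.1 hb.2 x (hle hx)).symm

/-- `⟨Z(S)^H⟩` lies in `modV · Ω₁Z(J(T))`. -/
theorem Over.vS_le : (vS S).map H.subtype ≤ modV p G ⊔ zJ p (T : Subgroup G) := by
  haveI := h.wSub_normal
  refine map_le_iff_le_comap.2 (normalClosure_le_normal fun x hx => ?_)
  refine mem_comap.2 (mem_sup_right (mem_zJ T ?_ fun j hj => ?_))
  · rw [← map_pow, (o.memHyp S).elem x hx, map_one]
  · have hjB := Baumann.thompson_le_baumann (p := p) (T : Subgroup G) hj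
    exact congrArg Subtype.val (mem_centralizer_iff.1 hx.2 ⟨j, o.le hjB⟩ (o.syl.ge hjB))

/-- The commutator of the module with the group lies in `modV`. -/
theorem Over.comm_vS_le : (⁅vS S, (⊤ : Subgroup ↥H)⁆).map H.subtype ≤ modV p G := by
  rw [map_commutator, commutator_le]
  rintro v hv _ ⟨g, -, rfl⟩
  rw [← commutatorElement_inv]
  exact inv_mem (o.comm_wSub h g.2 (o.vS_le h hv))

variable {A₁ B₁ : Subgroup ↥H} {P : Sylow p ↥H} (c : Case1 P A₁ B₁)
variable {F : Type} [Field F] [Fintype F] (hF : Fintype.card F = p ^ n)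
include c hF

omit h in
theorem Over.cop_le {g u : ↥H} (hg : g ∈ pResidual p ↥H) (hu : u ∈ pCore p ↥H) : ⁅g, u⁆ ∈ vS S := by
  have m := o.memHyp P
  rw [← vS_conj S P]
  exact c.cop_trivial m (m.facts F hF) (cop_eq_pResidual.ge hg) u hu

omit h in
/-- The core of the residual is `[⟨Z(S)^H⟩, O^p(H)]`. -/
theorem Over.core_resH : pCoreOf p (pResidual p ↥H) = ⁅vS S, pResidual p ↥H⁆ := by
  have l := linBlock_of_case1 c (o.memHyp P) F hF
  haveI := CfsgLib.Cores.pCore_characteristic (G := ↥(pResidual p ↥H)) p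
  haveI : (pCoreOf p (pResidual p ↥H)).Normal := by unfold pCoreOf; infer_instance
  have hOQ : pCoreOf p (pResidual p ↥H) ≤ pCore p ↥H := CfsgLib.Cores.le_pCore (isPGroup_pCoreOf p _)
  refine le_antisymm ?_ (le_pCoreOf (commutator_le_right _ _) (o.hyp.vS_isPGroup.to_le (commutator_le_left _ _))
    (by rw [normalizer_eq_top]; exact le_top))
  refine l.core.ge.trans (commutator_mono ?_ le_rfl)
  refine l.core.ge.trans (commutator_le.2 fun u hu g hg => ?_)
  rw [← commutatorElement_inv]
  exact inv_mem (o.cop_le c hF hg (hOQ hu))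

theorem Over.modH_le : modH S ≤ modV p G := by
  have l := linBlock_of_case1 c (o.memHyp P) F hF
  refine le_trans (map_mono ?_) (o.comm_vS_le h)
  rw [← o.core_resH c hF]
  refine l.core.ge.trans (commutator_mono ?_ le_top)
  rw [o.core_resH c hF]
  exact commutator_le_left _ _

/-- The residual acts trivially on the core of the group modulo its module commutator. -/
theorem Over.comm_core {e : G} (he : e ∈ resH p H) {q : G} (hq : q ∈ pCore p G) : ⁅e, q⁆ ∈ modH S := by
  haveI hQn : (pCore p G).Normal := inferInstance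
  have hWV := o.modH_le h c hF
  have hcW : ∀ c' ∈ pCore p G, ∀ w ∈ modH S, Commute c' w := fun c' hc' w hw => (Oz.mem_iff.1 (hWV hw)).2.1 c' hc'
  have hpow : ∀ c' ∈ pCore p G, ∃ i : ℕ, c' ^ p ^ i = 1 := fun c' hc' => by
    obtain ⟨i, hi⟩ := (CfsgLib.Cores.isPGroup_pCore (p := p) (G := G)) ⟨c', hc'⟩
    exact ⟨i, by simpa using congrArg Subtype.val hi⟩
  have hQH : ∀ x ∈ resH p H, ∀ q ∈ pCore p G, ∃ u : ↥H, u ∈ pCore p ↥H ∧ (u : G) = ⁅x, q⁆ := by
    have hle : ⁅⁅pCore p G, resH p H⁆, modV p G ⊔ zJ p (T : Subgroup G)⁆ = ⊥ := by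
      refine commutator_commutator_eq_bot_of_rotate ?_ ?_
      · refine commutator_eq_bot_iff_le_centralizer.2 ((commutator_le.2 fun x hx y hy =>
          mem_centralizer_iff.2 fun q hq => (Oz.mem_iff.1 (o.comm_wSub h (resH_le H hx) hy)).2.1 q hq))
      · rw [commutator_comm, commutator_eq_bot_iff_le_centralizer]
        exact (resH_le H).trans (o.cent_comm h)
    have hB : ⁅pCore p G, resH p H⁆ ≤ baumannSubgroupOf p (T : Subgroup G) := fun x hx =>
      ⟨h.core_le (commutator_le_left _ _ hx),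
        (commutator_eq_bot_iff_le_centralizer.1 hle hx |> fun hc => centralizer_le (SetLike.coe_subset_coe.2 le_sup_right) hc)⟩
    have hnorm : H ≤ normalizer ((⁅pCore p G, resH p H⁆ : Subgroup G) : Set G) := fun g hg =>
      CfsgLib.LocalEven.mem_normalizer_of_conj_le (by
        rw [map_commutator]
        exact commutator_mono (map_le_iff_le_comap.2 fun q hq => hQn.conj_mem q hq g)
          (map_le_iff_le_comap.2 fun e he => (mem_normalizer_iff.1 (le_normalizer_resH hg) e).1 he))
    haveI := normal_subgroupOf_of_le_normalizer hnorm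
    have hN : (⁅pCore p G, resH p H⁆).subgroupOf H ≤ pCore p ↥H := CfsgLib.Cores.le_pCore
      (((CfsgLib.Cores.isPGroup_pCore p).to_le (commutator_le_left _ _)).comap_subtype)
    intro x hx q hq
    have h1 : ⁅x, q⁆ ∈ ⁅pCore p G, resH p H⁆ := by
      rw [← commutatorElement_inv]
      exact inv_mem (commutator_mem_commutator hq hx)
    exact ⟨⟨⁅x, q⁆, o.le (hB h1)⟩, hN h1, rfl⟩
  -- elements of order prime to `p`
  have key : ∀ x : ↥H, (orderOf x).Coprime p → ∀ q ∈ pCore p G, ⁅(x : G), q⁆ ∈ modH S := by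
    intro x hx
    have hxR : x ∈ pResidual p ↥H := CfsgLib.Transfer.mem_pResidual_of_coprime hx
    have hxc : ∀ v ∈ vS S, ⁅x, v⁆ ∈ ⁅vS S, pResidual p ↥H⁆ := fun v hv => by
      rw [← commutatorElement_inv]
      exact inv_mem (commutator_mem_commutator hv hxR)
    have step : ∀ u ∈ pCore p ↥H, ⁅x, u⁆ ∈ ⁅vS S, pResidual p ↥H⁆ := fun u hu => by
      have hcv := o.cop_le c hF hxR hu
      refine coprime_comm_mem (p := p) hx rfl ?_ (fun w hw => ?_) (hxc _ hcv) fun w hw => ?_
      · obtain ⟨i, hi⟩ := o.hyp.vS_isPGroup ⟨_, hcv⟩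
        exact ⟨i, by simpa using congrArg Subtype.val hi⟩
      · exact (inferInstance : (⁅vS S, pResidual p ↥H⁆).Normal).conj_mem w hw x
      · exact o.hyp.vS_comm (commutator_le_left _ _ hw) ((o.hyp.vS_le hcv).1)
    intro q hq
    obtain ⟨u, hu, hue⟩ := hQH x (mem_map_of_mem _ hxR) q hq
    refine coprime_comm_mem (p := p) (by rwa [orderOf_coe]) rfl (hpow _ ?_) (fun w hw => ?_) ?_ (hcW _ ?_)
    · exact (show ⁅(x : G), q⁆ ∈ pCore p G by
        rw [commutatorElement_def]; exact mul_mem (hQn.conj_mem q hq x) (inv_mem hq))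
    · exact (mem_normalizer_iff.1 (le_normalizer_modH x.2) w).1 hw
    · rw [← hue]
      exact ⟨⁅x, u⁆, step u hu, by simp⟩
    · exact (show ⁅(x : G), q⁆ ∈ pCore p G by
        rw [commutatorElement_def]; exact mul_mem (hQn.conj_mem q hq x) (inv_mem hq))
  let K₀ : Subgroup G :=
    { carrier := {a | a ∈ normalizer (modH S : Set G) ∧ ∀ q ∈ pCore p G, ⁅a, q⁆ ∈ modH S}
      one_mem' := ⟨one_mem _, fun q _ => by rw [commutatorElement_one_left]; exact one_mem _⟩
      mul_mem' := fun {a b} ha hb => ⟨mul_mem ha.1 hb.1, fun q hq => by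
        rw [show ⁅a * b, q⁆ = a * ⁅b, q⁆ * a⁻¹ * ⁅a, q⁆ by simp only [commutatorElement_def]; group]
        exact mul_mem ((mem_normalizer_iff.1 ha.1 _).1 (hb.2 q hq)) (ha.2 q hq)⟩
      inv_mem' := fun {a} ha => ⟨inv_mem ha.1, fun q hq => by
        rw [show ⁅a⁻¹, q⁆ = a⁻¹ * ⁅a, q⁆⁻¹ * a⁻¹⁻¹ by simp only [commutatorElement_def]; group]
        exact (mem_normalizer_iff.1 (inv_mem ha.1) _).1 (inv_mem (ha.2 q hq))⟩ }
  have hle : resH p H ≤ K₀ := map_le_iff_le_comap.2 ((closure_le _).2 fun x hx =>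
    ⟨le_normalizer_modH x.2, key x hx⟩)
  exact (hle he).2 q hq

/-- The kernel of the action on the module is the core. -/
theorem Over.kerV_eq : kerV p G = pCore p G := by
  haveI : (pCore p G).Normal := inferInstance
  refine h.kerV_eq_of (N := actKer (pCore p G) (modV p G)) (fun hle => o.resH_notLe h ?_) fun g hg => hg
  have hle' : resH p H ≤ actKer (pCore p G) (modV p G) :=
    fun e he q hq => o.modH_le h c hF (o.comm_core h c hF he hq)
  exact hle'.trans hle

omit c hF in
/-- The residual maps into the overgroup of the member. -/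
theorem Over.pr_resH_le {D : Subgroup (G ⧸ kerV p G)} (hD : InT p (bT T) (Additive ↥(modV p G)) D)
    (himg : ∀ g ∈ H, ∃ x ∈ others p (bT T) (Additive ↥(modV p G)) D,
      ∃ l ∈ blk p (bT T) (Additive ↥(modV p G)) D, pr p G g = x * l) :
    (resH p H).map (pr p G) ≤ blk p (bT T) (Additive ↥(modV p G)) D := by
  obtain ⟨hOL, hcomm⟩ := others_facts h hD
  rw [map_le_iff_le_comap, resH, map_le_iff_le_comap, pResidual, closure_le]
  intro g hg
  obtain ⟨x, hx, l, hl, e⟩ := himg g g.2
  have hco : (orderOf (pr p G (g : G))).Coprime p :=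
    Nat.Coprime.coprime_dvd_left ((orderOf_map_dvd _ _).trans (orderOf_coe g).dvd) hg
  set k := orderOf (pr p G (g : G)) with hk
  have hpk : x ^ k * l ^ k = 1 := by
    rw [← (show Commute x l from hcomm x hx l hl).mul_pow, ← e, hk, pow_orderOf_eq_one]
  have hxk : x ^ k = 1 := by
    have h1 : x ^ k ∈ others p (bT T) (Additive ↥(modV p G)) D ⊓ blk p (bT T) (Additive ↥(modV p G)) D :=
      mem_inf.2 ⟨pow_mem hx k, by rw [eq_inv_of_mul_eq_one_left hpk]; exact inv_mem (pow_mem hl k)⟩
    rwa [hOL, mem_bot] at h1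
  have hoT : others p (bT T) (Additive ↥(modV p G)) D ≤ ((bT T : Sylow p (G ⧸ kerV p G)) : Subgroup (G ⧸ kerV p G)) :=
    sSup_le fun C hC => hC.2.1
  have hxT := hoT hx
  obtain ⟨i, hi⟩ := (bT T).2 ⟨x, hxT⟩
  have hx1 : x = 1 := orderOf_eq_one_iff.1 (Nat.eq_one_of_dvd_coprimes (hco.pow_right i)
    (orderOf_dvd_of_pow_eq_one hxk) (orderOf_dvd_of_pow_eq_one (by simpa using congrArg Subtype.val hi)))
  show pr p G (g : G) ∈ blk p (bT T) (Additive ↥(modV p G)) D
  rw [e, hx1, one_mul]
  exact hl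

/-- The residual is the residual of the preimage of the overgroup of the member. -/
theorem Over.memRes_eq {D : Subgroup (G ⧸ kerV p G)} (hD : InT p (bT T) (Additive ↥(modV p G)) D)
    (himg : ∀ g ∈ H, ∃ x ∈ others p (bT T) (Additive ↥(modV p G)) D,
      ∃ l ∈ blk p (bT T) (Additive ↥(modV p G)) D, pr p G g = x * l) :
    memRes T D = resH p H := by
  set E := resH p H with hE
  set L := blk p (bT T) (Additive ↥(modV p G)) D with hL
  have hEL : E.map (pr p G) ≤ L := o.pr_resH_le h hD himg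
  have hres : ∀ x : G, (orderOf x).Coprime p → x ∈ H → x ∈ E := fun x hx hxH =>
    ⟨⟨x, hxH⟩, CfsgLib.Transfer.mem_pResidual_of_coprime (by rwa [Subgroup.orderOf_mk]), rfl⟩
  refine le_antisymm (Baumann.pResidualOf_le_iff.2 fun g hg hgo => ?_) ?_
  · set R := liftJ T D ⊔ pCore p G with hR
    have hRT : R ≤ (T : Subgroup G) :=
      sup_le (inf_le_left.trans (CfsgLib.Transfer.thompsonSubgroupOf_le p _)) h.core_le
    have hRE : R ≤ normalizer (E : Set G) := by
      refine sup_le (inf_le_left.trans ((Baumann.thompson_le_baumann _).trans (o.le.trans le_normalizer_resH)))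
        fun q hq => CfsgLib.Solvable.mem_normalizer_of_conj_mem fun e he => ?_
      rw [show q * e * q⁻¹ = ⁅e, q⁆⁻¹ * e by simp only [commutatorElement_def]; group]
      exact mul_mem (inv_mem (modH_le_resH (o.comm_core h c hF he hq))) he
    have hcov : L ≤ (E ⊔ R).map (pr p G) := by
      refine ((InT.blk_min h.setting hD).least (E.map (pr p G) ⊔ D) le_sup_right
        (sup_le hEL (InT.blk_min h.setting hD).aLe) fun hle => o.resH_notLe h fun e he =>
          h.pr_mem_map.1 (hle (mem_sup_left (mem_map_of_mem _ he)))).trans (sup_le (map_mono le_sup_left) ?_)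
      exact (map_liftJ h hD).ge.trans (map_mono (le_sup_left.trans le_sup_right))
    have hg' : g ∈ E ⊔ R := by
      obtain ⟨y, hy, e⟩ := hcov hg
      have h1 : y⁻¹ * g ∈ kerV p G := pr_eq_one.1 (by rw [map_mul, map_inv, e, inv_mul_cancel])
      rw [o.kerV_eq h c hF] at h1
      have h2 := mul_mem hy (mem_sup_right (mem_sup_right h1) : y⁻¹ * g ∈ E ⊔ R)
      rwa [mul_inv_cancel_left] at h2
    obtain ⟨e, he, t, ht, rfl⟩ := CfsgLib.Solvable.exists_mul_of_mem_sup hRE hg'
    obtain ⟨i, hi⟩ := T.2 ⟨t, hRT ht⟩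
    have hti : t ^ p ^ i = 1 := by simpa using congrArg Subtype.val hi
    have hpw : ∀ k : ℕ, (e * t) ^ k * (t ^ k)⁻¹ ∈ E := fun k => by
      induction k with
      | zero => simp [one_mem]
      | succ k ih =>
        rw [show (e * t) ^ (k + 1) * (t ^ (k + 1))⁻¹ = (e * t) ^ k * (t ^ k)⁻¹ * (t ^ k * e * (t ^ k)⁻¹) by
          rw [pow_succ, pow_succ]; group]
        exact mul_mem ih ((mem_normalizer_iff.1 (pow_mem (hRE ht) k) e).1 he)
    have h1 := hpw (p ^ i)
    rw [hti, inv_one, mul_one] at h1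
    obtain ⟨a, b, hab⟩ := Int.isCoprime_iff_nat_coprime.2
      (show Nat.Coprime (Int.natAbs (orderOf (e * t) : ℤ)) (Int.natAbs ((p ^ i : ℕ) : ℤ)) from hgo.pow_right i)
    rw [← zpow_one (e * t), ← hab, zpow_add, mul_comm a, zpow_mul, zpow_natCast, pow_orderOf_eq_one, one_zpow,
      one_mul, mul_comm b, zpow_mul, zpow_natCast]
    exact zpow_mem h1 b
  · rw [hE, resH, map_le_iff_le_comap, pResidual, closure_le]
    intro g hg
    exact Baumann.pResidualOf_le_iff.1 le_rfl (g : G)
      (mem_comap.2 (hEL (mem_map_of_mem _ (hres g (by rwa [orderOf_coe]) g.2)))) (by rwa [orderOf_coe])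

end CfsgLib.LocalEven.PushMin
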