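import Cfsg.Agent.Lib.LocalEven.PushMin.Setup
import Cfsg.Agent.Lib.LocalEven.PMinFF.Blocks

/-!
Automorphisms of odd order of the Sylow 2-subgroup in pushing up: the images of `modV` lie in the core, since the
non-commuting pairs among them would form a bipartite relation.
-/

set_option autoImplicit false
set_option linter.unusedSectionVars false

namespace CfsgLib.LocalEven.PMinFF

open CfsgLib.Fusion (conjSub mem_conjSub conj_mem_conjSub conjSub_conjSub conjSub_one conjSub_mono)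
open CfsgLib.LocalEven.MinOffender (fx fx_anti)
open CfsgLib.LocalEven.StrongFF (cm mem_cm)
open CfsgLib.Techniques.CharTransfer (offJoin)

variable {Γ : Type*} [Group Γ] [Finite Γ] {N : Type*} [AddCommGroup N] [DistribMulAction Γ N] [Finite N]
variable {p : ℕ} [Fact p.Prime] {T : Sylow p Γ} {Mx : Subgroup Γ} (h : Setting p T Mx N)
include h

omit h in
theorem le_offJoin_of_inT {C : Subgroup Γ} (hC : InT p T N C) : C ≤ offJoin p T N :=
  le_iSup (fun D : {D : Subgroup Γ // InT p T N D} => D.1) ⟨C, hC⟩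

theorem InT.comm_members {B C : Subgroup Γ} (hB : InT p T N B) (hC : InT p T N C) :
    ∀ b ∈ B, ∀ c ∈ C, b * c = c * b := fun b hb c hc => by
  by_cases e : B = C
  · subst e; exact hB.1.comm b hb c hc
  · exact InT.blk_comm h hC hB e b hb c ((InT.blk_min h hC).aLe hc)

theorem offJoin_comm : ∀ a ∈ offJoin p T N, ∀ b ∈ offJoin p T N, a * b = b * a := by
  have h1 : ∀ C : {C : Subgroup Γ // InT p T N C}, C.1 ≤ Subgroup.centralizer (offJoin p T N : Set Γ) := fun C => by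
    have h2 : offJoin p T N ≤ Subgroup.centralizer (C.1 : Set Γ) := iSup_le fun B b hb =>
      Subgroup.mem_centralizer_iff.2 fun c hc => (InT.comm_members h B.2 C.2 b hb c hc).symm
    exact fun c hc => Subgroup.mem_centralizer_iff.2 fun b hb => ((Subgroup.mem_centralizer_iff.1 (h2 hb)) c hc).symm
  exact fun a ha b hb => (Subgroup.mem_centralizer_iff.1 ((iSup_le h1 : offJoin p T N ≤ _) ha) b hb).symm

theorem offJoin_card_le : Nat.card ↥(offJoin p T N) * Nat.card ↥(fx N (offJoin p T N)) ≤ Nat.card N :=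
  (h.bound (Nat.card ↥(offJoin p T N) + 1) _ (Nat.lt_succ_self _) (iSup_le fun C => C.2.2) (offJoin_comm h)).1

theorem InT.eq_one_of_mem_others {C : Subgroup Γ} (hC : InT p T N C) {a : Γ} (ha : a ∈ C)
    (ha' : a ∈ others p T N C) : a = 1 := by
  obtain ⟨x, hxL, hx⟩ := SetLike.not_le_iff_exists.1 (InT.blk_min h hC).notLe
  refine Top.outside h (InT.piece h hC) (InT.top h hC) (InT.blk_le h hC hxL) hx ha ?_
  have hc : others p T N C ≤ Subgroup.centralizer (blk p T N C : Set Γ) := sSup_le fun B hB b hb =>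
    Subgroup.mem_centralizer_iff.2 fun l hl =>
      (InT.blk_comm h hC (B := B) ⟨hB.1, hB.2.1⟩ hB.2.2 b hb l hl).symm
  rw [Subgroup.mem_centralizer_iff.1 (hc ha') x hxL, mul_inv_cancel_right]
  exact h.sylLe (hC.2 ha)

theorem InT.others_cm {C : Subgroup Γ} (hC : InT p T N C) {j : Γ} (hj : j ∈ others p T N C) :
    ∀ v : N, j • v - v ∈ fx N (blk p T N C) := by
  set L := blk p T N C
  let S : Subgroup Γ :=
    { carrier := {j | (∀ l ∈ L, j * l = l * j) ∧ ∀ v : N, j • v - v ∈ fx N L}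
      one_mem' := ⟨fun l _ => by rw [one_mul, mul_one], fun v => by rw [one_smul, sub_self]; exact zero_mem _⟩
      mul_mem' := fun {a b} ha hb => ⟨fun l hl => by rw [mul_assoc, hb.1 l hl, ← mul_assoc, ha.1 l hl, mul_assoc],
        fun v => by
          rw [show (a * b) • v - v = a • (b • v - v) + (a • v - v) by rw [smul_sub, mul_smul]; abel]
          refine add_mem (fun l hl => ?_) (ha.2 v)
          rw [← mul_smul, ← ha.1 l hl, mul_smul, hb.2 v l hl]⟩
      inv_mem' := fun {a} ha => ⟨fun l hl => by rw [eq_comm, eq_inv_mul_iff_mul_eq, ← mul_assoc, ha.1 l hl,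
          mul_inv_cancel_right],
        fun v => by
          have h1 := ha.2 (a⁻¹ • v)
          rw [smul_inv_smul] at h1
          rw [← neg_sub]
          exact neg_mem h1⟩ }
  have hle : others p T N C ≤ S := sSup_le fun B hB b hb =>
    ⟨fun l hl => InT.blk_comm h hC ⟨hB.1, hB.2.1⟩ hB.2.2 b hb l hl,
      fun v => InT.cm_le_fix h hC ⟨hB.1, hB.2.1⟩ hB.2.2 hb (mem_cm.2 ⟨v, rfl⟩)⟩
  exact (hle hj).2

/-- A nontrivial invariant subgroup of the join of the members fixes only what the join fixes. -/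
theorem fx_invariant {X : Subgroup Γ} (hX : X ≤ offJoin p T N) (hne : X ≠ ⊥)
    (hinv : ∀ t ∈ (T : Subgroup Γ), conjSub t X = X) : fx N X = fx N (offJoin p T N) := by
  classical
  refine le_antisymm (fun v hv => ?_) (fx_anti hX)
  have hsplit : ∀ {C : Subgroup Γ}, InT p T N C → ∀ x ∈ X, ∃ u ∈ C, ∃ j ∈ others p T N C, x = u * j := by
    intro C hC x hx
    have hle : offJoin p T N ≤ C ⊔ others p T N C := iSup_le fun B => by
      by_cases e : B.1 = C
      · exact e.le.trans le_sup_left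
      · exact (InT.le_others h hC B.2 e).trans le_sup_right
    have hn : others p T N C ≤ Subgroup.normalizer (C : Set Γ) := sSup_le fun B hB b hb => by
      refine CfsgLib.Fusion.mem_normalizer_of_forall fun c hc => ?_
      rw [InT.comm_members h (B := B) ⟨hB.1, hB.2.1⟩ hC b hb c hc, mul_inv_cancel_right]
      exact hc
    have h1 : x ∈ (↑(C ⊔ others p T N C) : Set Γ) := hle (hX hx)
    rw [Subgroup.coe_mul_of_right_le_normalizer_left C _ hn] at h1
    obtain ⟨u, hu, j, hj, e⟩ := h1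
    exact ⟨u, hu, j, hj, e.symm⟩
  have hnot : ∀ {C : Subgroup Γ}, InT p T N C → ¬ X ≤ others p T N C := by
    intro C hC hle
    apply hne
    rw [eq_bot_iff]
    have hall : ∀ B : {B : Subgroup Γ // InT p T N B}, X ≤ others p T N B.1 := by
      intro B
      obtain ⟨t, ht, e⟩ := InT.exists_conj h hC B.2
      rw [e, others_conj h ht, ← hinv t ht]
      exact conjSub_mono t hle
    haveI := Fintype.ofFinite {B : Subgroup Γ // InT p T N B}
    have key : ∀ s : Finset {B : Subgroup Γ // InT p T N B}, ∀ x ∈ X, x ∈ ⨆ B ∈ s, B.1 → x = 1 := by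
      intro s
      induction s using Finset.induction_on with
      | empty => intro x _ hx; simpa using hx
      | insert B s hBs ih =>
        intro x hxX hx
        rw [Finset.iSup_insert] at hx
        have hrest : (⨆ D ∈ s, D.1) ≤ others p T N B.1 := iSup₂_le fun D hD =>
          InT.le_others h B.2 D.2 fun e => hBs (Subtype.ext e ▸ hD)
        have hn : (⨆ D ∈ s, D.1) ≤ Subgroup.normalizer (B.1 : Set Γ) := iSup₂_le fun D _ b hb => by
          refine CfsgLib.Fusion.mem_normalizer_of_forall fun c hc => ?_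
          rw [InT.comm_members h D.2 B.2 b hb c hc, mul_inv_cancel_right]
          exact hc
        rw [← SetLike.mem_coe, Subgroup.coe_mul_of_right_le_normalizer_left _ _ hn] at hx
        obtain ⟨u, hu, j, hj, e⟩ := hx
        have e : u * j = x := e
        have hu1 : u = 1 := InT.eq_one_of_mem_others h B.2 hu (by
          rw [show u = x * j⁻¹ from eq_mul_inv_iff_mul_eq.2 e]
          exact mul_mem (hall B hxX) (inv_mem (hrest hj)))
        rw [hu1, one_mul] at e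
        exact ih x hxX (e ▸ hj)
    intro x hx
    refine Subgroup.mem_bot.2 (key Finset.univ x hx ?_)
    simp only [Finset.mem_univ, iSup_pos]
    exact hX hx
  refine (CfsgLib.Techniques.CharTransfer.mem_offFix (p := p) (T := T)).2 fun C hC => ?_
  obtain ⟨x, hx, hxo⟩ := SetLike.not_le_iff_exists.1 (hnot hC)
  obtain ⟨u, hu, j, hj, rfl⟩ := hsplit hC x hx
  have hu1 : u ≠ 1 := fun e => hxo (by rw [e, one_mul]; exact hj)
  have h1 : u • v - v ∈ fx N (blk p T N C) := by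
    have h2 := InT.others_cm h hC hj v
    have h3 : u • (j • v - v) = j • v - v := h2 u ((InT.blk_min h hC).aLe hu)
    rw [smul_sub, ← mul_smul, hv _ hx] at h3
    rw [← neg_sub, show v - u • v = j • v - v by rw [← h3]]
    exact neg_mem h2
  exact InT.fix_of h hC hu hu1 (sub_eq_zero.1 (InT.cm_disj h hC hu (mem_cm.2 ⟨v, rfl⟩) h1))

/-- What the members and a supplement of `T` fix is fixed by every overgroup of a member. -/
theorem fix_blk {K : Subgroup Γ} (hK : ∀ g : Γ, ∃ k ∈ K, ∃ t ∈ (T : Subgroup Γ), g = k * t) {v : N}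
    (hvO : v ∈ fx N (offJoin p T N)) (hvK : v ∈ fx N K) {C : Subgroup Γ} (hC : InT p T N C) :
    v ∈ fx N (blk p T N C) := by
  have hle : blk p T N C ≤ MulAction.stabilizer Γ v := by
    refine iSup₂_le fun g _ => ?_
    rintro _ ⟨c, hc, rfl⟩
    obtain ⟨k, hk, t, ht, rfl⟩ := hK g
    have h1 : (t * c * t⁻¹) • v = v :=
      hvO _ (le_offJoin_of_inT (InT.conj h hC ht) (conj_mem_conjSub hc))
    have h2 : k⁻¹ • v = v := hvK _ (inv_mem hk)
    show (k * t * c * (k * t)⁻¹) • v = v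
    rw [show k * t * c * (k * t)⁻¹ = k * (t * c * t⁻¹) * k⁻¹ by group, mul_smul, mul_smul, h2, h1]
    exact hvK k hk
  exact fun g hg => hle hg

end CfsgLib.LocalEven.PMinFF

namespace CfsgLib.LocalEven.PushMin

open Cfsg Subgroup
open CfsgLib.Fusion (conjSub conjSub_mono)
open CfsgLib.LocalEven.MinOffender (fx fx_anti)
open CfsgLib.LocalEven.PMinFF (InT)
open CfsgLib.LocalEven.StrongFF (cm mem_cm)
open CfsgLib.Techniques.CharTransfer (offJoin)
open scoped commutatorElement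

variable {G : Type*} [Group G] [Finite G] [Fact (Nat.Prime 2)] {T : Sylow 2 G} {M : Subgroup G}

set_option quotPrecheck false in
local notation "𝕄" => Additive ↥(modV 2 G)

/-- The image of `modV` under an automorphism of `T`. -/
def imV (T : Sylow 2 G) (a : MulAut ↥(T : Subgroup G)) : Subgroup G :=
  (((modV 2 G).subgroupOf (T : Subgroup G)).map a.toMonoidHom).map (T : Subgroup G).subtype

/-- Two automorphisms move `modV` to subgroups that do not commute. -/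
def Adj (T : Sylow 2 G) (a b : MulAut ↥(T : Subgroup G)) : Prop :=
  ∃ x ∈ imV T a, ∃ y ∈ imV T b, x * y ≠ y * x

theorem mem_imV {a : MulAut ↥(T : Subgroup G)} {x : G} :
    x ∈ imV T a ↔ ∃ v : ↥(T : Subgroup G), (v : G) ∈ modV 2 G ∧ ((a v : ↥(T : Subgroup G)) : G) = x :=
  ⟨fun ⟨_, ⟨v, hv, e⟩, e'⟩ => ⟨v, hv, by subst e; exact e'⟩, fun ⟨v, hv, e⟩ => ⟨a v, ⟨v, hv, rfl⟩, e⟩⟩

theorem imV_le_T (a : MulAut ↥(T : Subgroup G)) : imV T a ≤ (T : Subgroup G) := map_subtype_le _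

theorem imV_comm {a : MulAut ↥(T : Subgroup G)} {x y : G} (hx : x ∈ imV T a) (hy : y ∈ imV T a) :
    x * y = y * x := by
  obtain ⟨v, hv, rfl⟩ := mem_imV.1 hx
  obtain ⟨w, hw, rfl⟩ := mem_imV.1 hy
  have h1 : v * w = w * v := Subtype.ext (CfsgLib.PGroup.elemAb_comm (Oz.elemAb (pCore 2 G)) hv hw)
  rw [← Subgroup.coe_mul, ← map_mul, h1, map_mul, Subgroup.coe_mul]

theorem imV_sq {a : MulAut ↥(T : Subgroup G)} {x : G} (hx : x ∈ imV T a) : x * x = 1 := by
  obtain ⟨v, hv, rfl⟩ := mem_imV.1 hx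
  have h1 : v * v = 1 := Subtype.ext (by rw [Subgroup.coe_mul, Subgroup.coe_one, ← pow_two]; exact pow_eq_one_of_mem hv)
  rw [← Subgroup.coe_mul, ← map_mul, h1, map_one, Subgroup.coe_one]

theorem Adj.symm {a b : MulAut ↥(T : Subgroup G)} (h : Adj T a b) : Adj T b a := by
  obtain ⟨x, hx, y, hy, hne⟩ := h
  exact ⟨y, hy, x, hx, fun e => hne e.symm⟩

theorem not_adj_self (a : MulAut ↥(T : Subgroup G)) : ¬ Adj T a a := fun ⟨_, hx, _, hy, hne⟩ =>
  hne (imV_comm hx hy)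

theorem Adj.mul {a b : MulAut ↥(T : Subgroup G)} (h : Adj T a b) (c : MulAut ↥(T : Subgroup G)) :
    Adj T (c * a) (c * b) := by
  obtain ⟨x, hx, y, hy, hne⟩ := h
  obtain ⟨v, hv, rfl⟩ := mem_imV.1 hx
  obtain ⟨w, hw, rfl⟩ := mem_imV.1 hy
  refine ⟨_, mem_imV.2 ⟨v, hv, rfl⟩, _, mem_imV.2 ⟨w, hw, rfl⟩, fun e => hne ?_⟩
  have e1 : c (a v) * c (b w) = c (b w) * c (a v) := Subtype.ext e
  rw [← map_mul, ← map_mul] at e1
  exact congrArg Subtype.val (c.injective e1)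

theorem Adj.iff_one {a b : MulAut ↥(T : Subgroup G)} : Adj T a b ↔ Adj T 1 (a⁻¹ * b) := by
  constructor
  · intro h
    have := h.mul a⁻¹
    rwa [inv_mul_cancel] at this
  · intro h
    have := h.mul a
    rwa [mul_one, mul_inv_cancel_left] at this

namespace Hyps

variable (h : Hyps 2 T M)
include h

theorem modV_le_T : modV 2 G ≤ (T : Subgroup G) := Hyps.modV_le.trans h.core_le

theorem imV_one : imV T 1 = modV 2 G := map_subgroupOf_eq_of_le h.modV_le_T |> fun e => by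
  rw [imV]
  convert e using 2
  ext x
  constructor
  · rintro ⟨v, hv, rfl⟩; exact hv
  · exact fun hx => ⟨x, hx, rfl⟩

theorem imV_normalized (a : MulAut ↥(T : Subgroup G)) {t x : G} (ht : t ∈ (T : Subgroup G)) (hx : x ∈ imV T a) :
    t * x * t⁻¹ ∈ imV T a := by
  obtain ⟨v, hv, rfl⟩ := mem_imV.1 hx
  refine mem_imV.2 ⟨a.symm ⟨t, ht⟩ * v * (a.symm ⟨t, ht⟩)⁻¹, ?_, ?_⟩
  · exact (modV_normal 2 G).conj_mem _ hv _
  · simp

theorem commutator_mem {a b : MulAut ↥(T : Subgroup G)} {x y : G} (hx : x ∈ imV T a) (hy : y ∈ imV T b) :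
    ⁅x, y⁆ ∈ imV T a ∧ ⁅x, y⁆ ∈ imV T b := by
  constructor
  · rw [commutatorElement_def, show x * y * x⁻¹ * y⁻¹ = x * (y * x⁻¹ * y⁻¹) by group]
    exact mul_mem hx (h.imV_normalized a (imV_le_T b hy) (inv_mem hx))
  · rw [commutatorElement_def]
    exact mul_mem (h.imV_normalized b (imV_le_T a hx) hy) (inv_mem hy)

theorem mem_core_iff {g : G} (hg : g ∈ (T : Subgroup G)) : g ∈ pCore 2 G ↔ pr 2 G g = 1 := by
  rw [pr_eq_one]
  exact ⟨fun hq => core_le_ker hq, fun hk => h.inf_ker.le ⟨hg, hk⟩⟩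

theorem pr_imV (a : MulAut ↥(T : Subgroup G)) : (imV T a).map (pr 2 G) ≤ offJoin 2 (bT T) 𝕄 := by
  obtain ⟨A₁, hA₁, hA₁T⟩ := CfsgLib.Transfer.exists_maxEA_le_sylow T
  have hA0 := (h.offender hA₁ hA₁T).2
  set A₀ := modV 2 G ⊔ (A₁ ⊓ kerV 2 G) with hA₀
  have hA₀T : A₀ ≤ (T : Subgroup G) := sup_le h.modV_le_T (inf_le_left.trans hA₁T)
  set f : ↥(T : Subgroup G) →* G := (T : Subgroup G).subtype.comp a.toMonoidHom with hf
  have hfi : Function.Injective f := Subtype.val_injective.comp a.injective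
  set A' : Subgroup G := (A₀.subgroupOf (T : Subgroup G)).map f with hA'
  have hcard : Nat.card ↥A' = Nat.card ↥A₀ := by
    rw [hA', card_map_of_injective hfi, Nat.card_congr (subgroupOfEquivOfLe hA₀T).toEquiv]
  have hmem : A' ∈ maxElementaryAbelianSubgroups 2 G := by
    refine ⟨CfsgLib.PGroup.isElementaryAbelian_mk ?_ ?_, fun B hB => (hA0.2 B hB).trans hcard.ge⟩
    · rintro _ ⟨x, hx, rfl⟩ _ ⟨y, hy, rfl⟩
      rw [← map_mul, ← map_mul, show x * y = y * x from Subtype.ext (CfsgLib.PGroup.elemAb_comm hA0.1 hx hy)]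
    · rintro _ ⟨x, hx, rfl⟩
      rw [← map_pow, show x ^ 2 = 1 from Subtype.ext (hA0.1.2 _ hx), map_one]
  refine le_trans (map_mono ?_) (h.maxEA_le_offJoin hmem (by rintro _ ⟨x, -, rfl⟩; exact (a x).2))
  intro x hx
  obtain ⟨v, hv, rfl⟩ := mem_imV.1 hx
  exact ⟨v, (le_sup_left : modV 2 G ≤ A₀) hv, rfl⟩

theorem fx_imV {a : MulAut ↥(T : Subgroup G)} (ha : Adj T 1 a) :
    fx 𝕄 ((imV T a).map (pr 2 G)) = fx 𝕄 (offJoin 2 (bT T) 𝕄) := by
  refine PMinFF.fx_invariant h.setting (h.pr_imV a) (fun e => ?_) fun s hs => ?_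
  · obtain ⟨x, hx, y, hy, hne⟩ := ha
    rw [h.imV_one] at hx
    have h1 : pr 2 G y = 1 := mem_bot.1 (e ▸ mem_map_of_mem _ hy)
    exact hne (mem_centralizer_iff.1 (pr_eq_one.1 h1) x hx)
  · obtain ⟨t, ht, rfl⟩ := (coe_bT T).le hs
    refine Subgroup.eq_of_le_of_card_ge ?_ (CfsgLib.Fusion.card_conjSub _ _).ge
    rintro _ ⟨_, ⟨x, hx, rfl⟩, rfl⟩
    exact ⟨t * x * t⁻¹, h.imV_normalized a ht hx, by simp⟩

theorem mem_fx_offJoin_of_comm {a : MulAut ↥(T : Subgroup G)} (ha : Adj T 1 a) {v : ↥(modV 2 G)}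
    (hv : ∀ x ∈ imV T a, x * (v : G) = v * x) : Additive.ofMul v ∈ fx 𝕄 (offJoin 2 (bT T) 𝕄) := by
  rw [← h.fx_imV ha, mem_fx_map]
  exact hv

theorem comm_of_mem_fx {b : MulAut ↥(T : Subgroup G)} {v : ↥(modV 2 G)}
    (hv : Additive.ofMul v ∈ fx 𝕄 (offJoin 2 (bT T) 𝕄)) : ∀ x ∈ imV T b, x * (v : G) = v * x :=
  mem_fx_map.1 (fx_anti (h.pr_imV b) hv)

/-- Every element of the join of the members is seen on each non-commuting image. -/
theorem pr_surj_imV {a : MulAut ↥(T : Subgroup G)} (ha : Adj T 1 a) :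
    (imV T a).map (pr 2 G) = offJoin 2 (bT T) 𝕄 := by
  have ha' : Adj T 1 a⁻¹ := by
    have := (Adj.iff_one.1 ha.symm)
    rwa [mul_one] at this
  refine Subgroup.eq_of_le_of_card_ge (h.pr_imV a) ?_
  set X := imV T a with hX
  have h3 : Nat.card ↥X = Nat.card ↥(X.map (pr 2 G)) * Nat.card ↥(X ⊓ kerV 2 G : Subgroup G) := by
    let φ := (pr 2 G).subgroupMap X
    have hk : φ.ker = (kerV 2 G).subgroupOf X := by
      ext x
      rw [MonoidHom.mem_ker, mem_subgroupOf, ← Subtype.val_inj]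
      exact pr_eq_one
    have e1 := card_eq_card_quotient_mul_card_subgroup φ.ker
    rw [Nat.card_congr (QuotientGroup.quotientKerEquivOfSurjective φ ((pr 2 G).subgroupMap_surjective X)).toEquiv]
      at e1
    rw [e1, hk, Nat.card_congr (subgroupOfEquivOfLe (inf_le_left : X ⊓ kerV 2 G ≤ X)).symm.toEquiv,
      inf_subgroupOf_left]
  have hXV : Nat.card ↥X = Nat.card 𝕄 := by
    rw [hX, imV, card_map_of_injective (Subgroup.subtype_injective _),
      card_map_of_injective (show Function.Injective a.toMonoidHom from a.injective),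
      Nat.card_congr (subgroupOfEquivOfLe h.modV_le_T).toEquiv]
    exact Nat.card_congr Additive.ofMul
  have hfix : Nat.card ↥(X ⊓ kerV 2 G : Subgroup G) ≤ Nat.card ↥(fx 𝕄 (offJoin 2 (bT T) 𝕄)) := by
    have hex : ∀ x : ↥(X ⊓ kerV 2 G : Subgroup G), ∃ v : ↥(fx 𝕄 (offJoin 2 (bT T) 𝕄)),
        ∃ ht : val v.1 ∈ (T : Subgroup G), ((a ⟨val v.1, ht⟩ : ↥(T : Subgroup G)) : G) = x := by
      intro x
      obtain ⟨v, hv, hvx⟩ := mem_imV.1 x.2.1
      refine ⟨⟨toMod (v : G) hv, h.mem_fx_offJoin_of_comm ha' (v := ⟨v, hv⟩) fun y hy => ?_⟩, v.2, hvx⟩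
      obtain ⟨w, hw, rfl⟩ := mem_imV.1 hy
      have h1 : (x : G) * w = w * x := (mem_centralizer_iff.1 x.2.2 w hw).symm
      have h2 : a v * w = w * a v := Subtype.ext (by rw [Subgroup.coe_mul, Subgroup.coe_mul, hvx]; exact h1)
      have h3 := congrArg (⇑(a⁻¹ : MulAut ↥(T : Subgroup G))) h2
      rw [map_mul, map_mul, MulAut.inv_apply_self] at h3
      exact congrArg Subtype.val h3.symm
    choose f hf hfx using hex
    refine Nat.card_le_card_of_injective f fun x y e => Subtype.ext ?_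
    rw [← hfx x, ← hfx y]
    simp only [e]
  have hb := PMinFF.offJoin_card_le h.setting
  rw [← hXV, h3] at hb
  exact Nat.le_of_mul_le_mul_right (hb.trans (Nat.mul_le_mul_left _ hfix)) Nat.card_pos

theorem exists_same_image {a : MulAut ↥(T : Subgroup G)} (ha : Adj T 1 a) (b : MulAut ↥(T : Subgroup G))
    {y : G} (hy : y ∈ imV T b) : ∃ x ∈ imV T a, pr 2 G x = pr 2 G y := by
  have h1 : pr 2 G y ∈ (imV T a).map (pr 2 G) := by
    rw [h.pr_surj_imV ha]
    exact h.pr_imV b (mem_map_of_mem _ hy)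
  obtain ⟨x, hx, e⟩ := h1
  exact ⟨x, hx, e⟩

/-- From the vertex `a`: two non-commuting neighbours induce the same maps on its image. -/
theorem transfer {a b c : MulAut ↥(T : Subgroup G)} (hab : Adj T a b) {w : G} (hw : w ∈ imV T c) :
    ∃ v ∈ imV T b, ∀ x ∈ imV T a, ⁅w, x⁆ = ⁅v, x⁆ := by
  obtain ⟨w₀, hw₀, rfl⟩ := mem_imV.1 hw
  obtain ⟨v', hv', e⟩ := h.exists_same_image (Adj.iff_one.1 hab) (a⁻¹ * c)
    (mem_imV.2 ⟨w₀, hw₀, rfl⟩)
  obtain ⟨v₀, hv₀, rfl⟩ := mem_imV.1 hv'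
  refine ⟨_, mem_imV.2 ⟨v₀, hv₀, rfl⟩, fun x hx => ?_⟩
  obtain ⟨x₀, hx₀, rfl⟩ := mem_imV.1 hx
  set d : ↥(T : Subgroup G) := ((a⁻¹ * b) v₀)⁻¹ * (a⁻¹ * c) w₀ with hd
  have hdk : (d : G) ∈ kerV 2 G := by
    rw [← pr_eq_one, hd, Subgroup.coe_mul, Subgroup.coe_inv, map_mul, map_inv, e, inv_mul_cancel]
  have hcomm : d * x₀ = x₀ * d := Subtype.ext ((mem_centralizer_iff.1 hdk x₀ hx₀).symm)
  have hd' : a d * a x₀ = a x₀ * a d := by rw [← map_mul, ← map_mul, hcomm]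
  have had : c w₀ = b v₀ * a d := by
    rw [hd, map_mul, map_inv, MulAut.mul_apply, MulAut.mul_apply, MulAut.apply_inv_self, MulAut.apply_inv_self,
      mul_inv_cancel_left]
  have key : ⁅c w₀, a x₀⁆ = ⁅b v₀, a x₀⁆ := by
    rw [had, commutatorElement_def, commutatorElement_def,
      show b v₀ * a d * a x₀ * (b v₀ * a d)⁻¹ * (a x₀)⁻¹ = b v₀ * (a d * a x₀ * (a d)⁻¹) * (b v₀)⁻¹ * (a x₀)⁻¹ by
        group, hd', mul_inv_cancel_right]
  exact congrArg Subtype.val key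

omit h in
theorem toMod_commutator {x : G} {v : ↥(modV 2 G)} (hc : ⁅(v : G), x⁆ ∈ modV 2 G) :
    toMod ⁅(v : G), x⁆ hc = Additive.ofMul v - pr 2 G x • Additive.ofMul v := by
  refine val_ext ?_
  rw [sub_eq_add_neg]
  rw [← smul_neg, val_add, val_smul]
  show (v : G) * x * (v : G)⁻¹ * x⁻¹ = (v : G) * (x * (v : G)⁻¹ * x⁻¹)
  group

section Fixed

variable (K : Subgroup G) [K.Normal] (hKT : K ⊔ (T : Subgroup G) = ⊤)
  (hKQ : ∀ k ∈ K, ∀ q ∈ pCore 2 G, ⁅k, q⁆ ∈ modV 2 G)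
include hKT hKQ

omit h hKT in
theorem fixK_commutator {z c : G} (hz : z ∈ pCore 2 G) (hc : c ∈ pCore 2 G) :
    ∀ k ∈ K, k * ⁅z, c⁆ = ⁅z, c⁆ * k := by
  intro k hk
  have hV : ∀ w ∈ modV 2 G, ∀ q ∈ pCore 2 G, q * w = w * q := fun w hw q hq => (Oz.mem_iff.1 hw).2.1 q hq
  have h1 := hKQ k hk z hz
  have h2 := hKQ k hk c hc
  have e : k * ⁅z, c⁆ * k⁻¹ = ⁅z, c⁆ := by
    rw [show k * ⁅z, c⁆ * k⁻¹ = ⁅⁅k, z⁆ * z, ⁅k, c⁆ * c⁆ by simp only [commutatorElement_def]; group]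
    set w₁ := ⁅k, z⁆
    set w₂ := ⁅k, c⁆
    have a1 : Commute w₁ z := (hV w₁ h1 z hz).symm
    have a2 : Commute w₁ c := (hV w₁ h1 c hc).symm
    have a3 : Commute w₂ z := (hV w₂ h2 z hz).symm
    have a4 : Commute w₂ c := (hV w₂ h2 c hc).symm
    have a5 : Commute w₁ w₂ := hV w₂ h2 w₁ (Hyps.modV_le h1)
    rw [commutatorElement_def, commutatorElement_def]
    have b1 : w₁ * z * (w₂ * c) = (w₁ * w₂) * (z * c) := by
      rw [mul_assoc, ← mul_assoc z, ← a3.eq]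
      group
    have b2 : (w₁ * z)⁻¹ * (w₂ * c)⁻¹ = (z⁻¹ * c⁻¹) * (w₁ * w₂)⁻¹ := by
      rw [a5.eq, a1.eq, a4.eq, mul_inv_rev, mul_inv_rev, mul_inv_rev, ← mul_assoc, a1.inv_inv.eq,
        mul_assoc z⁻¹, mul_assoc z⁻¹ _ c⁻¹, (a2.inv_inv.mul_left a4.inv_inv).eq, ← mul_assoc z⁻¹]
    have b3 : Commute (w₁ * w₂) (z * c * (z⁻¹ * c⁻¹)) :=
      ((a1.mul_left a3).mul_right (a2.mul_left a4)).mul_right
        ((a1.mul_left a3).inv_right.mul_right (a2.mul_left a4).inv_right)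
    calc w₁ * z * (w₂ * c) * (w₁ * z)⁻¹ * (w₂ * c)⁻¹
        = (w₁ * z * (w₂ * c)) * ((w₁ * z)⁻¹ * (w₂ * c)⁻¹) := by group
      _ = (w₁ * w₂) * (z * c * (z⁻¹ * c⁻¹)) * (w₁ * w₂)⁻¹ := by rw [b1, b2]; group
      _ = z * c * z⁻¹ * c⁻¹ := by rw [b3.eq, mul_inv_cancel_right]; group
  exact mul_inv_eq_iff_eq_mul.1 e

omit h hKT in
theorem fixK_sq {c : G} (hc : c ∈ pCore 2 G) : ∀ k ∈ K, k * (c * c) = c * c * k := by
  intro k hk
  have h1 := hKQ k hk c hc
  have a1 : Commute c ⁅k, c⁆ := (Oz.mem_iff.1 h1).2.1 c hc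
  have a2 : ⁅k, c⁆ * ⁅k, c⁆ = 1 := by rw [← pow_two]; exact pow_eq_one_of_mem h1
  refine mul_inv_eq_iff_eq_mul.1 ?_
  calc k * (c * c) * k⁻¹ = ⁅k, c⁆ * c * (⁅k, c⁆ * c) := by simp only [commutatorElement_def]; group
    _ = ⁅k, c⁆ * ⁅k, c⁆ * (c * c) := by rw [mul_assoc, ← mul_assoc c, a1.eq]; group
    _ = c * c := by rw [a2, one_mul]

theorem mem_blk_fix {σ : ↥(modV 2 G)} (hσK : ∀ k ∈ K, k * (σ : G) = σ * k)
    (hσO : Additive.ofMul σ ∈ fx 𝕄 (offJoin 2 (bT T) 𝕄)) {C : Subgroup (G ⧸ kerV 2 G)}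
    (hC : InT 2 (bT T) 𝕄 C) : Additive.ofMul σ ∈ fx 𝕄 (PMinFF.blk 2 (bT T) 𝕄 C) := by
  refine PMinFF.fix_blk h.setting (K := K.map (pr 2 G)) (fun g => ?_) hσO (mem_fx_map.2 hσK) hC
  obtain ⟨g, rfl⟩ := pr_surjective g
  have h1 : g ∈ ((K ⊔ (T : Subgroup G) : Subgroup G) : Set G) := by rw [hKT]; trivial
  rw [normal_mul] at h1
  obtain ⟨k, hk, t, ht, rfl⟩ := h1
  exact ⟨_, mem_map_of_mem _ hk, _, (coe_bT T).ge (mem_map_of_mem _ ht), map_mul _ k t⟩

omit hKT in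
/-- On two elements with equal images the commutator is fixed by `K`. -/
theorem fixK_same {a b : MulAut ↥(T : Subgroup G)} {x y : G} (hx : x ∈ imV T a) (hy : y ∈ imV T b)
    (e : pr 2 G x = pr 2 G y) : ∀ k ∈ K, k * ⁅y, x⁆ = ⁅y, x⁆ * k := by
  set c := y⁻¹ * x with hc
  have hcQ : c ∈ pCore 2 G := (h.mem_core_iff (mul_mem (inv_mem (imV_le_T b hy)) (imV_le_T a hx))).2
    (by rw [map_mul, map_inv, e, inv_mul_cancel])
  have key : ⁅y, x⁆ = y * (c * c)⁻¹ * y⁻¹ := by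
    have hy' : y⁻¹ = y := inv_eq_of_mul_eq_one_right (imV_sq hy)
    have hx' : x⁻¹ = x := inv_eq_of_mul_eq_one_right (imV_sq hx)
    simp only [hc, commutatorElement_def, _root_.mul_inv_rev, inv_inv, hy', hx', mul_assoc, imV_sq hy]
    simp
  have hfix : ⁅y, x⁆ = (c * c)⁻¹ := by
    have h2 : y * ⁅y, x⁆ = ⁅y, x⁆ * y := imV_comm hy (h.commutator_mem hy hx).1
    have h3 : y⁻¹ * ⁅y, x⁆ * y = (c * c)⁻¹ := by rw [key]; group
    rw [← h3, mul_assoc, ← h2, inv_mul_cancel_left]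
  intro k hk
  rw [hfix]
  exact ((show Commute k (c * c) from fixK_sq K hKQ hcQ k hk).inv_right).eq

/-- Non-commuting images of one vertex commute. -/
theorem no_triangle {a b : MulAut ↥(T : Subgroup G)} (ha : Adj T 1 a) (hb : Adj T 1 b) : ¬ Adj T a b := by
  intro hab
  obtain ⟨x₀, hx₀, y₀, hy₀, hne⟩ := hab
  have hab : Adj T a b := ⟨x₀, hx₀, y₀, hy₀, hne⟩
  have hT1 : ∀ y ∈ imV T b, ∃ v : ↥(modV 2 G), ∀ x ∈ imV T a, ⁅y, x⁆ = ⁅(v : G), x⁆ := by
    intro y hy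
    obtain ⟨v, hv, e⟩ := h.transfer ha.symm hy
    rw [h.imV_one] at hv
    exact ⟨⟨v, hv⟩, e⟩
  have hcomV : ∀ (v : ↥(modV 2 G)) x, x ∈ imV T a → ⁅(v : G), x⁆ ∈ modV 2 G := fun v x hx => by
    have := (h.commutator_mem (a := 1) (b := a) (x := (v : G)) (by rw [h.imV_one]; exact v.2) hx).1
    rwa [h.imV_one] at this
  -- a subgroup of `imV b`, all whose elements centralise `imV a`
  set H : Subgroup G := imV T b ⊓ centralizer (imV T a : Set G) with hH
  have hker : ∀ q ∈ imV T b, pr 2 G q = 1 → q ∈ H := by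
    intro q hq e
    refine ⟨hq, mem_centralizer_iff.2 fun x hx => ?_⟩
    obtain ⟨w, hw, rfl⟩ := mem_imV.1 hq
    have hwc : ∀ z ∈ imV T b⁻¹, z * (w : G) = w * z := by
      intro z hz
      obtain ⟨u, hu, rfl⟩ := mem_imV.1 hz
      have h1 : u * b w = b w * u := Subtype.ext (mem_centralizer_iff.1 (pr_eq_one.1 e) u hu)
      have h2 := congrArg (⇑(b⁻¹ : MulAut ↥(T : Subgroup G))) h1
      rw [map_mul, map_mul, MulAut.inv_apply_self] at h2
      exact congrArg Subtype.val h2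
    have hb' : Adj T 1 b⁻¹ := by
      have := Adj.iff_one.1 hb.symm
      rwa [mul_one] at this
    obtain ⟨x₁, hx₁, rfl⟩ := mem_imV.1 hx
    have h3 := h.comm_of_mem_fx (b := b⁻¹ * a) (h.mem_fx_offJoin_of_comm hb' (v := ⟨w, hw⟩) hwc)
      _ (mem_imV.2 ⟨x₁, hx₁, rfl⟩)
    have h4 : (b⁻¹ * a) x₁ * w = w * (b⁻¹ * a) x₁ := Subtype.ext h3
    have h5 := congrArg b h4
    rw [map_mul, map_mul, MulAut.mul_apply, MulAut.apply_inv_self] at h5
    exact congrArg Subtype.val h5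
  have hCH : ∀ C, InT 2 (bT T) 𝕄 C → C ≤ H.map (pr 2 G) := by
    intro C hC u hu
    by_cases hu1 : u = 1
    · rw [hu1]; exact one_mem _
    have huO := PMinFF.le_offJoin_of_inT hC hu
    obtain ⟨y, hy, hyu⟩ := (h.pr_surj_imV hb).ge huO
    obtain ⟨x, hx, hxy⟩ := h.exists_same_image ha b hy
    obtain ⟨v, hv⟩ := hT1 y hy
    suffices hvfix : Additive.ofMul v ∈ fx 𝕄 (offJoin 2 (bT T) 𝕄) by
      refine ⟨y, ⟨hy, mem_centralizer_iff.2 fun z hz => ?_⟩, hyu⟩
      refine (commutatorElement_eq_one_iff_mul_comm.1 ?_).symm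
      rw [hv z hz, commutatorElement_eq_one_iff_mul_comm]
      exact (h.comm_of_mem_fx hvfix z hz).symm
    refine (CfsgLib.Techniques.CharTransfer.mem_offFix (p := 2) (T := bT T)).2 ?_
    -- the diagonal commutator
    have hσ := fixK_same h K hKQ hx hy hxy
    rw [hv x hx] at hσ
    have hσval := toMod_commutator (hcomV v x hx)
    rw [hxy, hyu] at hσval
    have hσcm : toMod ⁅(v : G), x⁆ (hcomV v x hx) ∈ cm 𝕄 u := by
      rw [hσval, ← neg_sub]; exact neg_mem (mem_cm.2 ⟨_, rfl⟩)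
    have hfxO : ∀ {D : Subgroup (G ⧸ kerV 2 G)} {d : G ⧸ kerV 2 G}, InT 2 (bT T) 𝕄 D → d ∈ D →
        cm 𝕄 d ≤ fx 𝕄 (offJoin 2 (bT T) 𝕄) := fun hD hd =>
      CfsgLib.Techniques.CharTransfer.cm_le_offFix h.setting hD hd
    have hσ0 := InT.cm_disj h.setting hC hu hσcm
      (h.mem_blk_fix K hKT hKQ (σ := ⟨_, hcomV v x hx⟩) hσ (hfxO hC hu hσcm) hC)
    rw [hσval, sub_eq_zero] at hσ0
    have hvC : Additive.ofMul v ∈ fx 𝕄 C := InT.fix_of h.setting hC hu hu1 hσ0.symm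
    intro B hB
    by_cases hBC : B = C
    · exact hBC ▸ hvC
    intro w hw
    obtain ⟨y', hy', hyw⟩ := (h.pr_surj_imV hb).ge (PMinFF.le_offJoin_of_inT hB hw)
    obtain ⟨x', hx', hxy'⟩ := h.exists_same_image ha b hy'
    obtain ⟨v', hv'⟩ := hT1 y' hy'
    have hτ : ∀ k ∈ K, k * ⁅y * y', x * x'⁆ = ⁅y * y', x * x'⁆ * k :=
      fixK_same h K hKQ (mul_mem hx hx') (mul_mem hy hy') (by rw [map_mul, map_mul, hxy, hxy'])
    have hcen : ∀ {s t : G}, s ∈ imV T b → t ∈ imV T a → ∀ z, z ∈ imV T a ∨ z ∈ imV T b →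
        Commute z ⁅s, t⁆ := fun hs ht z hz => hz.elim
      (fun hz => imV_comm hz (h.commutator_mem hs ht).2) (fun hz => imV_comm hz (h.commutator_mem hs ht).1)
    have hexp : ⁅y * y', x * x'⁆ = (⁅y, x'⁆ * ⁅y', x⁆) * (⁅y', x'⁆ * ⁅y, x⁆) := by
      have e1 : ∀ s t z : G, ⁅s * t, z⁆ = s * ⁅t, z⁆ * s⁻¹ * ⁅s, z⁆ := fun s t z => by
        simp only [commutatorElement_def]; group
      have e2 : ∀ s t z : G, ⁅s, t * z⁆ = ⁅s, t⁆ * (t * ⁅s, z⁆ * t⁻¹) := fun s t z => by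
        simp only [commutatorElement_def]; group
      rw [e1, (hcen hy' (mul_mem hx hx') y (Or.inr hy)).eq, mul_inv_cancel_right, e2, e2,
        (hcen hy' hx' x (Or.inl hx)).eq, mul_inv_cancel_right, (hcen hy hx' x (Or.inl hx)).eq,
        mul_inv_cancel_right]
      have c1 : Commute ⁅y', x'⁆ ⁅y, x⁆ := hcen hy hx _ (Or.inr (h.commutator_mem hy' hx').1)
      have c2 : Commute (⁅y', x⁆ * (⁅y', x'⁆ * ⁅y, x⁆)) ⁅y, x'⁆ :=
        hcen hy hx' _ (Or.inr (mul_mem (h.commutator_mem hy' hx).1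
          (mul_mem (h.commutator_mem hy' hx').1 (h.commutator_mem hy hx).1)))
      calc ⁅y', x⁆ * ⁅y', x'⁆ * (⁅y, x⁆ * ⁅y, x'⁆) = ⁅y', x⁆ * (⁅y', x'⁆ * ⁅y, x⁆) * ⁅y, x'⁆ := by group
        _ = ⁅y, x'⁆ * (⁅y', x⁆ * (⁅y', x'⁆ * ⁅y, x⁆)) := c2.eq
        _ = _ := by group
    have hs : ∀ k ∈ K, k * (⁅y, x'⁆ * ⁅y', x⁆) = ⁅y, x'⁆ * ⁅y', x⁆ * k := by
      intro k hk
      have h1 : Commute k ((⁅y, x'⁆ * ⁅y', x⁆) * (⁅y', x'⁆ * ⁅y, x⁆)) := hexp ▸ hτ k hk
      have h2 : Commute k (⁅y', x'⁆ * ⁅y, x⁆) :=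
        Commute.mul_right (fixK_same h K hKQ hx' hy' hxy' k hk) (fixK_same h K hKQ hx hy hxy k hk)
      have h3 := h1.mul_right h2.inv_right
      rwa [mul_inv_cancel_right] at h3
    rw [hv x' hx', hv' x hx] at hs
    have e1 := toMod_commutator (hcomV v x' hx')
    rw [hxy', hyw] at e1
    have e2 := toMod_commutator (hcomV v' x hx)
    rw [hxy, hyu] at e2
    have hcm1 : toMod ⁅(v : G), x'⁆ (hcomV v x' hx') ∈ cm 𝕄 w := by
      rw [e1, ← neg_sub]; exact neg_mem (mem_cm.2 ⟨_, rfl⟩)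
    have hcm2 : toMod ⁅(v' : G), x⁆ (hcomV v' x hx) ∈ cm 𝕄 u := by
      rw [e2, ← neg_sub]; exact neg_mem (mem_cm.2 ⟨_, rfl⟩)
    have hsum := h.mem_blk_fix K hKT hKQ (σ := ⟨_, mul_mem (hcomV v x' hx') (hcomV v' x hx)⟩) hs
      (add_mem (hfxO hB hw hcm1) (hfxO hC hu hcm2)) hB
    have h2' := InT.cm_le_fix h.setting hB hC (Ne.symm hBC) hu hcm2
    have h0 := InT.cm_disj h.setting hB hw hcm1
      ((AddSubgroup.add_mem_cancel_right _ h2').1 hsum)
    rw [e1, sub_eq_zero] at h0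
    exact h0.symm
  -- so everything in `imV b` centralises `imV a`
  obtain ⟨z, hz, ez⟩ := (iSup_le fun C => hCH C.1 C.2 : offJoin 2 (bT T) 𝕄 ≤ H.map (pr 2 G))
    (h.pr_imV b (mem_map_of_mem _ hy₀))
  have hq : z⁻¹ * y₀ ∈ H := hker _ (mul_mem (inv_mem hz.1) hy₀) (by rw [map_mul, map_inv, ez, inv_mul_cancel])
  have hy0 : y₀ ∈ H := by simpa using mul_mem hz hq
  exact hne (mem_centralizer_iff.1 hy0.2 x₀ hx₀)

/-- Neighbours of one vertex have the same neighbours. -/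
theorem same_nbr {a b c : MulAut ↥(T : Subgroup G)} (ha : Adj T 1 a) (hb : Adj T 1 b) (hbc : Adj T b c) :
    Adj T a c := by
  by_cases hc : Adj T 1 c
  · exact absurd hbc (h.no_triangle K hKT hKQ hb hc)
  by_contra hac
  have hcV : ∀ z ∈ imV T c, ∀ v ∈ modV 2 G, v * z = z * v := fun z hz v hv => by
    by_contra hne
    exact hc ⟨v, by rw [h.imV_one]; exact hv, z, hz, hne⟩
  have hcQ : ∀ z ∈ imV T c, z ∈ pCore 2 G := fun z hz =>
    (h.mem_core_iff (imV_le_T c hz)).2 (pr_eq_one.2 (mem_centralizer_iff.2 fun v hv => hcV z hz v hv))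
  obtain ⟨C, hC, -⟩ := h.exists_inT
  obtain ⟨u, hu, hu1⟩ := InT.exists_ne_one h.setting hC
  refine hu1 (h.setting.faithful u fun m => ?_)
  obtain ⟨y, hy, hyu⟩ := (h.pr_surj_imV hb).ge (PMinFF.le_offJoin_of_inT hC hu)
  obtain ⟨x, hx, hxy⟩ := h.exists_same_image ha b hy
  set v : ↥(modV 2 G) := Additive.toMul m with hv
  obtain ⟨z, hz, hzv⟩ := h.transfer hbc (show (v : G) ∈ imV T 1 by rw [h.imV_one]; exact v.2)
  have hzx : z * x = x * z := by
    by_contra hne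
    exact hac ⟨x, hx, z, hz, fun e => hne e.symm⟩
  set d := y⁻¹ * x with hd
  have hdQ : d ∈ pCore 2 G := (h.mem_core_iff (mul_mem (inv_mem (imV_le_T b hy)) (imV_le_T a hx))).2
    (by rw [map_mul, map_inv, hxy, inv_mul_cancel])
  have hcy : y * ⁅z, y⁆ = ⁅z, y⁆ * y := imV_comm hy (h.commutator_mem hz hy).2
  have hzd : ⁅z, y⁆ = ⁅z, d⁆⁻¹ := by
    have e0 : ⁅z, x⁆ = 1 := commutatorElement_eq_one_iff_mul_comm.2 hzx
    rw [show x = y * d by rw [hd, mul_inv_cancel_left],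
      show ⁅z, y * d⁆ = ⁅z, y⁆ * y * ⁅z, d⁆ * y⁻¹ by simp only [commutatorElement_def]; group,
      ← hcy, mul_inv_eq_one, mul_assoc, mul_eq_left] at e0
    exact eq_inv_of_mul_eq_one_left e0
  have hσK : ∀ k ∈ K, k * ⁅(v : G), y⁆ = ⁅(v : G), y⁆ * k := fun k hk => by
    rw [hzv y hy, hzd]
    exact ((show Commute k ⁅z, d⁆ from fixK_commutator K hKQ (hcQ z hz) hdQ k hk).inv_right).eq
  have hmem : ⁅(v : G), y⁆ ∈ modV 2 G := by
    have := (h.commutator_mem (a := 1) (b := b) (x := (v : G)) (by rw [h.imV_one]; exact v.2) hy).1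
    rwa [h.imV_one] at this
  have e1 := toMod_commutator hmem
  rw [hyu] at e1
  have hcm : toMod ⁅(v : G), y⁆ hmem ∈ cm 𝕄 u := by
    rw [e1, ← neg_sub]; exact neg_mem (mem_cm.2 ⟨_, rfl⟩)
  have h0 := InT.cm_disj h.setting hC hu hcm (h.mem_blk_fix K hKT hKQ (σ := ⟨_, hmem⟩) hσK
    (CfsgLib.Techniques.CharTransfer.cm_le_offFix h.setting hC hu hcm) hC)
  rw [e1, sub_eq_zero] at h0
  exact h0.symm

/-- An automorphism of odd order does not move `modV` to a subgroup not commuting with it. -/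
theorem not_adj_of_odd (a : MulAut ↥(T : Subgroup G)) (ha : Odd (orderOf a)) : ¬ Adj T 1 a := by
  intro hD
  have hD' : Adj T 1 a⁻¹ := by
    have := Adj.iff_one.1 hD.symm
    rwa [mul_one] at this
  have step : ∀ d, Adj T 1 d → Adj T 1 (a * a * d) := by
    intro d hd
    have h1 : Adj T a (a * d) := by
      have := hd.mul a
      rwa [mul_one] at this
    have h2 := Adj.iff_one.1 (h.same_nbr K hKT hKQ hD' hD h1)
    rwa [inv_inv, ← mul_assoc] at h2
  have hpow : ∀ k : ℕ, Adj T 1 (a ^ (2 * k + 1)) := by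
    intro k
    induction k with
    | zero => simpa using hD
    | succ k ih =>
      have := step _ ih
      rwa [show 2 * (k + 1) + 1 = 2 + (2 * k + 1) by ring, pow_add, pow_two]
  obtain ⟨k, hk⟩ := ha
  have := hpow k
  rw [← hk, pow_orderOf_eq_one] at this
  exact not_adj_self _ this

/-- The join of the images is normal and invariant. -/
theorem exists_invariant (A : Subgroup (MulAut ↥(T : Subgroup G))) (hA : Odd (Nat.card A)) :
    ∃ U : Subgroup G, U ≠ ⊥ ∧ U.Normal ∧ U ≤ (T : Subgroup G) ∧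
      ∀ a ∈ A, ∀ x : ↥(T : Subgroup G), (x : G) ∈ U → ((a x : ↥(T : Subgroup G)) : G) ∈ U := by
  set U : Subgroup G := ⨆ a : A, imV T (a : MulAut ↥(T : Subgroup G)) with hU
  have hUT : U ≤ (T : Subgroup G) := iSup_le fun a => imV_le_T _
  have hVU : modV 2 G ≤ U := by
    rw [← h.imV_one]
    exact le_iSup (fun a : A => imV T (a : MulAut ↥(T : Subgroup G))) 1
  have hUQ : U ≤ pCore 2 G := iSup_le fun a x hx => by
    have hodd : Odd (orderOf (a : MulAut ↥(T : Subgroup G))) := by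
      rw [Subgroup.orderOf_coe]
      exact hA.of_dvd_nat (orderOf_dvd_natCard a)
    refine (h.mem_core_iff (imV_le_T _ hx)).2 (pr_eq_one.2 (mem_centralizer_iff.2 fun v hv => ?_))
    by_contra hne
    exact h.not_adj_of_odd K hKT hKQ _ hodd ⟨v, by rw [h.imV_one]; exact hv, x, hx, hne⟩
  have hn1 : K ≤ normalizer (U : Set G) := fun k hk => CfsgLib.LocalEven.mem_normalizer_of_conj_le (by
    rintro _ ⟨x, hx, rfl⟩
    show k * x * k⁻¹ ∈ U
    rw [show k * x * k⁻¹ = ⁅k, x⁆ * x by simp only [commutatorElement_def]; group]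
    exact mul_mem (hVU (hKQ k hk x (hUQ hx))) hx)
  have hn2 : (T : Subgroup G) ≤ normalizer (U : Set G) := fun t ht => CfsgLib.LocalEven.mem_normalizer_of_conj_le (by
    rw [hU, Subgroup.map_iSup]
    refine iSup_le fun a => le_trans ?_ (le_iSup (fun a : A => imV T (a : MulAut ↥(T : Subgroup G))) a)
    rintro _ ⟨x, hx, rfl⟩
    exact h.imV_normalized _ ht hx)
  refine ⟨U, fun e => h.zT_ne (le_bot_iff.1 (h.omega_le_modV.trans (hVU.trans e.le))),
    Subgroup.normalizer_eq_top_iff.1 (top_le_iff.1 (hKT.ge.trans (sup_le hn1 hn2))), hUT, fun a ha x hx => ?_⟩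
  have hle : U ≤ ((((U.subgroupOf (T : Subgroup G)).comap a.toMonoidHom)).map (T : Subgroup G).subtype) := by
    refine iSup_le fun b y hy => ?_
    obtain ⟨v, hv, rfl⟩ := mem_imV.1 hy
    refine ⟨(b : MulAut ↥(T : Subgroup G)) v, ?_, rfl⟩
    exact le_iSup (fun c : A => imV T (c : MulAut ↥(T : Subgroup G))) (⟨a, ha⟩ * b)
      (mem_imV.2 ⟨v, hv, rfl⟩)
  obtain ⟨y, hy, e⟩ := hle hx
  rw [show x = y from Subtype.ext e.symm]
  exact hy

end Fixed

end Hyps

end CfsgLib.LocalEven.PushMin
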