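import Cfsg.Agent.Lib.LocalEven.PushMin.Lift
import Cfsg.Agent.Lib.LocalEven.PushMin.Case2Block
import Cfsg.Agent.Lib.LocalEven.PushMin.Assemble
import Cfsg.Agent.Lib.LocalEven.PushMin.Member
import Cfsg.Agent.Lib.LocalEven.PushUp.Transport
import Cfsg.Agent.S2984
import Cfsg.Agent.S2985

/-!
Classes with one member: the residual of the group above the member is a subnormal block, the kernel of the action
on the module is the core, and the block is the residual of the class.
-/

set_option autoImplicit false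
set_option linter.unusedSectionVars false

namespace CfsgLib.LocalEven.PushMin

open Cfsg Subgroup
open CfsgLib.Fusion (conjSub mem_conjSub conj_mem_conjSub conjSub_conjSub conjSub_one conjSub_mono)
open CfsgLib.LocalEven.MinOffender (fx fx_anti)
open CfsgLib.LocalEven.PMinFF (InT Link blk cls mv others)
open Matrix (SpecialLinearGroup)
open scoped commutatorElement

variable {G : Type*} [Group G] [Finite G] {p : ℕ} [Fact p.Prime]

/-- A block attached to a member. -/
structure MemBlock (T : Sylow p G) (M : Subgroup G) (D : Subgroup (G ⧸ kerV p G)) (E : Subgroup G) : Prop where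
  block : IsBaumannBlock p (T : Subgroup G) E
  notLe : ¬ E ≤ M
  img : E.map (pr p G) = pResidualOf p (blk p (bT T) (Additive ↥(modV p G)) D)
  liftNorm : liftJ T D ≤ normalizer (E : Set G)
  quot : ∃ (F : Type) (_ : Field F) (_ : Fintype F), Fintype.card F = Nat.card ↥D ∧
    Nonempty (↥E ⧸ pCore p ↥E ≃* ↥(commutator (SpecialLinearGroup (Fin 2) F)))

/-- All classes have one member. -/
def OneClasses (T : Sylow p G) : Prop :=
  ∀ D D' : Subgroup (G ⧸ kerV p G), InT p (bT T) (Additive ↥(modV p G)) D →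
    InT p (bT T) (Additive ↥(modV p G)) D' → Link p (bT T) (Additive ↥(modV p G)) D D' → D = D'

variable {T : Sylow p G} {M : Subgroup G} (h : Hyps p T M)
variable {D : Subgroup (G ⧸ kerV p G)} (hD : InT p (bT T) (Additive ↥(modV p G)) D)
include h hD

/-- Every member carries a block. -/
theorem exists_memBlock : ∃ E, MemBlock T M D E := by
  classical
  have hs := h.setting
  obtain ⟨F, iF, iFF, n, H, S, K, iK, hF, hcard, hBH, hS, hHM, hHmin, hN1, hyp, hT, hd⟩ := exists_over h hD
  set B := baumannSubgroupOf p (T : Subgroup G) with hBdef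
  set E := (pResidual p ↥H).map H.subtype with hEdef
  set L := blk p (bT T) (Additive ↥(modV p G)) D with hL
  have hi : Function.Injective H.subtype := H.subtype_injective
  haveI := CfsgLib.Cores.pCore_characteristic (G := ↥(pResidual p ↥H)) p
  haveI := CfsgLib.Cores.pCore_characteristic (G := ↥E) p
  have hEB : E ⊔ B = H := by
    conv_rhs => rw [← range_subtype H, MonoidHom.range_eq_map, ← CfsgLib.Transfer.pResidual_sup_sylow S,
      Subgroup.map_sup, hS, map_subgroupOf_eq_of_le hBH]
  have hBM : B ≤ M := (Baumann.baumann_le _).trans h.sylLe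
  have hEM : ¬ E ≤ M := fun hle => hHM (hEB.ge.trans (sup_le hle hBM))
  have hB : ⁅E, B⁆ = E := lift_residual_comm hS hBH (residual_comm hyp)
  have hZ : ⁅E, omegaOneCenter p (T : Subgroup G)⁆ ≠ ⊥ := fun e =>
    hEM ((commutator_eq_bot_iff_le_centralizer.1 e).trans h.cent_omega_le)
  have hblk : IsBaumannBlock p (T : Subgroup G) E ∧
      Nonempty (↥E ⧸ pCore p ↥E ≃* ↥(commutator (SpecialLinearGroup (Fin 2) F))) := by
    rcases exists_case_block hyp hT hd F hF with ⟨P, A, B', c⟩ | ⟨h3, x⟩
    · have l := linBlock_of_case1 c (PushUp.memHyp_all hyp hT hd P) F hF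
      exact ⟨isBlock_of_lin hF hB hZ l, lift_quot hi _ l.quot⟩
    · refine ⟨isBlock_of_exc hF h3 hB hZ hS.symm hBH x, lift_quot hi _ ?_⟩
      have q := x.quot
      revert q
      rw [pResidual_top_eq]
      exact id
  obtain ⟨hOL, hcomm⟩ := others_facts h hD
  have hEL : E.map (pr p G) ≤ L := by
    rw [map_le_iff_le_comap, hEdef, map_le_iff_le_comap, pResidual, closure_le]
    intro g hg
    obtain ⟨o, ho, l, hl, e⟩ := hN1 (g : G) g.2
    have hgo : (orderOf (pr p G (g : G))).Coprime p :=
      Nat.Coprime.coprime_dvd_left (orderOf_map_dvd _ _) (by rw [Subgroup.orderOf_coe]; exact hg)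
    have h1 : (o ^ orderOf (pr p G (g : G))) * (l ^ orderOf (pr p G (g : G))) = 1 := by
      rw [← (show Commute o l from hcomm o ho l hl).mul_pow, ← e, pow_orderOf_eq_one]
    have h2 : o ^ orderOf (pr p G (g : G)) = 1 := by
      refine mem_bot.1 (hOL.le (Subgroup.mem_inf.2 ⟨pow_mem ho _, ?_⟩))
      rw [eq_inv_of_mul_eq_one_left h1]
      exact inv_mem (pow_mem hl _)
    have h3 : o = 1 := by
      have hoT : others p (bT T) (Additive ↥(modV p G)) D ≤ (bT T : Subgroup (G ⧸ kerV p G)) :=
        sSup_le fun C hC => hC.2.1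
      obtain ⟨k, hk⟩ := IsPGroup.iff_orderOf.1 (bT T).2 ⟨o, hoT ho⟩
      rw [Subgroup.orderOf_mk] at hk
      exact orderOf_eq_one_iff.1 (Nat.eq_one_of_dvd_coprimes (hgo.pow_right k)
        (orderOf_dvd_of_pow_eq_one h2) (hk ▸ dvd_rfl))
    show pr p G (g : G) ∈ L
    rw [e, h3, one_mul]; exact hl
  have hDL : D ≤ L := (InT.blk_min hs hD).aLe
  have hsup : E.map (pr p G) ⊔ D = L := by
    refine le_antisymm (sup_le hEL hDL) ((InT.blk_min hs hD).least _ le_sup_right (sup_le hEL hDL) fun hle => hEM ?_)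
    exact fun e he => h.pr_mem_map.1 (hle (mem_sup_left (mem_map_of_mem _ he)))
  have hJE : liftJ T D ≤ normalizer (E : Set G) := by
    refine (inf_le_left.trans ((Baumann.thompson_le_baumann _).trans hBH)).trans ?_
    have h1 := le_normalizer_map (H := pResidual p ↥H) H.subtype
    rwa [normalizer_eq_top, ← MonoidHom.range_eq_map, range_subtype] at h1
  have hDn : D ≤ normalizer (E.map (pr p G) : Set (G ⧸ kerV p G)) :=
    (map_liftJ h hD).ge.trans ((map_mono hJE).trans (le_normalizer_map _))
  refine ⟨E, hblk.1, hEM, le_antisymm ?_ (Baumann.pResidualOf_le_iff.2 fun x hx hco => ?_), hJE,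
    F, iF, iFF, hF.trans hcard.symm, hblk.2⟩
  · rw [← hblk.1.1, pResidualOf, pResidual, Subgroup.map_map, MonoidHom.map_closure, closure_le]
    rintro _ ⟨g, hg, rfl⟩
    refine Baumann.pResidualOf_le_iff.1 le_rfl _ (hEL (mem_map_of_mem _ g.2)) ?_
    exact Nat.Coprime.coprime_dvd_left (orderOf_map_dvd _ g) hg
  · exact SubBlock.mem_of_mem_sup_pGroup hD.1.pA hDn (hsup.ge hx) hco

theorem cls_eq_blk (hone : OneClasses T) :
    cls p (bT T) (Additive ↥(modV p G)) D = blk p (bT T) (Additive ↥(modV p G)) D :=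
  le_antisymm (iSup_le fun F => by rw [← hone D F.1 hD F.2.1 F.2.2]) (mem_cls_self h hD)

theorem blk_subnormal (hone : OneClasses T) :
    ((blk p (bT T) (Additive ↥(modV p G)) D).comap (pr p G)).IsSubnormal := by
  set A := ⨆ D : {D : Subgroup (G ⧸ kerV p G) // InT p (bT T) (Additive ↥(modV p G)) D},
    blk p (bT T) (Additive ↥(modV p G)) D.1 with hA
  set L := blk p (bT T) (Additive ↥(modV p G)) D with hL
  have hLA : L ≤ A := le_iSup (fun D : {D : Subgroup (G ⧸ kerV p G) // InT p (bT T) (Additive ↥(modV p G)) D} =>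
      blk p (bT T) (Additive ↥(modV p G)) D.1) ⟨D, hD⟩
  have hAL : A ≤ normalizer (L : Set (G ⧸ kerV p G)) := iSup_le fun F => by
    by_cases e : F.1 = D
    · rw [e]; exact Subgroup.le_normalizer
    · refine fun g hg => CfsgLib.Fusion.mem_normalizer_of_forall fun k hk => ?_
      have hne : cls p (bT T) (Additive ↥(modV p G)) F.1 ≠ cls p (bT T) (Additive ↥(modV p G)) D := by
        intro e'
        rw [cls_eq_blk h F.2 hone, cls_eq_blk h hD hone] at e'
        have hDT : D ≤ others p (bT T) (Additive ↥(modV p G)) F.1 := InT.le_others h.setting F.2 hD (Ne.symm e)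
        refine hD.1.ne (eq_bot_iff.2 fun d hd => (others_facts h F.2).1.le ⟨hDT hd, ?_⟩)
        exact e'.ge ((InT.blk_min h.setting hD).aLe hd)
      rw [cls_comm h F.2 hD hne g (mem_cls_self h F.2 hg) k (mem_cls_self h hD hk), mul_inv_cancel_right]
      exact hk
  refine IsSubnormal.step _ (A.comap (pr p G)) (comap_mono hLA)
    (Normal.isSubnormal (Normal.comap (allBlk_normal h) (pr p G)))
    ((normal_subgroupOf_iff_le_normalizer (comap_mono hLA)).2 ?_)
  exact (comap_mono hAL).trans (le_normalizer_comap _)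

omit hD in
theorem kerV_le_normalizer {E : Subgroup G} (hE : IsBaumannBlock p (T : Subgroup G) E) :
    kerV p G ≤ normalizer (E : Set G) :=
  (centralizer_le (Cfsg.Agent.S2984.result h.cE T E hE).2.1).trans (Cfsg.Agent.S2985.result h.cE T E hE)

theorem MemBlock.comap_le {E : Subgroup G} (m : MemBlock T M D E) :
    (blk p (bT T) (Additive ↥(modV p G)) D).comap (pr p G) ≤ E ⊔ (liftJ T D ⊔ kerV p G) := by
  set L := blk p (bT T) (Additive ↥(modV p G)) D
  have hs := h.setting
  have hEL : E.map (pr p G) ≤ L := m.img.le.trans (map_subtype_le _)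
  have hDL : D ≤ L := (InT.blk_min hs hD).aLe
  have hsup : L ≤ E.map (pr p G) ⊔ D := (InT.blk_min hs hD).least _ le_sup_right (sup_le hEL hDL) fun hle =>
    m.notLe fun e he => h.pr_mem_map.1 (hle (mem_sup_left (mem_map_of_mem _ he)))
  intro g hg
  have h1 : pr p G g ∈ (E ⊔ liftJ T D).map (pr p G) := by
    rw [Subgroup.map_sup, map_liftJ h hD]; exact hsup hg
  obtain ⟨x, hx, e⟩ := h1
  rw [show g = x * (x⁻¹ * g) by group]
  refine mul_mem (sup_le_sup_left le_sup_left E hx) (mem_sup_right (mem_sup_right (pr_eq_one.1 ?_)))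
  rw [map_mul, map_inv, e, inv_mul_cancel]

theorem MemBlock.subnormal {E : Subgroup G} (m : MemBlock T M D E) (hone : OneClasses T) : E.IsSubnormal := by
  set L := blk p (bT T) (Additive ↥(modV p G)) D
  have hle : E ≤ L.comap (pr p G) := map_le_iff_le_comap.1 (m.img.le.trans (map_subtype_le _))
  refine IsSubnormal.step _ _ hle (blk_subnormal h hD hone) ((normal_subgroupOf_iff_le_normalizer hle).2 ?_)
  exact (m.comap_le h hD).trans (sup_le Subgroup.le_normalizer (sup_le m.liftNorm (kerV_le_normalizer h m.block)))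

omit hD in
/-- An element of a block centralising its module lies in its core. -/
theorem mem_core_of_centralizes {E : Subgroup G} (hE : IsBaumannBlock p (T : Subgroup G) E) {e : G} (he : e ∈ E)
    (hc : e ∈ centralizer (SubBlock.bWE p E : Set G)) : e ∈ pCoreOf p E := by
  refine BlockBaumann.stab_inf_le_core hE (Subgroup.mem_inf.2 ⟨he, ?_⟩)
  refine ⟨SubBlock.le_normalizer_bW E he, SubBlock.le_normalizer_bZ E he, fun a ha => ?_⟩
  obtain ⟨w, hw, z, hz, rfl⟩ := SubBlock.exists_mul_of_sup (SubBlock.bWE_le E) ((SubBlock.bWE_sup hE).ge ha)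
  rw [SubBlock.commutator_mul_bZ hz he, commutatorElement_eq_one_iff_mul_comm.2 (mem_centralizer_iff.1 hc w hw)]
  exact one_mem _

omit hD in
/-- With all classes singletons the kernel is the core. -/
theorem kerV_eq_of_one (hone : OneClasses T) : kerV p G = pCore p G := by
  classical
  have hs := h.setting
  set 𝓔 : Set (Subgroup G) := {E | ∃ D, InT p (bT T) (Additive ↥(modV p G)) D ∧ MemBlock T M D E} with h𝓔
  set N := sSup 𝓔 with hN
  have hsub : ∀ E ∈ 𝓔, IsBaumannBlock p (T : Subgroup G) E ∧ E.IsSubnormal := by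
    rintro E ⟨D, hD, m⟩
    exact ⟨m.block, m.subnormal h hD hone⟩
  have hcomm : ∀ E ∈ 𝓔, ∀ E' ∈ 𝓔, E ≠ E' → ⁅E, E'⁆ = ⊥ := fun E hE E' hE' hne =>
    (SubBlock.blocks_eq_or_commute h.cE (hsub E hE).1 (hsub E hE).2 (hsub E' hE').1 (hsub E' hE').2).resolve_left hne
  have hLN : ∀ E ∈ 𝓔, N ≤ normalizer (E : Set G) := fun E hE => sSup_le fun E' hE' => by
    by_cases e : E' = E
    · exact e ▸ Subgroup.le_normalizer
    · intro g hg
      refine CfsgLib.Fusion.mem_normalizer_of_forall fun x hx => ?_
      rw [commutatorElement_eq_one_iff_mul_comm.1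
        (mem_bot.1 ((hcomm E' hE' E hE e).le (commutator_mem_commutator hg hx))), mul_inv_cancel_right]
      exact hx
  -- `T` permutes the members of the set
  have hconjT : ∀ E ∈ 𝓔, ∀ t ∈ (T : Subgroup G), E.map (MulAut.conj t).toMonoidHom ≤ N := by
    rintro E ⟨D, hD, m⟩ t ht
    set D' := conjSub (pr p G t) D
    have hD' : InT p (bT T) (Additive ↥(modV p G)) D' := InT.conj hs hD ((coe_bT T).ge ⟨t, ht, rfl⟩)
    obtain ⟨E', m'⟩ := exists_memBlock h hD'
    have hmT : (T : Subgroup G).map (MulAut.conj t).toMonoidHom = (T : Subgroup G) :=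
      mem_normalizer_iff_map_conj_eq.1 (Subgroup.le_normalizer ht)
    have hb : IsBaumannBlock p (T : Subgroup G) (E.map (MulAut.conj t).toMonoidHom) := by
      have := BlockBaumann.isBlock_map (MulAut.conj t) m.block
      rwa [hmT] at this
    have hs' : (E.map (MulAut.conj t).toMonoidHom).IsSubnormal :=
      IsSubnormal.map (f := (MulAut.conj t).toMonoidHom) (MulAut.conj t).surjective (m.subnormal h hD hone)
    have himg : (E.map (MulAut.conj t).toMonoidHom).map (pr p G) = E'.map (pr p G) := by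
      rw [m'.img, PMinFF.blk_conj hs ((coe_bT T).ge ⟨t, ht, rfl⟩), conjSub,
        ← BlockBaumann.map_pResidualOf (MulAut.conj (pr p G t)), ← m.img, Subgroup.map_map, Subgroup.map_map]
      congr 1
    rcases SubBlock.blocks_eq_or_commute h.cE hb hs' m'.block (m'.subnormal h hD' hone) with e | e
    · exact e.le.trans (le_sSup ⟨D', hD', m'⟩)
    exfalso
    set E₁ := E.map (MulAut.conj t).toMonoidHom
    have hW : SubBlock.bWE p E₁ ≤ modV p G := (Cfsg.Agent.S2984.result h.cE T E₁ hb).2.1
    have hle : E₁ ≤ centralizer (SubBlock.bWE p E₁ : Set G) := by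
      intro x hx
      obtain ⟨y, hy, hxy⟩ := himg.le (mem_map_of_mem _ hx)
      refine mem_centralizer_iff.2 fun w hw => ?_
      have h1 : y * w = w * y := commutatorElement_eq_one_iff_mul_comm.1 (mem_bot.1 (e.le (by
        rw [Subgroup.commutator_comm]
        exact commutator_mem_commutator hy ((SubBlock.bWE_le E₁).trans (SubBlock.bW_le E₁) hw))))
      have h2 : y⁻¹ * x ∈ kerV p G := pr_eq_one.1 (by rw [map_mul, map_inv, hxy, inv_mul_cancel])
      have h3 : w * (y⁻¹ * x) = y⁻¹ * x * w := mem_centralizer_iff.1 h2 w (hW hw)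
      calc w * x = w * (y * (y⁻¹ * x)) := by group
        _ = w * y * (y⁻¹ * x) := (mul_assoc _ _ _).symm
        _ = y * (w * (y⁻¹ * x)) := by rw [← h1, mul_assoc]
        _ = x * w := by rw [h3]; group
    have h1 := SubBlock.bWE_commutator hb
    rw [commutator_eq_bot_iff_le_centralizer.2 (Subgroup.le_centralizer_iff.1 hle)] at h1
    exact SubBlock.bWE_not_le hb (h1 ▸ bot_le)
  obtain ⟨D₀, hD₀, -⟩ := h.exists_inT
  obtain ⟨E₀, m₀⟩ := exists_memBlock h hD₀
  have hE₀ : E₀ ∈ 𝓔 := ⟨D₀, hD₀, m₀⟩
  have hTN : (T : Subgroup G) ≤ normalizer (N : Set G) := fun t ht =>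
    CfsgLib.LocalEven.mem_normalizer_of_conj_le (by
      rw [hN, map_le_iff_le_comap]
      exact sSup_le fun E hE => map_le_iff_le_comap.1 (hconjT E hE t ht))
  have hNT : N ⊔ (T : Subgroup G) = ⊤ :=
    by_contra fun hne => m₀.notLe ((le_sSup hE₀).trans (le_sup_left.trans (h.uniq _ le_sup_right hne)))
  haveI hNn : N.Normal := Subgroup.normalizer_eq_top_iff.1
    (top_le_iff.1 (hNT.ge.trans (sup_le Subgroup.le_normalizer hTN)))
  have key : ∀ S : Finset (Subgroup G), ↑S ⊆ 𝓔 → ∀ x ∈ sSup (↑S : Set (Subgroup G)), x ∈ kerV p G → x ∈ pCore p G := by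
    intro S
    induction S using Finset.induction_on with
    | empty =>
      intro _ x hx _
      rw [Finset.coe_empty, sSup_empty, mem_bot] at hx
      rw [hx]; exact one_mem _
    | insert k S hk ih =>
      intro hS x hx hxC
      rw [Finset.coe_insert] at hS hx
      have hk𝓔 : k ∈ 𝓔 := hS (Set.mem_insert k _)
      have hS' : ↑S ⊆ 𝓔 := (Set.subset_insert _ _).trans hS
      rw [sSup_insert] at hx
      have hn : sSup (↑S : Set (Subgroup G)) ≤ normalizer (k : Set G) := (sSup_le_sSup hS').trans (hLN k hk𝓔)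
      rw [← SetLike.mem_coe, Subgroup.coe_mul_of_right_le_normalizer_left k _ hn] at hx
      obtain ⟨e, he, y, hy, rfl⟩ := hx
      have hyc : y ∈ centralizer (k : Set G) := by
        have : sSup (↑S : Set (Subgroup G)) ≤ centralizer (k : Set G) := sSup_le fun E hE =>
          commutator_eq_bot_iff_le_centralizer.1 (hcomm E (hS' hE) k hk𝓔 fun e' => hk (e' ▸ Finset.mem_coe.1 hE))
        exact this hy
      have hkW : SubBlock.bWE p k ≤ modV p G := (Cfsg.Agent.S2984.result h.cE T k (hsub k hk𝓔).1).2.1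
      have hec : e ∈ centralizer (SubBlock.bWE p k : Set G) := by
        have h1 : e * y ∈ centralizer (SubBlock.bWE p k : Set G) := centralizer_le hkW hxC
        have h2 : y ∈ centralizer (SubBlock.bWE p k : Set G) :=
          centralizer_le ((SubBlock.bWE_le k).trans (SubBlock.bW_le k)) hyc
        simpa using mul_mem h1 (inv_mem h2)
      have heQ : e ∈ pCore p G :=
        SubBlock.core_le_pCore (hsub k hk𝓔).2 (mem_core_of_centralizes h (hsub k hk𝓔).1 he hec)
      refine mul_mem heQ (ih hS' y hy ?_)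
      simpa using mul_mem (inv_mem (Hyps.core_le_ker heQ)) hxC
  refine le_antisymm (CfsgLib.Cores.le_pCore ?_) Hyps.core_le_ker
  refine CfsgLib.LocalEven.Chain.isPGroup_of_coprime_eq_one fun k hk hko => ?_
  have hq : IsPGroup p (G ⧸ N) := by
    refine (T.2.map (QuotientGroup.mk' N)).of_equiv ((MulEquiv.subgroupCongr ?_).trans topEquiv)
    rw [← Subgroup.map_top_of_surjective (QuotientGroup.mk' N) (QuotientGroup.mk'_surjective N), ← hNT,
      Subgroup.map_sup, QuotientGroup.map_mk'_self, bot_sup_eq]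
  have hkN : k ∈ N := CfsgLib.Transfer.pResidual_le hq (CfsgLib.Transfer.mem_pResidual_of_coprime hko)
  exact SubBlock.eq_one_of_pElem_coprime (CfsgLib.Cores.isPGroup_pCore p)
    (key 𝓔.toFinite.toFinset (Set.Finite.coe_toFinset _).le k (by simpa using hkN) hk) hko

/-- The block of a member is the residual of its class. -/
theorem MemBlock.eq_clsRes {E : Subgroup G} (m : MemBlock T M D E) (hone : OneClasses T) : clsRes T D = E := by
  have hQ := kerV_eq_of_one h hone
  rw [clsRes, cls_eq_blk h hD hone]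
  set L := blk p (bT T) (Additive ↥(modV p G)) D
  have hle : E ≤ L.comap (pr p G) := map_le_iff_le_comap.1 (m.img.le.trans (map_subtype_le _))
  refine le_antisymm (Baumann.pResidualOf_le_iff.2 fun x hx hco => ?_) ?_
  · refine SubBlock.mem_of_mem_sup_pGroup (V := liftJ T D ⊔ kerV p G) ?_
      (sup_le m.liftNorm (kerV_le_normalizer h m.block)) (m.comap_le h hD hx) hco
    refine T.2.to_le (sup_le (inf_le_left.trans (CfsgLib.Transfer.thompsonSubgroupOf_le p _)) ?_)
    rw [hQ]; exact h.core_le
  · rw [← m.block.1]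
    exact Baumann.pResidualOf_le_iff.2 fun x hx hco => Baumann.pResidualOf_le_iff.1 le_rfl x (hle hx) hco

end CfsgLib.LocalEven.PushMin
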